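import Cfsg.Agent.H290.ElReg
import Cfsg.Agent.H203.OrthHeis
import Cfsg.Agent.H95.LSx.F42
import Cfsg.Agent.H95.LSx.G23
import Cfsg.Agent.H95.LSx.O73
import Cfsg.Agent.H95.LSx.Uni
import Cfsg.Agent.H193.Hall.U43
import Cfsg.Agent.H62.GTwoEmb
import Cfsg.Agent.H957.CfRankOne
import Cfsg.Agent.H192.SingerLS
import Cfsg.Agent.LieClassical.FieldTransfer
import Cfsg.Agent.S0825
import Cfsg.Agent.S0826
import Cfsg.Agent.S2140
import Cfsg.Agent.S2146
import Cfsg.Agent.S2148
import Cfsg.Agent.S2150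

/-!
# S3541, box SimLie: degrees of projective representations in cross characteristic, indices of subgroups (helper6)
-/

set_option autoImplicit false

namespace Cfsg.Agent.TH.Sim.LieN

open Cfsg Cfsg.Agent.OrdDiv Cfsg.Agent.H902 Cfsg.Agent.H902.Names Cfsg.Agent.H912.Bd Cfsg.Agent.H203.LS
open Cfsg.Agent.H95.LSx Cfsg.Agent.H290.ElReg

/-- the bound for kernels of order prime to the characteristic (classical groups) -/
def lc : Art.Sh → ℕ → ℕ
  | .L n, q => if n = 2 then (q - 1) / Nat.gcd 2 (q - 1) else q ^ (n - 1) - 1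
  | .C m, q => if q % 2 = 0 then q ^ m - 1 else (q ^ m - 1) / 2
  | .U n, q => (q - 1) * q ^ (n - 2)
  | .D m, q => (q - 1) * q ^ (2 * m - 4)
  | .DD m, q => (q - 1) * q ^ (2 * m - 4)
  | _, _ => 0

/-- the bound for all kernels -/
def lp : Art.Sh → ℕ → ℕ
  | .L n, q => if n = 3 ∧ q = 4 then 0 else lc (.L n) q
  | .C m, q => lc (.C m) q
  | .U n, q => if n = 4 ∧ q = 3 then 6 else lc (.U n) q
  | .D m, q => if m = 4 ∧ q = 2 then 7 else lc (.D m) q
  | .DD m, q => lc (.DD m) q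
  | .G2, q => if q = 4 then 12 else if q = 3 then 14 else (q - 1) * q
  | .F4, q => (q - 1) * q ^ 4
  | .E6, q => (q - 1) * q ^ 10
  | .E7, q => (q - 1) * q ^ 16
  | .E8, q => (q - 1) * q ^ 28
  | .TE6, q => (q - 1) * q ^ 6
  | .TD4, q => (q - 1) * q ^ 4
  | .Sz, q => q - 1
  | .Ree, q => q - 1
  | .TF4, q => (q - 1) * q ^ 2

/-- the bound for the index of a proper subgroup -/
def li : Art.Sh → ℕ → ℕ
  | .L n, q => if n = 3 ∧ q = 4 then 21 else lp (.L n) q
  | .U n, q => if n = 3 ∧ q = 3 then 28 else if n = 4 ∧ q = 3 then 112 else lp (.U n) q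
  | .D m, q => if m = 4 ∧ q = 2 then 120 else lp (.D m) q
  | .Sz, q => 2 * (q - 1)
  | X, q => lp X q

/-- the names which are not used -/
def Ex (X : Art.Sh) (q : ℕ) : Prop :=
  X = .L 2 ∧ (q = 4 ∨ q = 5 ∨ q = 9) ∨ q = 2 ∧ (X = .L 3 ∨ X = .L 4 ∨ X = .U 4)

instance (X : Art.Sh) (q : ℕ) : Decidable (Ex X q) := by unfold Ex; infer_instance

theorem ls_alt {K : Type} [Field K] [Fintype K] [DecidableEq K] [CharP K 2] (hK : Fintype.card K = 8) :
    LS.{0, 0, 0} 2 7 (alternatingGroup K) := by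
  have hc : Nat.card K = 8 := by rw [Nat.card_eq_fintype_card, hK]
  have := alternatingGroup.isSimpleGroup (α := K) (by omega)
  obtain ⟨u, hu⟩ := IsCyclic.exists_generator (α := Kˣ)
  have h7 : orderOf u = 7 := by rw [orderOf_eq_card_of_forall_mem_zpowers hu, Nat.card_units, hc]
  have h1 : (u : K) + 1 ≠ 0 := fun h => by
    have h2 : u = 1 := Units.ext (by rw [eq_neg_of_add_eq_zero_left h, CharTwo.neg_eq]; rfl)
    rw [h2, orderOf_one] at h7
    omega
  have hcj : ∀ x : K, MulAction.toPerm u * Equiv.addLeft x * (MulAction.toPerm u)⁻¹ = Equiv.addLeft (u * x : K) := by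
    intro x
    rw [mul_inv_eq_iff_eq_mul]
    ext y
    simp [Units.smul_def]
  have hadd : ∀ x y : K, Equiv.addLeft (x + y) = Equiv.addLeft x * Equiv.addLeft y := fun x y => by
    ext z; simp
  have hα : ∀ x : K, Equiv.addLeft x ∈ alternatingGroup K := fun x => by
    obtain ⟨y, rfl⟩ : ∃ y, x = u * y + y := ⟨x / (u + 1), by field_simp⟩
    rw [Equiv.Perm.mem_alternatingGroup, hadd, ← hcj, map_mul, map_mul, map_mul, map_inv, mul_inv_cancel_comm,
      Int.units_mul_self]
  have hcu : MulAction.toPerm u ∈ alternatingGroup K := by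
    have h2 : (MulAction.toPermHom Kˣ K u) ^ 7 = 1 := by rw [← map_pow, ← h7, pow_orderOf_eq_one, map_one]
    have h3 := congrArg Equiv.Perm.sign h2
    rw [map_pow, map_one] at h3
    rw [Equiv.Perm.mem_alternatingGroup]
    rcases Int.units_eq_one_or (Equiv.Perm.sign (MulAction.toPermHom Kˣ K u)) with h | h
    · exact h
    · rw [h] at h3; exact absurd h3 (by decide)
  have h := LS.frob_gen.{0, 0, 0} (r := 2) (K := K) (by omega) (T := alternatingGroup K) (α := fun x => ⟨_, hα x⟩)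
    (fun x y => Subtype.ext (hadd x y)) (x₀ := 1) (fun h => by
      have h2 := DFunLike.congr_fun (congrArg Subtype.val h) 0
      simp at h2) hu (c := ⟨_, hcu⟩) fun x => Subtype.ext (hcj x)
  rwa [hc] at h

theorem ls_a8 : LS.{0, 0, 0} 2 7 (alternatingGroup (Fin 8)) := by
  classical
  have : Fintype (GaloisField 2 3) := Fintype.ofFinite _
  have hK : Fintype.card (GaloisField 2 3) = 8 := by
    rw [← Nat.card_eq_fintype_card, GaloisField.card 2 3 (by norm_num)]; rfl
  exact (ls_alt hK).congr (Fintype.equivFinOfCardEq hK).altCongrHom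

theorem ls_of_a8 {T Y : Type} [Group T] [IsSimpleGroup T] [Group Y] (g : alternatingGroup (Fin 8) →* Y)
    (hg : Function.Injective g) (f : Y →* T) (hf : f.ker ≤ Subgroup.center Y) : LS.{0, 0, 0} 2 7 T := by
  have hc : commutator (alternatingGroup (Fin 8)) = ⊤ := commutator_alternatingGroup_eq_top (by simp)
  refine LS.of_hom hc (f.comp g) (fun h => ?_) (MonoidHom.id _) Function.surjective_id
    (fun x hx => by rw [show x = 1 from hx]; exact one_mem _) ls_a8
  have h1 : ∀ a b : alternatingGroup (Fin 8), a * b = b * a := fun a b => hg (by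
    rw [map_mul, map_mul]
    exact Subgroup.mem_center_iff.1 (hf (DFunLike.congr_fun h b)) _)
  have h2 := congrArg Subtype.val (h1 ⟨Equiv.swap 0 1 * Equiv.swap 1 2, by simp⟩ ⟨Equiv.swap 1 2 * Equiv.swap 2 3, by simp⟩)
  exact absurd h2 (by decide)

theorem ls_s62 {K S : Type} [Field K] [Fintype K] [Group S] [IsSimpleGroup S] (hK : Fintype.card K = 2)
    (e : S ≃* PSp 3 K) : LS.{0, 0, 0} 2 7 S := by
  obtain ⟨f, hf⟩ := S0826.result 4 (by norm_num)
  let e' := LieClassical.FieldTransfer.pspCongr 3 (ZMod.ringEquivOfPrime K Nat.prime_two hK)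
  refine ls_of_a8 (Y := Matrix.symplecticGroup (Fin 3) (ZMod 2)) (f.comp (alternatingGroup (Fin 8)).subtype)
    (hf.comp (Subgroup.subtype_injective _)) ((e'.trans e.symm).toMonoidHom.comp (QuotientGroup.mk' _)) fun x hx => ?_
  have h1 : (e'.trans e.symm) (QuotientGroup.mk' _ x) = 1 := hx
  rwa [MulEquiv.map_eq_one_iff, QuotientGroup.mk'_apply, QuotientGroup.eq_one_iff] at h1

theorem ls_o82 {K S : Type} [Field K] [Fintype K] [Group S] [IsSimpleGroup S] (hK : Fintype.card K = 2)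
    (e : S ≃* POmega K (quadFormPlus 4 K)) : LS.{0, 0, 0} 2 7 S := by
  obtain ⟨θ⟩ := S0825.result hK
  obtain ⟨f, hf⟩ := exists_plus (K := K) (m := 3) (n := 4) (by norm_num)
  let g := θ.symm.toMonoidHom.comp (alternatingGroup (Fin 8)).subtype
  have hc : commutator (alternatingGroup (Fin 8)) = ⊤ := commutator_alternatingGroup_eq_top (by simp)
  have hmem : ∀ x, g x ∈ commutator (isometryGroup K (quadFormPlus 3 K)) := fun x => by
    have h1 : (⊤ : Subgroup (alternatingGroup (Fin 8))).map g ≤ commutator _ := by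
      rw [← hc, commutator_def, Subgroup.map_commutator, commutator_def]
      exact Subgroup.commutator_mono le_top le_top
    exact h1 (Subgroup.mem_map_of_mem g (Subgroup.mem_top x))
  refine ls_of_a8 (Y := Omega K (quadFormPlus 3 K)) (g.codRestrict _ hmem)
    (fun a b h => (θ.symm.injective.comp (Subgroup.subtype_injective _)) (congrArg Subtype.val h))
    (e.symm.toMonoidHom.comp f) fun x hx => hf ?_
  have h1 : e.symm (f x) = 1 := hx
  rwa [MulEquiv.map_eq_one_iff] at h1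

theorem ls_g24 {K S : Type} [Field K] [Fintype K] [Group S] [IsSimpleGroup S] (hK : Fintype.card K = 4)
    (e : S ≃* Lie.chevG2.group K) : LS.{0, 0, 0} 2 12 S := by
  have : Fintype (GaloisField 2 4) := Fintype.ofFinite _
  have hL : Fintype.card (GaloisField 2 4) = 4 ^ 2 := by
    rw [← Nat.card_eq_fintype_card, GaloisField.card 2 4 (by norm_num)]; rfl
  obtain ⟨f, hf⟩ := H62.GTwoEmb.psu_g2 hK hL
  have := S0283.result hL 3 le_rfl (by norm_num)
  have h1 : LS.{0, 0, 0} 2 12 (PSU 3 (GaloisField 2 4) 4) :=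
    LS.of_bd (NoR.of_cyclic (S2089.result 3 4 hL le_rfl (by norm_num) (by simp)) (by decide)) fun k _ hk =>
      H175.BdSU.bd_psu Nat.prime_two hL le_rfl hk (MulEquiv.refl _)
  have h2 : Nat.card (PSU 3 (GaloisField 2 4) 4) = 62400 := by
    have h3 := (psu_real (p := 2) (f := 2) Nat.prime_two (by norm_num) hL le_rfl (by norm_num)).eq
    have h4 : Art.dd (.U 3) (2 ^ 2) = 1 := by decide
    have h5 : (2 ^ 2) ^ Art.NN (.U 3) * Art.num (.U 3) (2 ^ 2) = 62400 := by decide
    rwa [h4, h5, one_mul] at h3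
  have : Finite (PSU 3 (GaloisField 2 4) 4) := Nat.finite_of_card_ne_zero (by omega)
  refine LS.of_sub (perfect_of_simple fun hc => ?_) (e.symm.toMonoidHom.comp f) (e.symm.injective.comp hf) h1
  have h3 := @IsSimpleGroup.prime_card (PSU 3 (GaloisField 2 4) 4)
    { (inferInstance : Group _) with mul_comm := hc.is_comm.comm } ‹_›
  rw [h2] at h3
  norm_num at h3

section

variable {S : Type} [Group S] {g : Grp} {X : Art.Sh} {r f : ℕ}

theorem half_le {q m : ℕ} (hq : 3 ≤ q) (hm : 3 ≤ m) : (q ^ m - 1) / 2 ≤ (q - 1) * q ^ (2 * m - 3) := by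
  have h1 : q ^ m ≤ q ^ (2 * m - 3) := Nat.pow_le_pow_right (by omega) (by omega)
  have h2 : 1 * q ^ (2 * m - 3) ≤ (q - 1) * q ^ (2 * m - 3) := Nat.mul_le_mul_right _ (by omega)
  omega

theorem bd_lc (hg : IsLie g X r f) (h : OrdDiv.Real g S) (hr : Art.Real X r f (Nat.card S)) {k : Type} [Field k]
    (hk : (r : k) ≠ 0) : Bd k r (lc X (r ^ f)) S := by
  obtain ⟨hl, ha, hok, -⟩ := hr
  cases hg with
  | psl m p f =>
    obtain ⟨K, _, _, hK, ⟨e⟩⟩ := h
    have := charP_of_pow hl hK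
    rw [lc]
    split_ifs with h2
    · subst h2
      refine H203.BdSL2.bd_of_sl2 hl hK hk (e.symm.toMonoidHom.comp (QuotientGroup.mk' _)) fun x hx => ?_
      have h1 : e.symm (QuotientGroup.mk' _ x) = 1 := hx
      rwa [MulEquiv.map_eq_one_iff, QuotientGroup.mk'_apply, QuotientGroup.eq_one_iff] at h1
    · rw [← hK]
      exact (bd_psl hl hk (by have := hok.1; omega) inferInstance).congr e
  | psp m p f =>
    obtain ⟨K, _, _, hK, ⟨e⟩⟩ := h
    have := charP_of_pow hl hK
    rw [lc]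
    split_ifs with h2
    · obtain rfl : r = 2 := ((Nat.prime_dvd_prime_iff_eq Nat.prime_two hl).1
        (Nat.prime_two.dvd_of_dvd_pow (Nat.dvd_of_mod_eq_zero h2))).symm
      exact H175.BdSp.bd_psp_even hK (by have := hok.1; omega) (by exact_mod_cast hk) e
    · exact H175.BdSp.bd_psp hl hK (by have := hok.1; omega) hk e
  | oodd m p f hm ho =>
    obtain ⟨K, _, _, hK, ⟨e⟩⟩ := h
    have hc := charP_of_pow hl hK
    have h1 := Nat.odd_iff.1 ho
    have h2 : (2 : K) ≠ 0 := fun h2 => by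
      obtain rfl := (Nat.prime_dvd_prime_iff_eq hl Nat.prime_two).1 ((CharP.cast_eq_zero_iff K r 2).1 (by exact_mod_cast h2))
      rw [Nat.odd_pow_iff (by omega)] at ho
      exact absurd ho (by decide)
    have h3 : 1 < r ^ f := Nat.one_lt_pow (by omega) hl.one_lt
    rw [lc, if_neg (by omega)]
    intro n hn
    have h4 := (H203.OrthHeis.bd_pomega_odd_heis hl hk hK h2 hm).congr e n hn
    rw [hK] at h4
    exact (half_le (by omega) hm).trans h4
  | psu m p f =>
    obtain ⟨K, _, _, hK, ⟨e⟩⟩ := h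
    have := charP_of_pow hl (a := f * 2) (by rw [hK, pow_mul])
    exact H175.BdSU.bd_psu hl hK hok.1 hk e
  | oplus m p f =>
    obtain ⟨K, _, _, hK, ⟨e⟩⟩ := h
    have h4 := (H203.OrthHeis.bd_pomega_plus_heis hl hk hK hok).congr e
    rwa [hK] at h4
  | ominus m p f =>
    obtain ⟨K, _, _, b, c, hK, hab, ⟨e⟩⟩ := h
    have h4 := (H203.OrthHeis.bd_pomega_minus_heis hl hk hK hok hab).congr e
    rwa [hK] at h4
  | _ => exact fun _ _ => Nat.zero_le _

theorem eq_of_pow {r f s k : ℕ} (hr : r.Prime) (hf : 1 ≤ f) (hs : s.Prime) (h : r ^ f = s ^ k) : r = s :=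
  eq_of_dvd_prime_pow hr hs (h ▸ dvd_pow_self r (by omega))

variable [IsSimpleGroup S]

theorem ls_lp (hg : IsLie g X r f) (h : OrdDiv.Real g S) (hr : Art.Real X r f (Nat.card S)) (hx : ¬ Ex X (r ^ f)) :
    LS.{0, 0, 0} r (lp X (r ^ f)) S := by
  have key : NoR.{0} r S → LS.{0, 0, 0} r (lc X (r ^ f)) S := fun hN => LS.of_bd hN fun k _ hk => bd_lc hg h hr hk
  obtain ⟨hl, ha, hok, -⟩ := hr
  have hd : r ∣ r ^ f := dvd_pow_self r (by omega)
  have h0 : 0 < r ^ f := pow_pos hl.pos f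
  have hq : IsPrimePow (r ^ f) := hl.isPrimePow.pow (by omega)
  cases hg with
  | psl m p f =>
    obtain ⟨K, _, _, hK, ⟨e⟩⟩ := h
    rw [lp]
    split_ifs with h2
    · exact fun _ _ _ _ _ _ _ _ _ _ _ _ _ => Nat.zero_le _
    · refine key ((NoR.of_cyclic (S2086.result hK m hok.1 hok.2 ?_) (coprime_gcd_sub hl h0 hd)).congr e)
      simp only [Ex, Art.Sh.L.injEq, reduceCtorEq] at hx
      simp only [Set.mem_insert_iff, Set.mem_singleton_iff, Prod.mk.injEq]
      omega
  | psp m p f =>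
    obtain ⟨K, _, _, hK, ⟨e⟩⟩ := h
    by_cases h2 : m = 3 ∧ r ^ f = 2
    · obtain ⟨rfl, h2⟩ := h2
      obtain rfl := eq_of_pow hl ha Nat.prime_two (k := 1) h2
      rw [h2] at hK ⊢
      exact ls_s62 hK e
    · exact key ((NoR.of_cyclic (S2092.result hK m hok.1 hok.2 h2) (coprime_gcd_sub hl h0 hd)).congr e)
  | oodd m p f hm ho =>
    obtain ⟨K, _, _, hK, ⟨e⟩⟩ := h
    by_cases h2 : m = 3 ∧ r ^ f = 3
    · obtain ⟨rfl, h2⟩ := h2
      obtain rfl := eq_of_pow hl ha Nat.prime_three (k := 1) h2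
      rw [h2] at hK ⊢
      exact ((ls_o73 hK).congr e.symm).mono (by decide)
    · exact key ((NoR.of_cyclic (S2094.result hK ho m hm h2) (Nat.coprime_two_left.2 (Odd.of_dvd_nat ho hd))).congr e)
  | psu m p f =>
    obtain ⟨K, _, _, hK, ⟨e⟩⟩ := h
    rw [lp]
    split_ifs with h2
    · obtain ⟨rfl, h2⟩ := h2
      obtain rfl := eq_of_pow hl ha Nat.prime_three (k := 1) h2
      rw [h2] at hK e
      exact (H193.Hall.ls_u43 hK).congr e.symm
    by_cases h3 : m = 6 ∧ r ^ f = 2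
    · obtain ⟨rfl, h3⟩ := h3
      obtain rfl := eq_of_pow hl ha Nat.prime_two (k := 1) h3
      rw [h3] at hK e ⊢
      exact (Uni.ls_u62 hK).congr e.symm
    · refine key ((NoR.of_cyclic (S2089.result m _ hK hok.1 (fun h => by have := hok.2 h.1; omega) ?_)
        (coprime_gcd_add hl hd)).congr e)
      simp only [Ex, Art.Sh.U.injEq, reduceCtorEq] at hx
      simp only [Set.mem_insert_iff, Set.mem_singleton_iff, Prod.mk.injEq]
      omega
  | oplus m p f =>
    obtain ⟨K, _, _, hK, ⟨e⟩⟩ := h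
    have hm : 4 ≤ m := hok
    have h1 : (Nat.gcd 2 ((r ^ f) ^ m - 1)).Coprime r := coprime_gcd_sub hl (pow_pos h0 _) (dvd_pow hd (by omega))
    rw [lp]
    split_ifs with h2
    · obtain ⟨rfl, h2⟩ := h2
      obtain rfl := eq_of_pow hl ha Nat.prime_two (k := 1) h2
      exact ls_o82 (hK.trans h2) e
    rcases Nat.even_or_odd m with hev | hod
    · refine key ((NoR.of_mult (S2097.result hK m hm hev h2) ?_).congr e)
      rw [Nat.card_congr Multiplicative.toAdd, Nat.card_prod, Nat.card_zmod]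
      exact Nat.Coprime.mul_left h1 h1
    · exact key ((NoR.of_cyclic (S2096.result hK m (by have := Nat.odd_iff.1 hod; omega) hod)
        (coprime_gcd_sub hl (pow_pos h0 _) (dvd_pow hd (by omega)))).congr e)
  | ominus m p f =>
    obtain ⟨K, _, _, b, c, hK, hab, ⟨e⟩⟩ := h
    have hm : 4 ≤ m := hok
    exact key ((NoR.of_cyclic (S2099.result hK m hm b c hab) (coprime_gcd_add hl (dvd_pow hd (by omega)))).congr e)
  | g2 p f =>
    obtain ⟨K, _, _, hK, ⟨e⟩⟩ := h
    have hc := charP_of_pow hl hK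
    have h3 : 3 ≤ r ^ f := hok
    rw [lp]
    split_ifs with h4 h5
    · obtain rfl := eq_of_pow hl ha Nat.prime_two (k := 2) h4
      exact ls_g24 (hK.trans h4) e
    · obtain rfl := eq_of_pow hl ha Nat.prime_three (k := 1) h5
      exact (G23.ls (hK.trans h5)).congr e.symm
    · have h6 := (H203.LS.G2.ls.{0, 0, 0} (r := r) K (by rw [Nat.card_eq_fintype_card]; omega)
        (by rw [Nat.card_eq_fintype_card]; omega)).congr e.symm
      rwa [Nat.card_eq_fintype_card, hK] at h6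
  | f4 p f =>
    obtain ⟨K, _, _, hK, ⟨e⟩⟩ := h
    have hc := charP_of_pow hl hK
    by_cases h4 : r ^ f = 2
    · obtain rfl := eq_of_pow hl ha Nat.prime_two (k := 1) h4
      rw [h4] at hK ⊢
      exact (ls_f4_two hK).congr e.symm
    have h1 : 1 < r ^ f := Nat.one_lt_pow (by omega) hl.one_lt
    have h5 : LS.{0, 0, 0} r ((Nat.card K - 1) * Nat.card K ^ 4) (Lie.chevF4.group K) := by
      by_cases h2 : (2 : K) = 0
      · exact F4even.ls_even K h2 (by rw [Nat.card_eq_fintype_card]; omega)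
      · exact F4odd.ls_odd K h2
    rw [Nat.card_eq_fintype_card, hK] at h5
    exact h5.congr e.symm
  | e6 p f =>
    obtain ⟨K, _, _, hK, ⟨e⟩⟩ := h
    have hc := charP_of_pow hl hK
    have h5 := (H203.LS.E6.ls.{0, 0, 0} (r := r) K).congr e.symm
    rwa [Nat.card_eq_fintype_card, hK] at h5
  | e7 p f =>
    obtain ⟨K, _, _, hK, ⟨e⟩⟩ := h
    have hc := charP_of_pow hl hK
    have h5 := (H203.LS.E7.ls.{0, 0, 0} (r := r) K).congr e.symm
    rwa [Nat.card_eq_fintype_card, hK] at h5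
  | e8 p f =>
    obtain ⟨K, _, _, hK, ⟨e⟩⟩ := h
    have hc := charP_of_pow hl hK
    have h5 := (H203.LS.E8.ls.{0, 0, 0} (r := r) K).congr e.symm
    rwa [Nat.card_eq_fintype_card, hK] at h5
  | te6 p f =>
    obtain ⟨K, _, _, hK, ⟨e⟩⟩ := h
    have hc := charP_of_pow hl (a := f * 2) (by rw [hK, pow_mul])
    exact (H203.LS.TwE6.ls hq hK).congr e.symm
  | td4 p f =>
    obtain ⟨K, _, _, hK, ⟨e⟩⟩ := h
    have hc := charP_of_pow hl (a := f * 3) (by rw [hK, pow_mul])
    exact (H203.LS.TwD4.ls hq hK).congr e.symm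
  | sz p f =>
    obtain ⟨K, _, _, m, hm, hK, hq, ⟨e⟩⟩ := h
    obtain ⟨rfl, -, -⟩ := hok
    have h5 := (LS.sz.{0, 0, 0} hm (hK.trans hq)).congr e.symm
    rwa [Nat.card_eq_fintype_card, hK] at h5
  | ree p f =>
    obtain ⟨K, _, _, m, hm, hK, hq, ⟨e⟩⟩ := h
    obtain ⟨rfl, -, -⟩ := hok
    have h5 := (LS.ree.{0, 0, 0} hm (hK.trans hq)).congr e.symm
    rwa [Nat.card_eq_fintype_card, hK] at h5
  | tf4 p f =>
    obtain ⟨K, _, _, m, hm, hK, hq, ⟨e⟩⟩ := h
    obtain ⟨rfl, -, -⟩ := hok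
    have h5 := (H203.LS.TwF4.ls.{0, 0, 0} hm (hK.trans hq)).congr e.symm
    rwa [Nat.card_eq_fintype_card, hK] at h5

variable [Finite S]

theorem le_index_of_ls (hna : ¬ IsMulCommutative S) {d : ℕ} (hr : r ≠ 0) (h : LS.{0, 0, 0} r d S) (M : Subgroup S)
    (hM : M ≠ ⊤) : d ≤ M.index := by
  classical
  have := Fintype.ofFinite (S ⧸ M)
  have h1 : M.normalCore = ⊥ :=
    M.normalCore_normal.eq_bot_or_eq_top.resolve_right fun h1 => hM (eq_top_iff.2 (h1 ▸ M.normalCore_le))
  have h2 : Function.Injective (MulAction.toPermHom S (S ⧸ M)) := by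
    rw [← MonoidHom.ker_eq_bot_iff, ← Subgroup.normalCore_eq_ker, h1]
  have h3 : Fth (Fintype.card (S ⧸ M)) ℚ S := by
    refine Fth.of (ρ := (Matrix.permMatrixHom (R := ℚ)).toHomUnits.comp (MulAction.toPermHom S (S ⧸ M))) ?_
    refine (injective_iff_map_eq_one _).2 fun a ha => h2 ?_
    have h4 : (MulAction.toPermHom S (S ⧸ M) a)⁻¹.permMatrix ℚ = 1 := congrArg Units.val ha
    rw [map_one, ← inv_eq_one]
    ext i
    by_contra h5
    have h6 := congrFun (congrFun h4 i) i
    rw [Matrix.one_apply_eq, Equiv.Perm.permMatrix, PEquiv.toMatrix_apply, if_neg (by simpa using h5)] at h6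
    exact zero_ne_one h6
  rw [Subgroup.index, Nat.card_eq_fintype_card]
  exact ls_le (fun hc => hna ⟨⟨hc⟩⟩) h h3 (by exact_mod_cast hr)

theorem li_le (hna : ¬ IsMulCommutative S) (hg : IsLie g X r f) (h : OrdDiv.Real g S)
    (hr : Art.Real X r f (Nat.card S)) (hx : ¬ Ex X (r ^ f)) (M : Subgroup S) (hM : M ≠ ⊤) :
    li X (r ^ f) ≤ M.index := by
  have key := le_index_of_ls hna hr.hp.ne_zero (ls_lp hg h hr hx) M hM
  have tr : ∀ {Y : Type} [Group Y] (e : S ≃* Y) {c : ℕ}, (∀ M : Subgroup Y, M ≠ ⊤ → c ≤ M.index) → c ≤ M.index :=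
    fun e c hc => by
      rw [← Subgroup.index_map_of_bijective (f := e.toMonoidHom) e.bijective M]
      refine hc _ fun h1 => hM ?_
      rw [← Subgroup.index_eq_one, Subgroup.index_map_of_bijective (f := e.toMonoidHom) e.bijective M] at h1
      exact Subgroup.index_eq_one.1 h1
  cases hg with
  | psl m p f =>
    obtain ⟨K, _, _, hK, ⟨e⟩⟩ := h
    rw [li]
    split_ifs with h2
    · obtain ⟨rfl, h2⟩ := h2
      exact tr e (S2140.result (hK.trans h2) 3 le_rfl (by omega)).1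
    · exact key
  | psu m p f =>
    obtain ⟨K, _, _, hK, ⟨e⟩⟩ := h
    rw [li]
    split_ifs with h2 h3
    · obtain ⟨rfl, h2⟩ := h2
      rw [h2] at hK e
      exact tr e (S2148.result 3 hK le_rfl (by omega)).1
    · obtain ⟨rfl, h4⟩ := h3
      rw [h4] at hK e
      exact tr e (S2150.result 3 hK (by omega)).1
    · exact key
  | oplus m p f =>
    obtain ⟨K, _, _, hK, ⟨e⟩⟩ := h
    rw [li]
    split_ifs with h2
    · obtain ⟨rfl, h2⟩ := h2
      exact tr e (S2146.result (hK.trans h2) 4 le_rfl).1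
    · exact key
  | sz p f =>
    obtain ⟨K, _, _, m, hm, hK, hq, ⟨e⟩⟩ := h
    have := Finite.of_equiv _ e.toEquiv
    rw [li, ← hK]
    exact tr e (H957.CfRankOne.sz_index hm (hK.trans hq) e.symm.isSimpleGroup)
  | _ => exact key

end

end Cfsg.Agent.TH.Sim.LieN
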