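import Cfsg.Agent.TH.Alt.Intr
import Cfsg.Agent.TH.Alt.Prim
import Cfsg.Agent.TH.Alt.Lib
import Cfsg.Agent.H412.AltIndex

/-!
# S3541, box Alt: the indices of the proper subgroups of an alternating group (helper74)
-/

set_option autoImplicit false
set_option linter.unusedSectionVars false

namespace Cfsg.Agent.TH.Sim.Al

open Equiv Equiv.Perm MulAction Alt
open scoped Pointwise

section

variable {α : Type*} [Fintype α] [DecidableEq α]

/-- the permutations which preserve the fibres of `f` -/
def Fib {ι : Type*} (f : α → ι) : Subgroup (Perm α) where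
  carrier := {σ | f ∘ σ = f}
  mul_mem' := fun {σ τ} h1 h2 => by
    show (f ∘ σ) ∘ τ = f
    rw [h1, h2]
  one_mem' := rfl
  inv_mem' := fun {σ} h => funext fun a => by
    have h1 := congrFun h (σ⁻¹ a)
    rw [Function.comp_apply, ap_inv] at h1
    exact h1.symm

/-- the order of an imprimitive group -/
theorem card_dvd_block (L : Subgroup (Perm α)) [IsPretransitive L α] {B : Set α} (hB : IsBlock L B) (h0 : B.Nonempty) :
    Nat.card L ∣ B.ncard.factorial ^ (orbit L B).ncard * (orbit L B).ncard.factorial := by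
  classical
  have h1 := (hB.isBlockSystem h0).1.2
  choose f0 hf0 hf1 using h1
  let f : α → orbit L B := fun a => ⟨f0 a, (hf0 a).1⟩
  have hf : ∀ a (C : orbit L B), f a = C ↔ a ∈ C.1 := fun a C =>
    ⟨fun h => h ▸ (hf0 a).2, fun h => Subtype.ext (hf1 a C.1 ⟨C.2, h⟩).symm⟩
  let φ := toPermHom L (orbit L B)
  have := Fintype.ofFinite (orbit L B)
  have h2 : Nat.card (Fib f) = B.ncard.factorial ^ (orbit L B).ncard := by
    refine (DomMulAct.stabilizer_ncard f).trans ?_
    rw [← Nat.card_coe_set_eq (orbit L B), Nat.card_eq_fintype_card, ← Finset.card_univ, ← Finset.prod_const]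
    refine Finset.prod_congr rfl fun C _ => congrArg _ ?_
    obtain ⟨_, g, rfl⟩ := C
    rw [← Set.ncard_smul_set g B]
    exact congrArg _ (Set.ext fun a => hf a _)
  have h3 : φ.ker.map L.subtype ≤ Fib f := by
    rintro _ ⟨g, hg, rfl⟩
    refine funext fun a => (hf _ _).2 ?_
    have h4 : g • (f a).1 = (f a).1 := congrArg Subtype.val (DFunLike.congr_fun hg (f a))
    rw [← h4]
    exact Set.smul_mem_smul_set (hf0 a).2
  rw [← φ.ker.card_mul_index, Subgroup.index_ker, ← h2, ← Nat.card_coe_set_eq (orbit L B), ← Nat.card_perm,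
    ← Subgroup.card_map_of_injective L.subtype_injective]
  exact Nat.mul_dvd_mul (Subgroup.card_dvd_of_le h3) φ.range.card_subgroup_dvd_card

theorem exists_SW {L : Subgroup (Perm α)} (h : ¬ IsPretransitive L α) :
    ∃ O : Finset α, 1 ≤ O.card ∧ 2 * O.card ≤ Fintype.card α ∧ L ≤ SW O := by
  obtain ⟨x, y, hxy⟩ : ∃ x y : α, y ∉ orbit L x := by
    by_contra h1
    push Not at h1
    exact h ⟨fun x y => h1 x y⟩
  let O := (Set.toFinite (orbit L x)).toFinset
  have hO : ∀ a, a ∈ O ↔ a ∈ orbit L x := fun a => Set.Finite.mem_toFinset _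
  have h1 : L ≤ SW O := fun σ hσ a => by
    rw [hO, hO]
    exact ⟨fun h => inv_ap σ a ▸ mapsTo_smul_orbit (⟨σ, hσ⟩ : L)⁻¹ x h, fun h => mapsTo_smul_orbit (⟨σ, hσ⟩ : L) x h⟩
  have h2 := Finset.card_compl_add_card O
  by_cases h3 : 2 * O.card ≤ Fintype.card α
  · exact ⟨O, Finset.card_pos.2 ⟨x, (hO x).2 (mem_orbit_self x)⟩, h3, h1⟩
  · refine ⟨Oᶜ, Finset.card_pos.2 ⟨y, Finset.mem_compl.2 fun h4 => hxy ((hO y).1 h4)⟩, by omega, fun σ hσ a => ?_⟩
    rw [Finset.mem_compl, Finset.mem_compl, h1 hσ]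

/-- the three kinds of proper subgroups -/
theorem tri (hn : 5 ≤ Fintype.card α) {U : Subgroup (alternatingGroup α)} (hU : U ≠ ⊤) :
    (∃ O : Finset α, 1 ≤ O.card ∧ 2 * O.card ≤ Fintype.card α ∧ U ≤ (SW O).subgroupOf _) ∨
    Fintype.card α ∣ Nat.card U ∧ ((∃ a b, 2 ≤ a ∧ a < Fintype.card α ∧ Fintype.card α = a * b ∧
      Nat.card U ∣ a.factorial ^ b * b.factorial) ∨ ∀ r, r.Prime → r ≠ 2 → r + 3 ≤ Fintype.card α → r ∣ U.index) := by
  let L := U.map (alternatingGroup α).subtype
  have hL : Nat.card L = Nat.card U := Subgroup.card_map_of_injective (alternatingGroup α).subtype_injective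
  by_cases h1 : IsPretransitive L α
  swap
  · obtain ⟨O, h2, h3, h4⟩ := exists_SW h1
    exact Or.inl ⟨O, h2, h3, fun x hx => h4 (mem_map.2 hx)⟩
  obtain ⟨x⟩ : Nonempty α := Fintype.card_pos_iff.1 (by omega)
  refine Or.inr ⟨?_, ?_⟩
  · rw [← hL, ← Nat.card_eq_fintype_card, ← index_stabilizer_of_transitive L x]
    exact Subgroup.index_dvd_card _
  by_cases h2 : IsPreprimitive L α
  · refine Or.inr fun r hr h3 h4 => ?_
    by_contra h5
    obtain ⟨g, h6, h7, h8⟩ := exists_cycle_mem le_rfl hr h3 (by omega) h5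
    have := lib_jordan h2 (fun h => hU (eq_top_iff.2 fun y _ => mem_map.1 (h y.2))) hn g (mem_map.2 h6) h7 (h8 ▸ hr)
    omega
  obtain ⟨B, hB, h3⟩ : ∃ B : Set α, IsBlock L B ∧ ¬ IsTrivialBlock B := by
    by_contra h3
    push Not at h3
    exact h2 ⟨fun hB => h3 _ hB⟩
  rw [IsTrivialBlock, not_or, Set.not_subsingleton_iff] at h3
  refine Or.inl ⟨B.ncard, (orbit L B).ncard, Set.one_lt_ncard_iff_nontrivial.2 h3.1, ?_, ?_,
    hL ▸ card_dvd_block L hB h3.1.nonempty⟩
  · rw [← Nat.card_eq_fintype_card, ← Set.ncard_univ]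
    exact Set.ncard_lt_ncard (Set.ssubset_univ_iff.2 h3.2)
  · rw [hB.ncard_block_mul_ncard_orbit_eq h3.1.nonempty, Nat.card_eq_fintype_card]

end

section

variable {c : ℕ}

theorem le_index_alt {K β : Type*} [Group K] [Fintype β] [DecidableEq β] (e : K ≃* alternatingGroup β)
    (h5 : 5 ≤ Fintype.card β) {M : Subgroup K} (hM : M ≠ ⊤) : Fintype.card β ≤ M.index := by
  rw [← Nat.card_eq_fintype_card] at h5 ⊢
  rw [← Subgroup.index_map_of_bijective (f := e.toMonoidHom) e.bijective]
  refine H412.AltIndex.card_le_index h5 _ fun h => hM ?_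
  rw [← Subgroup.index_eq_one, ← Subgroup.index_map_of_bijective (f := e.toMonoidHom) e.bijective, h, Subgroup.index_top]

/-- a subgroup of index `c` is mapped onto a point stabiliser by an automorphism -/
theorem exists_aut (hc : 5 ≤ c) {V : Subgroup (alternatingGroup (Fin c))} (hV : V.index = c) (x : Fin c) :
    ∃ β : MulAut (alternatingGroup (Fin c)), V = (stabilizer (alternatingGroup (Fin c)) x).comap β.toMonoidHom := by
  have hs : IsSimpleGroup (alternatingGroup (Fin c)) := alternatingGroup.isSimpleGroup (by simpa using hc)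
  have : Nontrivial (Fin c) := Fin.nontrivial_iff_two_le.2 (by omega)
  let e0 : alternatingGroup (Fin c) ⧸ V ≃ Fin c := Finite.equivFinOfCardEq hV
  let e := e0.trans (swap (e0 (1 : alternatingGroup (Fin c))) x)
  let ψ := e.permCongrHom.toMonoidHom.comp (toPermHom (alternatingGroup (Fin c)) (alternatingGroup (Fin c) ⧸ V))
  have h1 : ∀ g, ψ g x = x ↔ g ∈ V := fun g => by
    have h2 : e (1 : alternatingGroup (Fin c)) = x := swap_apply_left _ _
    show e (g • e.symm x) = x ↔ _
    rw [← h2, e.symm_apply_apply, e.apply_eq_iff_eq, smul_coe_eq_iff, cj_one]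
  have h2 : Function.Injective ψ := by
    refine (MonoidHom.ker_eq_bot_iff ψ).1 ((hs.eq_bot_or_eq_top_of_normal ψ.ker inferInstance).resolve_right fun h => ?_)
    have h3 : V = ⊤ := eq_top_iff.2 fun g _ => (h1 g).1 (by rw [show ψ g = 1 from (h ▸ Subgroup.mem_top g : g ∈ ψ.ker)]; rfl)
    rw [h3, Subgroup.index_top] at hV
    omega
  have h3 : ψ.range = alternatingGroup (Fin c) := by
    have h3 := ψ.range.index_mul_card
    rw [← Nat.card_congr (MonoidHom.ofInjective h2).toEquiv, ← (alternatingGroup (Fin c)).index_mul_card,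
      alternatingGroup.index_eq_two] at h3
    exact eq_alternatingGroup_of_index_eq_two (Nat.eq_of_mul_eq_mul_right Nat.card_pos h3)
  refine ⟨(MonoidHom.ofInjective h2).trans (MulEquiv.subgroupCongr h3), Subgroup.ext fun g => (h1 g).symm⟩

theorem index_sub (hc : 6 ≤ c) {U V : Subgroup (alternatingGroup (Fin c))} (h : U ≤ V) (hV : V.index = c) :
    U = V ∨ c * (c - 1) ≤ U.index := by
  let x : Fin c := ⟨0, by omega⟩
  obtain ⟨β, hβ⟩ := exists_aut (by omega) hV x
  have h1 : stabilizer (alternatingGroup (Fin c)) x = (alternatingGroup.ofSubtype ({x}ᶜ : Finset (Fin c))).range := by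
    ext g
    rw [alternatingGroup.mem_range_ofSubtype_iff, Finset.subset_compl_comm, Finset.singleton_subset_iff, Finset.mem_compl,
      notMem_support]
    rfl
  have h2 : V.map β.toMonoidHom = (alternatingGroup.ofSubtype ({x}ᶜ : Finset (Fin c))).range := by
    rw [hβ, Subgroup.map_comap_eq_self_of_surjective β.surjective, h1]
  have h3 : Fintype.card ({x}ᶜ : Finset (Fin c)) = c - 1 := by
    rw [Fintype.card_coe, Finset.card_compl, Fintype.card_fin, Finset.card_singleton]
  refine or_iff_not_imp_left.2 fun h4 => ?_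
  have h5 := le_index_alt (((β.subgroupMap V).trans (MulEquiv.subgroupCongr h2)).trans
    (MonoidHom.ofInjective alternatingGroup.ofSubtype_injective).symm) (by omega) (M := U.subgroupOf V)
    fun h5 => h4 (le_antisymm h (Subgroup.subgroupOf_eq_top.1 h5))
  rw [← Subgroup.relIndex_mul_index h, hV, mul_comm, ← h3]
  exact Nat.mul_le_mul_right _ h5

theorem conj_injective (hc : 5 ≤ c) :
    Function.Injective (MulAut.conjNormal : Perm (Fin c) →* MulAut (alternatingGroup (Fin c))) := by
  rw [← MonoidHom.ker_eq_bot_iff]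
  by_contra h
  have hs : IsSimpleGroup (alternatingGroup (Fin c)) := alternatingGroup.isSimpleGroup (by simpa using hc)
  have h1 := alternatingGroup_le_of_normal (by simpa using hc) ((Subgroup.nontrivial_iff_ne_bot _).2 h)
  have h2 : IsMulCommutative (alternatingGroup (Fin c)) := ⟨⟨fun a b => Subtype.ext (mul_inv_eq_iff_eq_mul.1
    (congrArg Subtype.val (DFunLike.congr_fun (h1 a.2 : MulAut.conjNormal a.1 = 1) b)))⟩⟩
  have := alternatingGroup.isMulCommutative_iff_card_le_three.1 h2
  rw [Nat.card_fin] at this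
  omega

/-- the number of the subgroups of index `c` -/
theorem ncard_index (hc : 5 ≤ c) : {V : Subgroup (alternatingGroup (Fin c)) | V.index = c}.ncard * (c - 1).factorial ≤
    Nat.card (MulAut (alternatingGroup (Fin c))) := by
  let x : Fin c := ⟨0, by omega⟩
  let S := stabilizer (alternatingGroup (Fin c)) x
  have h1 : {V : Subgroup (alternatingGroup (Fin c)) | V.index = c} ⊆ orbit (MulAut (alternatingGroup (Fin c))) S :=
    fun V hV => by
      obtain ⟨β, rfl⟩ := exists_aut hc hV x
      exact ⟨β⁻¹, Subgroup.ext fun g => Subgroup.mem_inv_pointwise_smul_iff⟩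
  have h2 : (stabilizer (Perm (Fin c)) x).map MulAut.conjNormal ≤ stabilizer (MulAut (alternatingGroup (Fin c))) S := by
    rintro _ ⟨σ, hσ, rfl⟩
    refine Subgroup.ext fun g => Subgroup.mem_pointwise_smul_iff_inv_smul_mem.trans ?_
    have h3 : σ x = x := hσ
    show σ⁻¹ (g.1 (σ x)) = x ↔ g.1 x = x
    rw [h3, inv_eq_iff_eq, h3]
  have h3 := (stabilizer (Perm (Fin c)) x).index_mul_card
  rw [index_stabilizer_of_transitive, Nat.card_perm, Nat.card_fin, ← Nat.mul_factorial_pred (by omega)] at h3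
  rw [← (stabilizer (MulAut (alternatingGroup (Fin c))) S).index_mul_card, index_stabilizer,
    ← Nat.eq_of_mul_eq_mul_left (by omega) h3, ← Subgroup.card_map_of_injective (conj_injective hc)]
  exact Nat.mul_le_mul (Set.ncard_le_ncard h1) (Subgroup.card_le_of_le h2)

end

end Cfsg.Agent.TH.Sim.Al
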