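import Cfsg.Agent.TH.Sim.LieNum

/-!
# S3541, box SimLie: the checker (helper6)
-/

set_option autoImplicit false

namespace Cfsg.Agent.TH.Sim.LieN

open Cfsg.Agent.H902 Cfsg.Agent.H889.Enum Cfsg.Agent.TH.Sv Finset

/-- `Art.num` with lists -/
def numL : Art.Sh → ℕ → ℕ
  | .L n, q => ((List.range (n - 1)).map fun i => q ^ (i + 2) - 1).prod
  | .C m, q => ((List.range m).map fun i => q ^ (2 * (i + 1)) - 1).prod
  | .U n, q => ((List.range (n - 1)).map fun i => if i % 2 = 0 then q ^ (i + 2) - 1 else q ^ (i + 2) + 1).prod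
  | .D m, q => (q ^ m - 1) * ((List.range (m - 1)).map fun i => q ^ (2 * (i + 1)) - 1).prod
  | .DD m, q => (q ^ m + 1) * ((List.range (m - 1)).map fun i => q ^ (2 * (i + 1)) - 1).prod
  | X, q => Art.num X q

theorem numL_eq (X : Art.Sh) (q : ℕ) : numL X q = Art.num X q := by
  cases X with
  | U n =>
    show ((List.range (n - 1)).map fun i => if i % 2 = 0 then q ^ (i + 2) - 1 else q ^ (i + 2) + 1).prod =
      ∏ i ∈ range (n - 1), (if Even i then q ^ (i + 2) - 1 else q ^ (i + 2) + 1)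
    rw [Finset.prod_congr rfl (g := fun i => if i % 2 = 0 then q ^ (i + 2) - 1 else q ^ (i + 2) + 1)
      (fun i _ => by simp only [Nat.even_iff])]
    rfl
  | _ => rfl

/-- the order -/
def ordS (X : Art.Sh) (q : ℕ) : ℕ := q ^ Art.NN X * numL X q / Art.dd X q

theorem ordS_eq {X : Art.Sh} {r f M : ℕ} (h : Art.Real X r f M) : ordS X (r ^ f) = M := by
  rw [ordS, numL_eq, ← h.eq, Nat.mul_div_cancel_left _ (dd_pos X h.ok)]

/-- the admissible parameters -/
def okb : Art.Sh → ℕ → ℕ → Bool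
  | .L n, _, q => Nat.ble 3 n || (Nat.beq n 2 && (Nat.ble 7 q && !Nat.beq q 9))
  | .C m, _, q => Nat.ble 3 m || (Nat.beq m 2 && Nat.ble 3 q)
  | .U n, _, q => Nat.ble 4 n || (Nat.beq n 3 && Nat.ble 3 q)
  | .D m, _, _ => Nat.ble 4 m
  | .DD m, _, _ => Nat.ble 4 m
  | .G2, _, q => Nat.ble 3 q
  | .Sz, r, q => Nat.beq r 2 && Nat.beq (q % 6) 2 && Nat.ble 8 q
  | .Ree, r, q => Nat.beq r 3 && Nat.beq (q % 8) 3 && Nat.ble 27 q
  | .TF4, r, q => Nat.beq r 2 && Nat.ble 8 q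
  | _, _, _ => true

/-- the names over the field of two elements which are not used -/
def ex2 (X : Art.Sh) (q : ℕ) : Bool := Nat.beq q 2 && decide (X = .L 3 ∨ X = .L 4 ∨ X = .U 4)

theorem okb_of {X : Art.Sh} {r f M : ℕ} (h : Art.Real X r f M) (hx : ¬ Ex X (r ^ f)) :
    okb X r (r ^ f) = true ∧ ex2 X (r ^ f) = false := by
  have h1 := h.ok
  refine ⟨?_, ?_⟩
  · cases X with
    | L n =>
      have h6 : r ^ f ≠ 6 := fun e => absurd (e ▸ h.hp.isPrimePow.pow (by have := h.hf; omega) : IsPrimePow 6) (by decide)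
      simp only [Ex, Art.Sh.L.injEq, reduceCtorEq] at hx
      have h2 := h1.1
      have h3 := h1.2
      simp only [okb, Bool.or_eq_true, Bool.and_eq_true, Nat.ble_eq, Nat.beq_eq, Bool.not_eq_true', ← Bool.not_eq_true]
      omega
    | Sz =>
      obtain ⟨rfl, ⟨k, rfl⟩, h2⟩ := h1
      have h3 : 2 ^ 3 ≤ 2 ^ (2 * k + 1) := Nat.pow_le_pow_right two_pos h2
      have h4 : (2 ^ 2) ^ k % 3 = 1 := by rw [Nat.pow_mod]; simp
      simp only [okb, Bool.and_eq_true, Nat.ble_eq, Nat.beq_eq, true_and]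
      rw [pow_succ _ (2 * k), pow_mul] at h3 ⊢
      omega
    | Ree =>
      obtain ⟨rfl, ⟨k, rfl⟩, h2⟩ := h1
      have h3 : 3 ^ 3 ≤ 3 ^ (2 * k + 1) := Nat.pow_le_pow_right three_pos h2
      have h4 : (3 ^ 2) ^ k % 8 = 1 := by rw [Nat.pow_mod]; simp
      simp only [okb, Bool.and_eq_true, Nat.ble_eq, Nat.beq_eq, true_and]
      rw [pow_succ _ (2 * k), pow_mul] at h3 ⊢
      omega
    | TF4 =>
      obtain ⟨rfl, -, h2⟩ := h1
      have h3 : 8 ≤ 2 ^ f := Nat.pow_le_pow_right (n := 2) (i := 3) two_pos h2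
      simpa only [okb, Bool.and_eq_true, Nat.ble_eq, Nat.beq_eq, true_and] using h3
    | _ =>
      delta Art.Ok at h1
      simp only [okb, Bool.or_eq_true, Bool.and_eq_true, Nat.ble_eq, Nat.beq_eq] at h1 ⊢
      try omega
  · rw [← Bool.not_eq_true, ex2, Bool.and_eq_true, Nat.beq_eq, decide_eq_true_eq]
    exact fun h2 => hx (Or.inr h2)

/-- the sieve for a socle `N` of order `M` of `H ⊓ T`, `A = |Aut N|`, `l` a lower bound for the indices in `N` -/
def par (M A l N p o c : ℕ) (flt : ℕ → ℕ → ℕ → Bool) : Par where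
  N := N
  p := p
  outT := o
  c := c
  NB := A
  low := M
  uA := fun a _ s => bif Nat.beq (a / M % s) 0 then 0 else nu 400 M s
  uH := fun a o s => bif Nat.beq (a * o / M % s) 0 then 0 else nu 400 M s
  fa := fun _ n1 => Nat.ble l (Nat.gcd n1 M)
  flt := fun a o d => Nat.ble l (Nat.gcd d M) && flt a o d

/-- the sieve for the classical group `(t, n, p ^ f)` -/
def sv (M A l t n p f : ℕ) (flt : ℕ → ℕ → ℕ → Bool) : Bool :=
  frc (ordCl t n (p ^ f)) fun N => !Nat.beq (N % M) 0 ||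
    frc (lminCl t n (p ^ f)) fun c => sieveG (par M A l N p (outCl t n p f) c flt)

/-- the pairs which are treated separately -/
def Sk (X : Art.Sh) (q t n p f : ℕ) : Prop :=
  q = 7 ∧ X = .L 2 ∧ (p = 2 ∨ t = 1 ∧ n = 3 ∧ f = 1 ∧ (p = 3 ∨ p = 5)) ∨
  q = 3 ∧ (X = .C 2 ∧ p = 2 ∨ X = .U 4 ∧ t = 0 ∧ n = 6 ∧ p = 7 ∧ f = 1) ∨
  q = 4 ∧ X = .L 3 ∧ n = 4 ∧ p ≠ 3 ∨ q = 11 ∧ X = .L 2 ∧ t = 1 ∧ n = 5 ∧ p = 2 ∧ f = 1

instance (X : Art.Sh) (q t n p f : ℕ) : Decidable (Sk X q t n p f) :=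
  inferInstanceAs (Decidable (q = 7 ∧ X = .L 2 ∧ (p = 2 ∨ t = 1 ∧ n = 3 ∧ f = 1 ∧ (p = 3 ∨ p = 5)) ∨
    q = 3 ∧ (X = .C 2 ∧ p = 2 ∨ X = .U 4 ∧ t = 0 ∧ n = 6 ∧ p = 7 ∧ f = 1) ∨
    q = 4 ∧ X = .L 3 ∧ n = 4 ∧ p ≠ 3 ∨ q = 11 ∧ X = .L 2 ∧ t = 1 ∧ n = 5 ∧ p = 2 ∧ f = 1))

/-- all classical groups `T` for the socle of shape `X` over the field of `q = r ^ g` elements -/
def chkN (X : Art.Sh) (r g : ℕ) : Bool :=
  frc (r ^ g) fun q => !okb X r q || (ex2 X q ||
    frc (ordS X q) fun M => frc (ou X r g * M) fun A => frc (2 * Nat.log2 A + 30) fun Z => frc (max 3 (lp X q)) fun L =>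
      (Nat.ble (Z + 2) L && !Nat.ble (2 ^ Z) ((24 * A * Z) ^ 2)) ||
        frc (lc X q) fun b => frc (li X q) fun l => frc (bif !Nat.ble b L && !Nat.beq (L % r) 0 then L + 1 else L) fun L' =>
        allL [0, 1, 2, 3, 4, 5] fun t => allCl t A Z L' fun n p f =>
          Nat.beq p r || ((!Nat.ble b n && !Nat.beq (n % r) 0) ||
            (decide (Sk X q t n p f) || sv M A l t n p f fun _ _ _ => true)))

/-- all fields -/
def chkX (X : Art.Sh) : Bool :=
  frc (kk X) fun k => allR (fun g => allU (fun r => Nat.ble 4096 (Nat.pow r (g * k))) (fun r => comp r || chkN X r g) 5000 2) 12 1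

theorem valid_le {t n q : ℕ} (h : validCl t n q = true) : t ≤ 5 := by
  unfold validCl at h
  split_ifs at h <;> simp at h <;> omega

theorem chkX_sound {X : Art.Sh} (hX : chkX X = true) {r g M : ℕ} (h : Art.Real X r g M) (hx : ¬ Ex X (r ^ g))
    (h0 : (r ^ g) ^ kk X < 4096) {t n p f : ℕ} (hp : p.Prime) (hf : 0 < f) (hv : validCl t n (p ^ f) = true)
    (hl : lminCl t n (p ^ f) ≤ (ou X r g * M * outCl t n p f) ^ 2) (hpr : p ≠ r) (hn : lp X (r ^ g) ≤ n)
    (hb : ¬ r ∣ n → lc X (r ^ g) ≤ n) (hk : ¬ Sk X (r ^ g) t n p f) :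
    sv M (ou X r g * M) (li X (r ^ g)) t n p f (fun _ _ _ => true) = true := by
  have h3 := valid_three hv
  rw [← pow_mul] at h0
  have h1 : g < 12 := by
    have h1 : 2 ^ (g * kk X) < 2 ^ 12 := (Nat.pow_le_pow_left h.hp.two_le _).trans_lt h0
    have h2 := (Nat.pow_lt_pow_iff_right (by omega)).1 h1
    exact (Nat.le_mul_of_pos_right g (kk_pos X)).trans_lt h2
  rw [chkX, frc_eq] at hX
  have h2 := allU_sound (allR_sound hX h.hf (by omega)) h.hp.two_le fun j hj => by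
    rw [← Bool.not_eq_true, Nat.ble_eq, not_le]
    exact (Nat.pow_le_pow_left hj _).trans_lt h0
  obtain ⟨h4, h5⟩ := okb_of h hx
  simp only [comp_prime h.hp, chkN, frc_eq, h4, h5, Bool.not_true, Bool.false_or, ordS_eq h, Bool.or_eq_true,
    Bool.and_eq_true, Nat.ble_eq, allL_iff, Bool.not_eq_true', ← Bool.not_eq_true, not_le] at h2
  rcases h2 with ⟨h6, h7⟩ | h2
  · refine absurd (sq_lt_pow (by omega) h7 (x := f * (n - 2)) ?_) (not_lt.2 ((two_pow_le_lmin hp.two_le hf hv).trans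
      (hl.trans (Nat.pow_le_pow_left ((Nat.mul_le_mul_left _ ((outCl_le hp hf h3).trans (ob_le h3))).trans
        (le_of_eq (by ring))) 2))))
    exact le_trans (by omega) (Nat.le_mul_of_pos_left _ hf)
  · have h6 := allCl_sound (h2 t (by have := valid_le hv; simp; omega)) hp hf hv (by
      rw [Bool.cond_eq_ite]
      split_ifs with h6
      · simp only [Bool.and_eq_true, Nat.beq_eq, Nat.ble_eq, Bool.not_eq_true', ← Bool.not_eq_true] at h6
        refine lt_of_le_of_ne (by omega) fun e => h6.1 ((hb fun e' => h6.2 ?_).trans e.ge)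
        rw [e]
        exact Nat.mod_eq_zero_of_dvd e'
      · omega) hl
    simp only [Bool.or_eq_true, Bool.and_eq_true, Nat.beq_eq, Nat.ble_eq, Bool.not_eq_true', ← Bool.not_eq_true,
      decide_eq_true_eq] at h6
    rcases h6 with h6 | ⟨h6, h7⟩ | h6 | h6
    · exact absurd h6 hpr
    · exact absurd (hb fun e => h7 (Nat.mod_eq_zero_of_dvd e)) h6
    · exact absurd h6 hk
    · exact h6

/-- a large rank -/
theorem rk_le {X : Art.Sh} {q : ℕ} (hq : 2 ≤ q) (h : q ^ kk X < 4096) : rk X ≤ 13 := by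
  have h1 : 2 ^ kk X < 2 ^ 12 := (Nat.pow_le_pow_left hq _).trans_lt h
  have h2 := (Nat.pow_lt_pow_iff_right (by omega)).1 h1
  cases X <;> simp only [kk, rk] at h2 ⊢ <;> omega

end Cfsg.Agent.TH.Sim.LieN
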