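import Cfsg.Agent.TH.Sv.ClDat
import Cfsg.Agent.TH.Sv.TriE
import Cfsg.Agent.H912.LSUse
import Cfsg.Agent.H912.Bd3

/-!
# S3541, `H ⊓ T` almost simple in a classical group: the finite loop and common facts (helper74)

* `allCl t K X n0 chk`, `allCl_sound` : the loop over all `(n, p, f)` with `lminCl ≤ (K outCl)²`;
* `Sim.card_dvd`, `Sim.card_dvd_aut`, `Sim.le_gcd`, `ClDat.lmin_le`, `ProjRep.pr`, `ProjRep.section`.
-/

set_option autoImplicit false
set_option linter.unusedSectionVars false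

namespace Cfsg.Agent.TH

namespace Sim

open Sv

/-- the exponent of `q` in a lower bound for `lminCl` -/
def ex (t n : ℕ) : ℕ :=
  if t = 0 then n - 1 else if t = 1 then (if n = 3 then 3 else if n = 4 then 4 else 2 * n - 3)
  else if t = 2 then n - 1 else n - 2

/-- `outCl t n p f ≤ ob t n * f` -/
def ob (t n : ℕ) : ℕ := if t ≤ 1 then 2 * n else if t ≤ 3 then 2 else if n = 8 then 24 else 8

theorem geo {q : ℕ} (hq : 2 ≤ q) (k : ℕ) : q ^ k * (q - 1) ≤ q ^ (k + 1) - 1 := by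
  have h1 : 1 ≤ q ^ k := Nat.one_le_pow _ _ (by omega)
  rw [Nat.mul_sub, mul_one, ← pow_succ]
  omega

theorem valid_three {t n q : ℕ} (h : validCl t n q = true) : 3 ≤ n := by
  unfold validCl at h
  split_ifs at h <;> simp at h <;> omega

/-- the generic formulas -/
theorem lmin_gen {t n q : ℕ} (h : validCl t n q = true) (hq : 2 ≤ q) (h2 : q ≠ 2) (h3 : q ≠ 3)
    (h5 : ¬ (t = 1 ∧ n = 3 ∧ q = 5)) : q ^ ex t n ≤ lminCl t n q := by
  have h0 : 0 < q - 1 := by omega
  unfold validCl at h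
  unfold ex lminCl
  split_ifs at h ⊢ with a0 a1 a2 a3 <;> simp only [Bool.and_eq_true, decide_eq_true_eq] at h
  all_goals first | omega | skip
  · obtain ⟨k, rfl⟩ : ∃ k, n = k + 1 := ⟨n - 1, by omega⟩
    exact (Nat.le_div_iff_mul_le h0).2 (geo hq k)
  · nlinarith [Nat.zero_le (q ^ 3), pow_succ q 3]
  · obtain ⟨k, rfl⟩ : ∃ k, n = k + 3 := ⟨n - 3, by omega⟩
    have h6 : 1 ≤ q ^ 2 := Nat.one_le_pow _ _ (by omega)
    have h7 : 1 ≤ q ^ (k + 2) := Nat.one_le_pow _ _ (by omega)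
    have h8 : q ^ (k + 2) ≤ q ^ (k + 3) := Nat.pow_le_pow_right (by omega) (by omega)
    have h9 : q ^ (k + 3) ≤ q ^ (2 * k + 3) := Nat.pow_le_pow_right (by omega) (by omega)
    have h10 : q ^ (2 * k + 3) * q ^ 2 = q ^ (k + 3) * q ^ (k + 2) := by ring
    rw [Nat.le_div_iff_mul_le (by nlinarith [Nat.sub_add_cancel h6]), show 2 * (k + 3) - 3 = 2 * k + 3 by omega,
      show k + 3 - 1 = k + 2 by omega]
    unfold um
    rw [Nat.mul_sub, mul_one, h10]
    split_ifs
    all_goals first | omega | skip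
    · rw [Nat.mul_add, mul_one, Nat.sub_mul, one_mul]
      have := Nat.le_mul_of_pos_left (q ^ (k + 2)) (h7.trans h8)
      omega
    · rw [Nat.mul_sub, mul_one, Nat.add_mul, one_mul]
      omega
  · obtain ⟨k, rfl⟩ : ∃ k, n = k + 1 := ⟨n - 1, by omega⟩
    exact (Nat.le_div_iff_mul_le h0).2 (geo hq k)
  · obtain ⟨k, rfl⟩ : ∃ k, n = k + 2 := ⟨n - 2, by omega⟩
    exact (Nat.le_div_iff_mul_le h0).2 (geo hq k)
  · obtain ⟨k, rfl⟩ : ∃ k, n = 2 * (k + 1) := ⟨n / 2 - 1, by omega⟩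
    rw [Nat.le_div_iff_mul_le h0, show 2 * (k + 1) / 2 = k + 1 by omega, show 2 * (k + 1) - 2 = k + k by omega,
      Nat.add_sub_cancel, pow_add, mul_right_comm]
    exact Nat.mul_le_mul (geo hq k) (Nat.le_succ _)
  · obtain ⟨k, rfl⟩ : ∃ k, n = 2 * (k + 2) := ⟨n / 2 - 2, by omega⟩
    rw [Nat.le_div_iff_mul_le h0, show 2 * (k + 2) / 2 = k + 2 by omega, show 2 * (k + 2) - 2 = k + 2 + k by omega,
      show k + 2 - 1 = k + 1 by omega, pow_add, mul_assoc]
    exact Nat.mul_le_mul (Nat.le_succ _) (geo hq k)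

theorem lmin_ge {t n q : ℕ} (h : validCl t n q = true) (hq : 7 ≤ q) : q ^ ex t n ≤ lminCl t n q :=
  lmin_gen h (by omega) (by omega) (by omega) (by omega)

theorem le_ex {t n : ℕ} (h : 3 ≤ n) : n - 2 ≤ ex t n := by
  unfold ex
  split_ifs <;> omega

theorem lmin_small {t n q : ℕ} (h : validCl t n q = true) (hq : q = 2 ∨ q = 3) : 2 ^ (n - 2) ≤ lminCl t n q := by
  have key : ∀ k, 2 ^ (k + k) ≤ 2 ^ k * (2 ^ (k + 1) - 1) := fun k => by
    rw [pow_add]
    exact Nat.mul_le_mul_left _ (by have := geo le_rfl k; omega)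
  have h23 : ∀ k, 2 ^ k ≤ 3 ^ k := fun k => Nat.pow_le_pow_left (by omega) k
  have h3 := valid_three h
  have hg : ∀ k, 2 ^ k ≤ (q ^ (k + 1) - 1) / (q - 1) := fun k =>
    (Nat.pow_le_pow_left (by omega) k).trans ((Nat.le_div_iff_mul_le (by omega)).2 (geo (by omega) k))
  have hm : ∀ a b : ℕ, a ≤ b → 2 ^ a ≤ 2 ^ b := fun a b => Nat.pow_le_pow_right (by omega)
  unfold validCl at h
  unfold lminCl
  split_ifs at h ⊢ with a0 a1 a2 a3 <;> simp only [Bool.and_eq_true, decide_eq_true_eq] at h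
  all_goals first | omega | skip
  · obtain ⟨k, rfl⟩ : ∃ k, n = k + 1 := ⟨n - 1, by omega⟩
    exact (hm _ _ (by omega)).trans (hg k)
  · rcases hq with rfl | rfl <;> simp [a2]
  · rcases hq with rfl | rfl <;> simp [*]
  · obtain ⟨k, rfl⟩ : ∃ k, n = k + 2 := ⟨n - 2, by omega⟩
    rw [Nat.le_div_iff_mul_le (by omega), Nat.add_sub_cancel]
    refine Nat.mul_le_mul (hm _ _ (by omega)) ?_
    have := hm 2 (k + 2) (by omega)
    omega
  · obtain ⟨k, rfl⟩ : ∃ k, n = k + 3 := ⟨n - 3, by omega⟩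
    have h6 : ∀ i, q ^ i - 1 ≤ um q i := fun i => by unfold um; split_ifs <;> omega
    have h7 : q ^ 2 ≤ q ^ (k + 3) := Nat.pow_le_pow_right (by omega) (by omega)
    have h8 : 2 ^ (k + 2) ≤ q ^ (k + 2) := Nat.pow_le_pow_left (by omega) _
    have h9 := geo le_rfl (k + 1)
    rw [Nat.le_div_iff_mul_le (by rcases hq with rfl | rfl <;> simp), mul_comm]
    exact Nat.mul_le_mul ((Nat.sub_le_sub_right h7 1).trans (h6 _))
      (le_trans (by rw [show k + 3 - 2 = k + 1 by omega, show k + 3 - 1 = k + 2 by omega]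
                    exact (Nat.le_mul_of_pos_right _ (by omega)).trans (h9.trans (Nat.sub_le_sub_right h8 1))) (h6 _))
  · have : n = 4 := by omega
    subst this
    norm_num
  · obtain ⟨k, rfl⟩ : ∃ k, n = 2 * (k + 1) := ⟨n / 2 - 1, by omega⟩
    rw [show 2 * (k + 1) / 2 = k + 1 by omega, show 2 * (k + 1) - 2 = k + k by omega]
    exact key k
  · obtain ⟨k, rfl⟩ : ∃ k, n = k + 1 := ⟨n - 1, by omega⟩
    exact (hm _ _ (by omega)).trans (hg k)
  · obtain ⟨k, rfl⟩ : ∃ k, n = 2 * (k + 1) + 1 := ⟨n / 2 - 1, by omega⟩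
    rw [show (2 * (k + 1) + 1) / 2 = k + 1 by omega, show 2 * (k + 1) + 1 - 2 = k + 1 + k by omega,
      Nat.le_div_iff_mul_le (by omega), pow_add, mul_assoc]
    exact Nat.mul_le_mul (h23 _) ((Nat.mul_le_mul_right _ (h23 _)).trans (geo (q := 3) (by omega) k))
  · obtain ⟨k, rfl⟩ : ∃ k, n = 2 * (k + 1) := ⟨n / 2 - 1, by omega⟩
    rw [show 2 * (k + 1) / 2 = k + 1 by omega, show 2 * (k + 1) - 2 = k + k by omega]
    exact key k
  · obtain ⟨k, rfl⟩ : ∃ k, n = 2 * (k + 4) := ⟨n / 2 - 4, by omega⟩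
    rw [show 2 * (k + 4) / 2 - 1 = k + 3 by omega, show 2 * (k + 4) - 2 = k + 3 + (k + 3) by omega,
      Nat.le_div_iff_mul_le (by omega), pow_add, mul_assoc]
    refine Nat.mul_le_mul (h23 _) ?_
    have := h23 k
    have := hm 0 k (by omega)
    rw [pow_add, pow_add]
    omega
  · obtain ⟨k, rfl⟩ : ∃ k, n = 2 * (k + 2) := ⟨n / 2 - 2, by omega⟩
    rw [Nat.le_div_iff_mul_le (by omega), show 2 * (k + 2) / 2 = k + 2 by omega,
      show 2 * (k + 2) - 2 = k + 2 + k by omega, show k + 2 - 1 = k + 1 by omega, pow_add, mul_assoc]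
    exact Nat.mul_le_mul ((Nat.pow_le_pow_left (by omega) _).trans (Nat.le_succ _))
      ((Nat.mul_le_mul_right _ (Nat.pow_le_pow_left (by omega) _)).trans (geo (by omega) k))

theorem lmin_five {t n : ℕ} (h : validCl t n 5 = true) : 4 ^ (n - 2) ≤ lminCl t n 5 := by
  by_cases a : t = 1 ∧ n = 3 ∧ 5 = 5
  · obtain ⟨rfl, rfl, -⟩ := a
    decide
  exact ((Nat.pow_le_pow_left (by omega) _).trans (Nat.pow_le_pow_right (by omega) (le_ex (valid_three h)))).trans
    (lmin_gen h (by omega) (by omega) (by omega) a)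

theorem two_pow_le_lmin {t n p f : ℕ} (hp : 2 ≤ p) (hf : 0 < f) (h : validCl t n (p ^ f) = true) :
    2 ^ (f * (n - 2)) ≤ lminCl t n (p ^ f) := by
  have h1 : 2 ^ f ≤ p ^ f := Nat.pow_le_pow_left hp f
  have h2 : 2 ^ 1 ≤ 2 ^ f := Nat.pow_le_pow_right (by omega) hf
  have h3 : ∀ k, 2 ^ f < 2 ^ k → f < k := fun k => (Nat.pow_lt_pow_iff_right (by omega)).1
  rw [pow_mul]
  by_cases a : p ^ f = 2 ∨ p ^ f = 3
  · have h4 : f = 1 := by
      have := h3 2 (h1.trans_lt (by rcases a with a | a <;> rw [a] <;> norm_num))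
      omega
    subst h4
    rw [pow_one]
    exact lmin_small h a
  by_cases b : p ^ f = 5
  · rw [b] at h h1 ⊢
    refine (Nat.pow_le_pow_left ?_ _).trans (lmin_five h)
    exact Nat.pow_le_pow_right (n := 2) (j := 2) (by omega) (by have := h3 3 (h1.trans_lt (by norm_num)); omega)
  exact ((Nat.pow_le_pow_left h1 _).trans (Nat.pow_le_pow_right (by omega) (le_ex (valid_three h)))).trans
    (lmin_gen h (by omega) (by omega) (by omega) fun c => b c.2.2)

theorem outCl_le {t n p f : ℕ} (hp : p.Prime) (hf : 0 < f) (hn : 3 ≤ n) : outCl t n p f ≤ ob t n * f := by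
  have h1 : ∀ a b : ℕ, 0 < a → Nat.gcd a b ≤ a := fun a b h => Nat.gcd_le_left b h
  refine Nat.mul_le_mul_right f ?_
  unfold ob
  have h2 := h1 n (p ^ f - 1) (by omega)
  have h3 := h1 n (p ^ f + 1) (by omega)
  have h4 := h1 2 (p ^ f - 1) (by omega)
  have h5 := h1 4 ((p ^ f) ^ (n / 2) - 1) (by omega)
  have h6 := h1 4 ((p ^ f) ^ (n / 2) + 1) (by omega)
  split_ifs with a0 a1 a2 a3 a4 a5
  all_goals first | omega | skip
  obtain ⟨-, rfl⟩ := ‹n = 4 ∧ p = 2›
  obtain ⟨k, rfl⟩ : ∃ k, f = k + 1 := ⟨f - 1, by omega⟩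
  have h7 : Nat.gcd 2 (2 ^ (k + 1) - 1) = 1 := by
    have := Nat.one_le_pow k 2 (by omega)
    refine Nat.coprime_two_left.2 ?_
    rw [Nat.odd_iff, pow_succ]
    omega
  omega

theorem ob_le {t n f : ℕ} (hn : 3 ≤ n) : ob t n * f ≤ 24 * (f * (n - 2)) := by
  rw [mul_comm f, ← mul_assoc]
  refine Nat.mul_le_mul_right f ?_
  unfold ob
  split_ifs <;> omega

theorem sq_lt_pow {C X x : ℕ} (hX : 3 ≤ X) (h : (C * X) ^ 2 < 2 ^ X) (hx : X ≤ x) : (C * x) ^ 2 < 2 ^ x := by
  induction x, hx using Nat.le_induction with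
  | base => exact h
  | succ x hx ih =>
    have h1 : (x + 1) ^ 2 ≤ 2 * x ^ 2 := by nlinarith
    rw [mul_pow] at ih ⊢
    rw [pow_succ 2]
    nlinarith [Nat.mul_le_mul_left (C ^ 2) h1]

/-! ### the loop -/

/-- `f i` for all `i` with `lo ≤ i < lo + k` -/
def allR (f : ℕ → Bool) (k : ℕ) : ℕ → Bool :=
  Nat.rec (motive := fun _ => ℕ → Bool) (fun _ => true) (fun _ ih i => f i && frc (i + 1) ih) k

theorem allR_sound {f : ℕ → Bool} {k lo : ℕ} (h : allR f k lo = true) {i : ℕ} (h1 : lo ≤ i) (h2 : i < lo + k) :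
    f i = true := by
  induction k generalizing lo with
  | zero => omega
  | succ k ih =>
    have h3 : (f lo && frc (lo + 1) (allR f k)) = true := h
    rw [Bool.and_eq_true, frc_eq] at h3
    rcases h1.eq_or_lt with rfl | h4
    · exact h3.1
    · exact ih h3.2 h4 (by omega)

/-- `f i` for `i = lo, lo + 1, …` until `stop i` -/
def allU (stop f : ℕ → Bool) (fuel : ℕ) : ℕ → Bool :=
  Nat.rec (motive := fun _ => ℕ → Bool) (fun _ => false) (fun _ ih i => stop i || (f i && frc (Nat.succ i) ih)) fuel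

theorem allU_sound {stop f : ℕ → Bool} {fuel lo : ℕ} (h : allU stop f fuel lo = true) {i : ℕ} (h1 : lo ≤ i)
    (h2 : ∀ j, j ≤ i → stop j = false) : f i = true := by
  induction fuel generalizing lo with
  | zero => exact absurd h Bool.false_ne_true
  | succ k ih =>
    have h3 : (stop lo || (f lo && frc (lo + 1) (allU stop f k))) = true := h
    rw [h2 lo h1, Bool.false_or, Bool.and_eq_true, frc_eq] at h3
    rcases h1.eq_or_lt with rfl | h4
    · exact h3.1
    · exact ih h3.2 h4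

/-- the product of the primes below 100 -/
def pr100 : ℕ := 2305567963945518424753102147331756070

/-- a test for composite numbers (small factors, Fermat's test) -/
def comp (p : ℕ) : Bool :=
  (!Nat.beq (Nat.gcd p pr100) 1 && Nat.ble 101 p) ||
    !Nat.beq (Nat.mod (Nat.mul (Nat.pow (Nat.mod (Nat.pow 2 512) p) (Nat.div p 512)) (Nat.pow 2 (Nat.mod p 512))) p)
      (Nat.mod 2 p)

theorem comp_prime {p : ℕ} (hp : p.Prime) : comp p = false := by
  have h1 : (2 ^ 512 % p) ^ (p / 512) * 2 ^ (p % 512) % p = 2 % p := by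
    have := Fact.mk hp
    rw [← ZMod.natCast_eq_natCast_iff', Nat.cast_mul, Nat.cast_pow, ZMod.natCast_mod, Nat.cast_pow, Nat.cast_pow,
      ← pow_mul, ← pow_add, Nat.div_add_mod, ZMod.pow_card]
  rw [show comp p = ((!Nat.beq (Nat.gcd p pr100) 1 && Nat.ble 101 p) ||
    !Nat.beq ((2 ^ 512 % p) ^ (p / 512) * 2 ^ (p % 512) % p) (2 % p)) from rfl, h1, Nat.beq_refl, Bool.not_true, Bool.or_false, ← Bool.not_eq_true, Bool.and_eq_true, Nat.ble_eq,
    Bool.not_eq_true', ← Bool.not_eq_true, Nat.beq_eq]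
  rintro ⟨h2, h3⟩
  have h4 : p ∣ pr100 := ((Nat.dvd_prime hp).1 (Nat.gcd_dvd_left p pr100)).resolve_left h2 ▸ Nat.gcd_dvd_right p pr100
  have h5 := hp.dvd_factorial.1 (h4.trans (by decide +kernel : pr100 ∣ Nat.factorial 100))
  omega

/-- the loop over the primes -/
def allP (t K n f : ℕ) (chk : ℕ → ℕ → ℕ → Bool) : Bool :=
  frc ((K * (ob t n * f)) ^ 2) fun B => frc (f * ex t n) fun e =>
    allU (fun p => !Nat.ble (Nat.pow p e) B && Nat.ble 7 (p ^ f))
      (fun p => comp p || frc (p ^ f) fun q => !validCl t n q ||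
        (!Nat.ble (lminCl t n q) ((K * outCl t n p f) ^ 2) || chk n p f)) 100000000 2

/-- `chk n p f` for all `n ≥ n0`, `f > 0`, primes `p` with `validCl t n (p ^ f)` and `lminCl ≤ (K outCl)²` -/
def allCl (t K X n0 : ℕ) (chk : ℕ → ℕ → ℕ → Bool) : Bool :=
  frc K fun K => Nat.ble 3 X && (!Nat.ble (2 ^ X) ((24 * K * X) ^ 2) &&
    allR (fun n => !validCl t n 7 || allU (fun f => Nat.ble X (f * (n - 2))) (fun f => allP t K n f chk) (X + 1) 1)
      (X + 2) n0)

theorem valid_seven {t n q : ℕ} (h : validCl t n q = true) : validCl t n 7 = true := by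
  unfold validCl at h ⊢
  split_ifs at h ⊢ <;> simp at h ⊢ <;> omega

theorem allCl_sound {t K X n0 : ℕ} {chk : ℕ → ℕ → ℕ → Bool} (h : allCl t K X n0 chk = true) {n p f : ℕ}
    (hp : p.Prime) (hf : 0 < f) (hv : validCl t n (p ^ f) = true) (hn : n0 ≤ n)
    (hl : lminCl t n (p ^ f) ≤ (K * outCl t n p f) ^ 2) : chk n p f = true := by
  have h3 := valid_three hv
  simp only [allCl, frc_eq, Bool.and_eq_true, Nat.ble_eq, Bool.not_eq_true', ← Bool.not_eq_true, not_le] at h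
  obtain ⟨hX, hB, h⟩ := h
  have h1 : lminCl t n (p ^ f) ≤ (K * (ob t n * f)) ^ 2 :=
    hl.trans (Nat.pow_le_pow_left (Nat.mul_le_mul_left _ (outCl_le hp hf h3)) 2)
  have h2 : f * (n - 2) < X := by
    by_contra h2
    refine absurd (sq_lt_pow hX hB (not_lt.1 h2)) (not_lt.2 ((two_pow_le_lmin hp.two_le hf hv).trans (h1.trans ?_)))
    refine Nat.pow_le_pow_left ((Nat.mul_le_mul_left _ (ob_le h3)).trans (le_of_eq (by ring))) 2
  have h4 : n - 2 ≤ f * (n - 2) := Nat.le_mul_of_pos_left _ hf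
  have h5 := allR_sound h hn (by omega)
  rw [valid_seven hv, Bool.not_true, Bool.false_or] at h5
  have h6 := allU_sound h5 hf fun j hj => by
    rw [← Bool.not_eq_true, Nat.ble_eq, not_le]
    exact (Nat.mul_le_mul_right _ hj).trans_lt h2
  simp only [allP, frc_eq] at h6
  have h7 := allU_sound h6 hp.two_le fun j hj => by
    rw [← Bool.not_eq_true, Bool.and_eq_true, Nat.ble_eq, Bool.not_eq_true', ← Bool.not_eq_true, Nat.ble_eq]
    rintro ⟨h8, h7⟩
    refine h8 ((Nat.pow_le_pow_left hj _).trans ?_)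
    rw [pow_mul]
    exact (lmin_ge hv (h7.trans (Nat.pow_le_pow_left hj f))).trans h1
  simpa only [comp_prime hp, hv, Nat.ble_eq_true_of_le hl, Bool.not_true, Bool.false_or] using h7

end Sim

/-! ### group theory -/

section

variable {G : Type} [Group G] [Finite G] {T H N : Subgroup G} {m : ℕ}

theorem Sim.card_dvd (h : Sim T H N) : Nat.card N ∣ Nat.card ↥(H ⊓ T) := Subgroup.card_dvd_of_le h.le

/-- `H ⊓ T` acts faithfully on `N` -/
theorem Sim.exists_hom (h : Sim T H N) : ∃ φ : ↥(H ⊓ T) →* MulAut N, Function.Injective φ ∧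
    ∀ (a : ↥(H ⊓ T)) (x : N), (φ a x : G) = a * x * (a : G)⁻¹ := by
  have hn : H ⊓ T ≤ Subgroup.normalizer (N : Set G) := inf_le_left.trans (le_normalizer_of_conj h.nrm)
  refine ⟨N.normalizerMonoidHom.comp (Subgroup.inclusion hn), (injective_iff_map_eq_one _).2 fun a ha => ?_,
    fun _ _ => rfl⟩
  refine Subtype.ext (h.cent a a.2.2 fun x hx => ?_)
  have h1 := congrArg Subtype.val (DFunLike.congr_fun ha ⟨x, hx⟩)
  exact mul_inv_eq_iff_eq_mul.1 h1

theorem Sim.card_dvd_aut (h : Sim T H N) : Nat.card ↥(H ⊓ T) ∣ Nat.card (MulAut N) :=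
  let ⟨φ, hφ, _⟩ := h.exists_hom
  Subgroup.card_dvd_of_injective φ hφ

theorem Sim.le_gcd (hK : AllK) (hT : AS T) (hH : Half H m) (h : Sim T H N) {l : ℕ}
    (hl : ∀ M : Subgroup N, M ≠ ⊤ → l ≤ M.index) : l ≤ Nat.gcd (Nat.card H / m) (Nat.card N) := by
  obtain ⟨g, hg⟩ := hH.exists_not_mem
  obtain ⟨h1, h2, -⟩ := Sv.boxE hK G T H N m hT hH h g hg
  refine (hl ((cj g H).subgroupOf N) fun e => h1.ne' (Subgroup.index_eq_one.2 e)).trans
    (Nat.le_of_dvd (Nat.gcd_pos_of_pos_right _ Nat.card_pos) (Nat.dvd_gcd h2 (Subgroup.relIndex_dvd_card _ _)))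

theorem Sim.relIndex_eq (hT : AS T) (hH : Half H m) (h : Sim T H N) :
    N.relIndex H = Nat.card ↥(H ⊓ T) * T.index / Nat.card N := by
  rw [← hT.card_eq_mul hH, ← Own.card_mul_relIndex (h.le.trans inf_le_left), Nat.mul_div_cancel_left _ Nat.card_pos]

theorem Sv.ClDat.lmin_le {p t n f K : ℕ} (hT : AS T) (hH : Half H m) (D : Sv.ClDat p T t n f)
    (hK : Nat.card ↥(H ⊓ T) ≤ K) : Sv.lminCl t n (p ^ f) ≤ (K * Sv.outCl t n p f) ^ 2 := by
  have h1 := hT.sigma_index hH D.lmin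
  have h2 : 0 < Sv.outCl t n p f := by
    have h3 := Sim.valid_three D.valid
    have h4 : ∀ a b : ℕ, 0 < a → 0 < Nat.gcd a b := fun a b => Nat.gcd_pos_of_pos_left b
    unfold Sv.outCl
    refine Nat.mul_pos ?_ D.pos
    split_ifs <;> first | omega | exact Nat.mul_pos (by omega) (h4 _ _ (by omega))
  refine ((Nat.le_mul_of_pos_left _ (by have := hH.one_lt; omega)).trans h1).trans (Nat.pow_le_pow_left ?_ 2)
  rw [hT.card_eq_mul hH]
  exact (Nat.sub_le _ _).trans (Nat.mul_le_mul hK (Nat.le_of_dvd h2 D.out))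

end

section

variable {T : Type} [Group T] {p k n : ℕ}

/-- the projective representation in the form of `H912/Bd` -/
theorem Sv.ProjRep.pr (h : Sv.ProjRep p k n T) (hT : commutator T = ⊤) :
    ∃ (F : Type) (_ : Field F) (_ : Fintype F) (_ : CharP F p), Fintype.card F = k ∧
      ∀ r, r.Prime → ¬ r ∣ n → H912.Bd.PR F n r T := by
  obtain ⟨F, i1, i2, i3, S, π, hF, h1, h2⟩ := h
  refine ⟨F, i1, i2, i3, hF, fun r hr hn => ⟨commutator S, inferInstance, π.comp (commutator S).subtype,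
    S.subtype.comp (commutator S).subtype, fun y => ?_, fun x hx y => ?_, ?_, fun x hx => ?_⟩⟩
  · have h3 : y ∈ (commutator S).map π := by
      rw [map_commutator_eq, MonoidHom.range_eq_top.2 h1, ← _root_.commutator_def, hT]
      trivial
    obtain ⟨x, hx, rfl⟩ := h3
    exact ⟨⟨x, hx⟩, rfl⟩
  · exact Subtype.ext (Subtype.ext (H912.Bd.scalars_central ((h2 _).1 hx) _))
  · have := Fact.mk hr
    rw [Nat.coprime_comm, hr.coprime_iff_not_dvd]
    intro h3
    obtain ⟨x, hx⟩ := exists_prime_orderOf_dvd_card' r h3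
    refine hn (hx ▸ orderOf_dvd_of_pow_eq_one (Subtype.ext (Subtype.ext (Subtype.ext (Units.ext ?_)))))
    obtain ⟨c, hc⟩ := (Cfsg.Geo.mem_scalars_iff _).1 ((h2 _).1 x.2)
    have h4 : (Matrix.GeneralLinearGroup.det.comp S.subtype) x.1.1 = 1 :=
      Abelianization.commutator_subset_ker _ x.1.2
    have h5 : ((x.1.1.1 : GL (Fin n) F) : Matrix (Fin n) (Fin n) F).det = 1 := congrArg Units.val h4
    have h6 : ((x.1.1.1 : GL (Fin n) F) : Matrix (Fin n) (Fin n) F) = (c : F) • 1 := hc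
    rw [h6, Matrix.det_smul, Matrix.det_one, mul_one, Fintype.card_fin] at h5
    show ((x.1.1.1 : GL (Fin n) F) : Matrix (Fin n) (Fin n) F) ^ n = 1
    rw [h6, smul_pow, h5, one_pow, one_smul]
  · have h3 : x = 1 := Subtype.ext (Subtype.ext hx)
    rw [h3]
    exact one_mem _

/-- every subgroup of `T` is a section of the linear group -/
theorem Sv.ProjRep.section (h : Sv.ProjRep p k n T) {N : Type} [Group N] (f : N →* T) (hf : Function.Injective f) :
    ∃ (F : Type) (_ : Field F) (_ : Fintype F) (_ : CharP F p) (L : Subgroup (GL (Fin n) F)) (K : Subgroup L)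
      (_ : K.Normal), Fintype.card F = k ∧ Nonempty (L ⧸ K ≃* N) := by
  obtain ⟨F, i1, i2, i3, S, π, hF, h1, -⟩ := h
  let L : Subgroup S := f.range.comap π
  let e := L.equivMapOfInjective S.subtype S.subtype_injective
  let ψ : L →* N := (MonoidHom.ofInjective hf).symm.toMonoidHom.comp ((π.comp L.subtype).codRestrict f.range fun x => x.2)
  have h2 : Function.Surjective (ψ.comp e.symm.toMonoidHom) := by
    refine Function.Surjective.comp (g := ψ) (fun y => ?_) e.symm.surjective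
    obtain ⟨x, hx⟩ := h1 (f y)
    refine ⟨⟨x, y, hx.symm⟩, (MonoidHom.ofInjective hf).symm_apply_eq.2 (Subtype.ext hx)⟩
  exact ⟨F, i1, i2, i3, L.map S.subtype, _, inferInstance, hF, ⟨QuotientGroup.quotientKerEquivOfSurjective _ h2⟩⟩

end

end Cfsg.Agent.TH
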