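import Cfsg.Agent.TH.Sim.AltSub
import Cfsg.Agent.TH.Sim.Loop

/-!
# S3541, box Alt: the checker (helper74)

* `Sim.index_le_sq` : the counting argument for a maximal subgroup of the socle `N` of `H ⊓ T`;
* `adm c e k` : a test which holds for the index `e` of a proper subgroup of `A_c` (not stabilising a `k`-set);
* `chk c t n p f` : the sieve for `A_c` in the classical group with parameters `t n p f`.
-/

set_option autoImplicit false

namespace Cfsg.Agent.TH

open Sv

/-- if the stabilisers in `N` of all other points are maximal of index `d`, the degree is at most the square of the number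
of the subgroups of index `d` -/
theorem Sim.index_le_sq {G : Type} [Group G] [Finite G] {T H N : Subgroup G} {m : ℕ} (hH : Half H m) (h : Sim T H N)
    {K : Type*} [Group K] (e : N ≃* K) (h1 : ∀ g, g ∉ H → (cj g H).relIndex N = Nat.card H / m)
    (h2 : ∀ V W : Subgroup K, V.index = Nat.card H / m → V ≤ W → W ≠ ⊤ → V = W) (h3 : Nat.card H / m ≠ Nat.card K)
    (h4 : Nat.card H / m ≠ 1) : H.index ≤ {V : Subgroup K | V.index = Nat.card H / m}.ncard ^ 2 := by
  have := Finite.of_equiv _ e.toEquiv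
  have hs := h.simple
  have hN : N ≤ H := h.le.trans inf_le_left
  have hi : ∀ X : Subgroup N, (X.map e.toMonoidHom).index = X.index := Subgroup.index_map_of_bijective e.bijective
  refine (boxCnt G H N m {X | X ≤ N ∧ X.relIndex N = Nat.card H / m} hH hN h.nrm
    (fun g hg => ⟨inf_le_left, by rw [Subgroup.inf_relIndex_left, h1 g hg]⟩) ?_).trans (Nat.pow_le_pow_left ?_ 2)
  · rintro X ⟨h5, h6⟩
    have h7 : X.subgroupOf N = (Subgroup.normalizer (X : Set G)).subgroupOf N := by
      refine Subgroup.map_injective (f := e.toMonoidHom) e.injective (h2 _ _ ((hi _).trans h6)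
        (Subgroup.map_mono (Subgroup.comap_mono Subgroup.le_normalizer)) fun h7 => ?_)
      have h8 := Subgroup.subgroupOf_eq_top.1 (Subgroup.index_eq_one.1 ((hi _).symm.trans (Subgroup.index_eq_one.2 h7)))
      rcases hs.eq_bot_or_eq_top_of_normal _ ((Subgroup.normal_subgroupOf_iff_le_normalizer h5).2 h8) with h9 | h9
      · exact h3 (h6.symm.trans ((congrArg Subgroup.index h9).trans (Subgroup.index_bot.trans (Nat.card_congr e.toEquiv))))
      · exact h4 (h6.symm.trans (Subgroup.index_eq_one.2 h9))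
    have h8 : Nat.card H / m ≤ (Subgroup.normalizer (X : Set G)).relIndex H :=
      (h6.symm.trans (congrArg Subgroup.index h7)).trans_le
        (Subgroup.relIndex_le_of_le_right hN Subgroup.index_ne_zero_of_finite)
    have h9 := Own.card_mul_relIndex (inf_le_left : H ⊓ Subgroup.normalizer (X : Set G) ≤ H)
    rw [Subgroup.inf_relIndex_left, ← hH.d_mul, mul_comm] at h9
    exact Nat.le_of_mul_le_mul_left ((Nat.mul_le_mul_right _ h8).trans h9.le) (Nat.pos_of_dvd_of_pos hH.d_dvd_card Nat.card_pos)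
  · refine Set.ncard_le_ncard_of_injOn (fun X => (X.subgroupOf N).map e.toMonoidHom) (fun X hX => (hi _).trans hX.2)
      fun X hX Y hY h5 => ?_
    have h6 := Subgroup.subgroupOf_inj.1 (Subgroup.map_injective (f := e.toMonoidHom) e.injective h5)
    rwa [inf_eq_left.2 hX.1, inf_eq_left.2 hY.1] at h6

namespace Sim.Al

open Alt

/-- the factorial -/
def fac (n : ℕ) : ℕ := Nat.rec (motive := fun _ => ℕ) 1 (fun k ih => Nat.mul (Nat.succ k) ih) n

theorem fac_eq (n : ℕ) : fac n = n.factorial := by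
  induction n with
  | zero => rfl
  | succ n ih => exact congrArg (Nat.mul (Nat.succ n)) ih

/-- the binomial coefficient -/
def cho (c k : ℕ) : ℕ := fac c / (fac k * fac (c - k))

theorem cho_eq {c k : ℕ} (h : k ≤ c) : cho c k = c.choose k := by
  rw [cho, fac_eq, fac_eq, fac_eq, Nat.choose_eq_factorial_div_factorial h]

/-- divisibility -/
def dv (a b : ℕ) : Bool := Nat.beq (Nat.mod b a) 0

theorem dv_iff {a b : ℕ} : dv a b = true ↔ a ∣ b := Nat.beq_eq.to_iff.trans (Nat.dvd_iff_mod_eq_zero ..).symm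

theorem allR_false {f : ℕ → Bool} {k lo : ℕ} (h : allR f k lo = false) : ∃ i, lo ≤ i ∧ i < lo + k ∧ f i = false := by
  induction k generalizing lo with
  | zero => exact absurd h.symm Bool.false_ne_true
  | succ k ih =>
    have h3 : (f lo && frc (lo + 1) (allR f k)) = false := h
    rw [Bool.and_eq_false_iff, frc_eq] at h3
    rcases h3 with h3 | h3
    · exact ⟨lo, le_rfl, by omega, h3⟩
    · obtain ⟨i, h4, h5, h6⟩ := ih h3
      exact ⟨i, by omega, by omega, h6⟩

theorem not_allR {f : ℕ → Bool} {k lo i : ℕ} (h1 : lo ≤ i) (h2 : i < lo + k) (h : f i = false) : (!allR f k lo) = true := by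
  rw [Bool.not_eq_true', ← Bool.not_eq_true]
  exact fun h3 => Bool.false_ne_true (h.symm.trans (allR_sound h3 h1 h2))

/-- the index of a transitive subgroup -/
def trn (c e : ℕ) : Bool := frc (fac c / 2 / e) fun u => dv c u &&
  (!allR (fun a => !(dv a c && dv u (fac a ^ (c / a) * fac (c / a)))) (c - 2) 2 ||
    allL [3, 5, 7, 11, 13, 17, 19] fun s => !Nat.ble (s + 3) c || dv s e)

/-- the index of a proper subgroup which does not stabilise a `k`-set -/
def adm (c e k : ℕ) : Bool := Nat.ble c e && (Nat.beq e c || ((dv c e && (Nat.ble c 5 || Nat.ble (c * (c - 1)) e)) ||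
  (!allR (fun j => Nat.beq j k || !dv (cho c j) e) (c / 2 - 1) 2 || trn c e)))

variable {c : ℕ}

theorem card_alt (hc : 5 ≤ c) : Nat.card (alternatingGroup (Fin c)) = fac c / 2 := by
  have : Nontrivial (Fin c) := Fin.nontrivial_iff_two_le.2 (by omega)
  rw [nat_card_alternatingGroup, Nat.card_fin, fac_eq]

theorem index_SW' (hc : 5 ≤ c) (O : Finset (Fin c)) :
    ((SW O).subgroupOf (alternatingGroup (Fin c))).index = cho c O.card := by
  rw [index_SW le_rfl (by rw [Fintype.card_fin]; omega), Fintype.card_fin, cho_eq (by simpa using O.card_le_univ)]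

theorem adm_or (hc : 5 ≤ c) {U : Subgroup (alternatingGroup (Fin c))} (hU : U ≠ ⊤) (k : ℕ) :
    adm c U.index k = true ∨ 2 ≤ k ∧ ∃ O : Finset (Fin c), O.card = k ∧ U ≤ (SW O).subgroupOf _ := by
  have h0 := le_index_alt (MulEquiv.refl _) (by simpa using hc) hU
  have h1 := tri (by simpa using hc) hU
  rw [Fintype.card_fin] at h0 h1
  simp only [adm, trn, frc_eq, Bool.and_eq_true, Bool.or_eq_true, Nat.ble_eq, Nat.beq_eq, dv_iff, h0, true_and]
  rcases h1 with ⟨O, h1, h2, h3⟩ | ⟨h1, h2⟩
  · have h4 := Subgroup.index_dvd_of_le h3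
    rw [index_SW' hc] at h4
    rcases h1.eq_or_lt with h5 | h5
    · have h6 : ((SW O).subgroupOf (alternatingGroup (Fin c))).index = c := by
        rw [index_SW' hc, ← h5, cho_eq (by omega), Nat.choose_one_right]
      have h7 := h6 ▸ Subgroup.index_dvd_of_le h3
      by_cases h8 : c ≤ 5
      · exact Or.inl (Or.inr (Or.inl ⟨h7, Or.inl h8⟩))
      rcases index_sub (by omega) h3 h6 with h9 | h9
      · exact Or.inl (Or.inl (h9 ▸ h6))
      · exact Or.inl (Or.inr (Or.inl ⟨h7, Or.inr h9⟩))
    by_cases h6 : O.card = k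
    · exact Or.inr ⟨by omega, O, h6, h3⟩
    refine Or.inl (Or.inr (Or.inr (Or.inl (not_allR h5 (by omega) ?_))))
    rw [dv_iff.2 h4, Bool.not_true, Bool.or_false, ← Bool.not_eq_true, Nat.beq_eq]
    exact h6
  have h3 : fac c / 2 / U.index = Nat.card U := by
    rw [← card_alt hc, ← U.index_mul_card, Nat.mul_div_cancel_left _ (by omega)]
  refine Or.inl (Or.inr (Or.inr (Or.inr ⟨h3 ▸ h1, ?_⟩)))
  rcases h2 with ⟨a, b, h4, h5, h6, h7⟩ | h2
  · refine Or.inl (not_allR h4 (by omega) ?_)
    rw [h3, fac_eq, fac_eq, dv_iff.2 ⟨b, h6⟩, show c / a = b by rw [h6, Nat.mul_div_cancel_left _ (by omega)], dv_iff.2 h7]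
    rfl
  · refine Or.inr ((allL_iff _ _).2 fun s hs => ?_)
    have h4 : ∀ s ∈ [3, 5, 7, 11, 13, 17, 19], s.Prime ∧ s ≠ 2 := by decide
    rw [Bool.or_eq_true, dv_iff, Bool.not_eq_true', ← Bool.not_eq_true, Nat.ble_eq]
    exact or_iff_not_imp_left.2 fun h5 => h2 s (h4 s hs).1 (h4 s hs).2 (not_not.1 h5)

theorem adm_zero (hc : 5 ≤ c) {U : Subgroup (alternatingGroup (Fin c))} (hU : U ≠ ⊤) : adm c U.index 0 = true :=
  (adm_or hc hU 0).resolve_right fun h => by omega

/-- the primes up to 22 -/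
def ps : List ℕ := [2, 3, 5, 7, 11, 13, 17, 19]

theorem allDiv_ps (hc' : c ≤ 22) {x y : ℕ} {f : ℕ → Bool} (h : allDiv ps x f 1 = true) (h1 : y ∣ x)
    (h2 : y ∣ Nat.card (alternatingGroup (Fin c))) : f y = true := by
  have h3 : ∀ s, s ≤ 22 → s.Prime → s ∈ ps := by decide
  have h4 := allDiv_sound ps (by decide) x f 1 h y h1 (ne_zero_of_dvd_ne_zero Nat.card_pos.ne' h2) fun s hs h4 =>
    h3 s ((hs.dvd_factorial.1 ((h4.trans h2).trans (by simpa using card_dvd_factorial (alternatingGroup (Fin c))))).trans hc') hs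
  rwa [one_mul] at h4

/-- the counting argument excludes the subdegree `d` for the degree `n` -/
def kill (c NB d n : ℕ) : Bool := !Nat.beq d (fac c / 2) &&
  ((Nat.beq d c && !Nat.ble n ((NB / fac (c - 1)) ^ 2)) ||
  !allR (fun k => !(Nat.beq d (cho c k) && (!adm c d k && (!Nat.ble n (d ^ 2) &&
    allDiv ps d (fun e => Nat.beq e d || (!adm c e 0 || (Nat.beq e c && (Nat.ble 6 c && !Nat.ble (c * (c - 1)) d)))) 1))))
    (c / 2 - 1) 2)

theorem kill_sound (hc : 5 ≤ c) (hc' : c ≤ 22) {NB d n : ℕ} (hNB : Nat.card (MulAut (alternatingGroup (Fin c))) = NB)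
    (h : kill c NB d n = true) : d ≠ Nat.card (alternatingGroup (Fin c)) ∧
      (∀ V W : Subgroup (alternatingGroup (Fin c)), V.index = d → V ≤ W → W ≠ ⊤ → V = W) ∧
      {V : Subgroup (alternatingGroup (Fin c)) | V.index = d}.ncard ^ 2 < n := by
  have h0 : ∀ V W : Subgroup (alternatingGroup (Fin c)), V ≤ W → W.index = V.index → V = W := fun V W h1 h2 => by
    refine Subgroup.eq_of_le_of_card_ge h1 (Nat.eq_of_mul_eq_mul_left (Nat.pos_of_ne_zero
      (Subgroup.index_ne_zero_of_finite (H := V))) ?_).le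
    rw [V.index_mul_card, ← h2, W.index_mul_card]
  simp only [kill, Bool.and_eq_true, Bool.or_eq_true, Bool.not_eq_true', Nat.beq_eq] at h
  obtain ⟨h1, h⟩ := h
  rw [← Bool.not_eq_true, Nat.beq_eq, ← card_alt hc] at h1
  refine ⟨h1, ?_⟩
  rcases h with ⟨rfl, h⟩ | h
  · rw [← Bool.not_eq_true, Nat.ble_eq, not_le, fac_eq] at h
    refine ⟨fun V W h2 h3 h4 => h0 V W h3 (le_antisymm (Subgroup.index_antitone h3) ?_),
      (Nat.pow_le_pow_left ((Nat.le_div_iff_mul_le (Nat.factorial_pos _)).2 (hNB ▸ ncard_index hc)) 2).trans_lt h⟩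
    simpa [h2] using le_index_alt (MulEquiv.refl _) (by simpa using hc) h4
  obtain ⟨k, h2, h3, h⟩ := allR_false h
  simp only [Bool.and_eq_true, Bool.not_eq_true', Nat.beq_eq, Bool.not_eq_false'] at h
  obtain ⟨h4, h5, h6, h7⟩ := h
  rw [← Bool.not_eq_true, Nat.ble_eq, not_le] at h6
  refine ⟨fun V W h8 h9 h10 => ?_, lt_of_le_of_lt (Nat.pow_le_pow_left ?_ 2) h6⟩
  · have h11 := allDiv_ps hc' h7 (h8 ▸ Subgroup.index_dvd_of_le h9) W.index_dvd_card
    simp only [adm_zero hc h10, Bool.and_eq_true, Bool.or_eq_true, Bool.not_eq_true', Nat.beq_eq, Nat.ble_eq,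
      Bool.true_eq_false, false_or] at h11
    rcases h11 with h11 | ⟨h11, h12, h13⟩
    · exact h0 V W h9 (h11.trans h8.symm)
    · rw [← Bool.not_eq_true, Nat.ble_eq] at h13
      exact (index_sub h12 h9 h11).resolve_right (h8 ▸ h13)
  · have h8 : {V : Subgroup (alternatingGroup (Fin c)) | V.index = d} ⊆
        (fun O => (SW O).subgroupOf (alternatingGroup (Fin c))) ''
          (↑(Finset.powersetCard k (Finset.univ : Finset (Fin c))) : Set (Finset (Fin c))) := by
      intro V hV
      have h8 : V ≠ ⊤ := fun h8 => by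
        rw [Set.mem_ofPred, h8, Subgroup.index_top, h4, cho_eq (by omega)] at hV
        have := Nat.choose_le_choose k (show k + 1 ≤ c by omega)
        rw [Nat.choose_succ_self_right] at this
        omega
      obtain ⟨-, O, h9, h10⟩ := (adm_or hc h8 k).resolve_left fun h9 => Bool.false_ne_true (h5.symm.trans (hV ▸ h9))
      exact ⟨O, Finset.mem_coe.2 (Finset.mem_powersetCard_univ.2 h9),
        (h0 V _ h10 (by rw [index_SW' hc, h9, ← h4, hV])).symm⟩
    refine (Set.ncard_le_ncard h8).trans ((Set.ncard_image_le (Set.toFinite _)).trans (le_of_eq ?_))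
    rw [Set.ncard_coe_finset, Finset.card_powersetCard, Finset.card_univ, Fintype.card_fin, h4, cho_eq (by omega)]

/-- the order of the automorphism group -/
def nb (c : ℕ) : ℕ := bif Nat.beq c 6 then 1440 else fac c

/-- the filter -/
def flt (c N n p a o d : ℕ) : Bool := frc (fac c / 2) fun L =>
  !((Nat.beq c 7 || Nat.beq c 8) && (Nat.beq a (fac c) && (!Nat.beq p 7 && Nat.ble n 5))) &&
  !allDiv ps (Nat.gcd d L) (fun e => !(dv d (e * (a * o / L)) && adm c e 0) || (Nat.beq e d && kill c (nb c) d (N / a))) 1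

/-- the parameters which are excluded by the characteristic or the dimension -/
def skip (c n p : ℕ) : Bool :=
  bif Nat.beq c 5 then Nat.beq p 2 || Nat.beq p 5 else bif Nat.beq c 6 then Nat.beq p 3
  else bif Nat.beq c 7 then Nat.beq n 3 && !Nat.beq p 5 else bif Nat.beq c 8 then Nat.beq p 2
  else Nat.ble (n + 2) c && !dv p c

/-- the least dimension -/
def n0 (c : ℕ) : ℕ := bif Nat.ble c 7 then 3 else bif Nat.beq c 8 then 4 else c - 2

/-- the sieve -/
def chk (c t n p f : ℕ) : Bool := skip c n p || frc (p ^ f) fun q => frc (ordCl t n q) fun N => frc (fac c / 2) fun L =>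
  sieveE N p (outCl t n p f) (lminCl t n q) (nb c) L L c (flt c N n p)

/-- the loop -/
def run (c X t : ℕ) : Bool := allCl t (nb c) X (n0 c) (chk c t)

end Sim.Al

end Cfsg.Agent.TH
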