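import Cfsg.Agent.TH.Sv.ClDat
import Cfsg.Agent.S0243
import Cfsg.Agent.S0245
import Cfsg.Agent.S0246
import Cfsg.Agent.S0255
import Cfsg.Agent.S0256
import Cfsg.Agent.S0280
import Cfsg.Agent.S0292
import Cfsg.Agent.S0293
import Cfsg.Agent.S0294
import Cfsg.Agent.S0813
import Cfsg.Agent.S0814
import Cfsg.Agent.S0815
import Cfsg.Agent.S0816
import Cfsg.Agent.S0817
import Cfsg.Agent.S0818
import Cfsg.Agent.S0822
import Cfsg.Agent.S2140
import Cfsg.Agent.S2141
import Cfsg.Agent.S2142
import Cfsg.Agent.S2143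
import Cfsg.Agent.S2144
import Cfsg.Agent.S2145
import Cfsg.Agent.S2146
import Cfsg.Agent.S2147
import Cfsg.Agent.S2148
import Cfsg.Agent.S2149
import Cfsg.Agent.S2150
import Cfsg.Agent.S2151
import Cfsg.Agent.S2152
import Cfsg.Agent.H500.AS.Index
import Cfsg.Agent.LieClassical.OmegaCenter
import Cfsg.Agent.LieClassical.OrthForms
import Cfsg.Agent.LieClassical.SUBasic
import Cfsg.Agent.LieClassical.SympCenter

/-!
# S3541: the numerical data of a classical socle (helper64)
-/

set_option autoImplicit false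
set_option linter.unusedSectionVars false

namespace Cfsg.Agent.TH.Sv

open Finset Cfsg.Agent.LieClassical

namespace Dat

theorem prd_eq (f : ℕ → ℕ) (a k : ℕ) : prd f a k = ∏ i ∈ range k, f (a + i) := by
  induction k with
  | zero => rfl
  | succ k ih => rw [prd, ih, prod_range_succ]

theorem prd_two (q k : ℕ) : prd (fun i => q ^ (2 * i) - 1) 1 k = ∏ i ∈ range k, (q ^ (2 * (i + 1)) - 1) := by
  rw [prd_eq]; simp only [add_comm 1]

theorem prod_gl {q : ℕ} (n : ℕ) : ∏ i : Fin (n + 1), (q ^ (n + 1) - q ^ (i : ℕ)) =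
    (q - 1) * (q ^ ((n + 1) * n / 2) * prd (fun i => q ^ i - 1) 2 n) := by
  rw [Fin.prod_univ_eq_prod_range (fun i => q ^ (n + 1) - q ^ i),
    prod_congr rfl (g := fun i => q ^ i * (q ^ (n + 1 - 1 - i + 1) - 1)) fun i hi => by
      rw [Nat.mul_sub_one, ← pow_add, show i + (n + 1 - 1 - i + 1) = n + 1 by have := mem_range.1 hi; omega],
    prod_mul_distrib, prod_pow_eq_pow_sum, sum_range_id, prod_range_reflect (fun i => q ^ (i + 1) - 1), prod_range_succ',
    prd_eq]
  simp only [Nat.add_sub_cancel, zero_add, pow_one, add_comm 2]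
  ring

theorem prod_gu {q : ℕ} (n : ℕ) : ∏ i ∈ range (n + 1), (if Even i then q ^ (i + 1) + 1 else q ^ (i + 1) - 1) =
    (q + 1) * prd (um q) 2 n := by
  rw [prod_range_succ', prd_eq, if_pos Even.zero, zero_add, pow_one, mul_comm]
  congr 1
  refine prod_congr rfl fun i _ => ?_
  simp only [um, Nat.even_iff, add_comm 2, add_assoc]
  split_ifs <;> first | rfl | omega

theorem pow_mod_four {q : ℕ} (hq : q % 2 = 1) (m : ℕ) : q ^ m % 4 = if Even (m * (q - 1) / 2) then 1 else 3 := by
  obtain ⟨a, rfl⟩ : ∃ a, q = 2 * a + 1 := ⟨q / 2, by omega⟩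
  rw [Nat.add_sub_cancel, mul_left_comm, Nat.mul_div_cancel_left _ two_pos]
  simp only [Nat.even_iff]
  induction m with
  | zero => simp
  | succ m ih =>
    rw [pow_succ, Nat.mul_mod, ih, add_mul, one_mul]
    have h1 : (2 * a + 1) % 4 = if a % 2 = 0 then 1 else 3 := by split_ifs <;> omega
    rw [h1]
    split_ifs <;> omega

theorem gcd_four (x : ℕ) : Nat.gcd 4 x = if x % 4 = 0 then 4 else if x % 4 = 2 then 2 else 1 := by
  rw [Nat.gcd_rec]
  have : x % 4 < 4 := Nat.mod_lt _ (by decide)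
  generalize x % 4 = r at *
  interval_cases r <;> rfl

theorem out_four {p f : ℕ} (hp : p.Prime) (hf : 0 < f) {m : ℕ} (hm : 0 < m) :
    ((if p = 2 then 2 else (if Even (m * (p ^ f - 1) / 2) then 8 else 4)) = 2 * Nat.gcd 4 ((p ^ f) ^ m - 1)) ∧
    (if p = 2 then 2 else (if Even (m * (p ^ f - 1) / 2) then 4 else 8)) = 2 * Nat.gcd 4 ((p ^ f) ^ m + 1) := by
  have h0 : 0 < (p ^ f) ^ m := pow_pos (pow_pos hp.pos _) _
  rw [gcd_four, gcd_four]
  rcases hp.eq_two_or_odd' with rfl | h
  · have h1 : 2 ∣ (2 ^ f) ^ m := dvd_pow (dvd_pow_self 2 hf.ne') hm.ne'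
    simp only [if_true]
    constructor <;> split_ifs <;> omega
  · have h1 := pow_mod_four (Nat.odd_iff.1 (h.pow (n := f))) m
    have h2 : p ≠ 2 := by rintro rfl; exact absurd h (by decide)
    simp only [if_neg h2]
    constructor <;> split_ifs at h1 ⊢ <;> omega

section

variable {G : Type} [Group G] [Finite G] {T : Subgroup G} {X : Type} [Group X]

theorem index_dvd (hT : AS T) (e : T ≃* X) {o : ℕ} (h : Nat.card (MulAut X) = o * Nat.card X) : T.index ∣ o := by
  have := hT.normal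
  have h1 : Nat.card G ∣ Nat.card (MulAut T) :=
    Subgroup.card_dvd_of_injective (MulAut.conjNormal : G →* MulAut T) (by
      rw [injective_iff_map_eq_one]
      intro g hg
      have h2 : g ∈ Subgroup.centralizer (T : Set G) := fun t ht => by
        have h3 := congrArg (fun σ : MulAut T => ((σ ⟨t, ht⟩ : T) : G)) hg
        simp only [MulAut.conjNormal_apply, MulAut.one_apply] at h3
        exact (mul_inv_eq_iff_eq_mul.1 h3).symm
      rwa [hT.cent] at h2)
  rw [Nat.card_congr (MulAut.congr e).toEquiv, h, ← Nat.card_congr e.toEquiv, ← T.index_mul_card] at h1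
  exact Nat.dvd_of_mul_dvd_mul_right Nat.card_pos h1

theorem le_index {Y : Type} [Group Y] (e : Y ≃* X) {c : ℕ} (h : ∀ M : Subgroup X, M ≠ ⊤ → c ≤ M.index) (M : Subgroup Y)
    (hM : M ≠ ⊤) : c ≤ M.index := by
  rw [← Subgroup.index_map_of_bijective (f := e.toMonoidHom) e.bijective M]
  refine h _ fun h1 => hM ?_
  rw [← Subgroup.index_eq_one, Subgroup.index_map_of_bijective (f := e.toMonoidHom) e.bijective M] at h1
  exact Subgroup.index_eq_one.1 h1

end

theorem projRep {p n : ℕ} {F ι Γ T : Type} [Field F] [Fintype F] [CharP F p] [Fintype ι] [DecidableEq ι] [Group Γ]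
    [Group T] (hn : Fintype.card ι = n) (h0 : 0 < n) (φ : Γ →* Matrix ι ι F) (hφ : Function.Injective φ)
    (hc : ∀ g ∈ Subgroup.center Γ, ∃ c : F, φ g = c • 1) (e : T ≃* Γ ⧸ Subgroup.center Γ) :
    ProjRep p (Fintype.card F) n T := by
  let r := Matrix.reindexAlgEquiv F F (Fintype.equivFinOfCardEq hn)
  let ψ : Γ →* GL (Fin n) F := (r.toRingEquiv.toMonoidHom.comp φ).toHomUnits
  have h1 : ∀ g, (ψ g : Matrix (Fin n) (Fin n) F) = r (φ g) := fun _ => rfl
  have h2 : Function.Injective ψ := fun a b h => hφ (r.injective (by rw [← h1, ← h1, h]))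
  refine ⟨F, inferInstance, inferInstance, inferInstance, ψ.range,
    (e.symm.toMonoidHom.comp (QuotientGroup.mk' _)).comp (MonoidHom.ofInjective h2).symm.toMonoidHom, rfl,
    (e.symm.surjective.comp (QuotientGroup.mk'_surjective _)).comp (MonoidHom.ofInjective h2).symm.surjective, ?_⟩
  intro x
  obtain ⟨g, rfl⟩ := (MonoidHom.ofInjective h2).surjective x
  simp only [MonoidHom.comp_apply, MulEquiv.coe_toMonoidHom, MulEquiv.symm_apply_apply, map_eq_one_iff _ e.symm.injective,
    QuotientGroup.mk'_apply, QuotientGroup.eq_one_iff, MonoidHom.ofInjective_apply, Cfsg.Geo.mem_scalars_iff, h1]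
  constructor
  · intro hg
    obtain ⟨c, h3⟩ := hc g hg
    have h4 : r (φ g) = c • 1 := by rw [h3, map_smul, map_one]
    refine ⟨Units.mk0 c ?_, h4⟩
    rintro rfl
    have : Nonempty (Fin n) := ⟨⟨0, h0⟩⟩
    exact (ψ g).ne_zero (by rw [h1, h4, zero_smul])
  · rintro ⟨c, h3⟩
    refine Subgroup.mem_center_iff.2 fun a => hφ (r.injective ?_)
    rw [map_mul, map_mul, map_mul, map_mul, h3, Matrix.mul_smul, Matrix.smul_mul, mul_one, one_mul]

theorem projRep_O {p n : ℕ} {F ι T : Type} [Field F] [Fintype F] [CharP F p] [Fintype ι] [DecidableEq ι] [Group T]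
    (hn : Fintype.card ι = n) (h0 : 3 ≤ n) (Q : QuadraticForm F (ι → F)) {Q' : (ι → F) → F} (hQ' : ⇑Q = Q')
    (hQ : OrthCore.Nondeg Q) (hs : ∃ u : ι → F, u ≠ 0 ∧ Q' u = 0) (e : T ≃* POmega F Q') :
    ProjRep p (Fintype.card F) n T := by
  subst hQ'
  refine projRep hn (by omega) (((Units.coeHom _).comp (isometryGroup F Q).subtype).comp (Omega F Q).subtype)
    (fun _ _ => OmegaCenter.omega_ext) (fun g hg => ?_) e
  rcases (OmegaCenter.mem_center_omega_iff Q ⟨fun x hx => hQ x hx, fun x hx => hQ x fun y => by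
    rw [QuadraticMap.polar_comm]; exact hx y⟩ (by omega) hs g).1 hg with h | h
  · exact ⟨1, h.trans (one_smul _ _).symm⟩
  · exact ⟨-1, h.trans (by simp)⟩

theorem tr (P : ℕ → Prop) {a b : ℕ} (h : a = b) (x : P b) : P a := h ▸ x

theorem out2 (n p f : ℕ) : outCl 2 n p f = (if n = 4 ∧ p = 2 then 2 else 1) * Nat.gcd 2 (p ^ f - 1) * f := rfl
theorem out4 (n p f : ℕ) : outCl 4 n p f = (if n = 8 then 6 else 2) * Nat.gcd 4 ((p ^ f) ^ (n / 2) - 1) * f := rfl
theorem out5 (n p f : ℕ) : outCl 5 n p f = 2 * Nat.gcd 4 ((p ^ f) ^ (n / 2) + 1) * f := rfl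

theorem exists_pow (F : Type) [Field F] [Fintype F] (p : ℕ) [CharP F p] : ∃ f, 0 < f ∧ Fintype.card F = p ^ f := by
  obtain ⟨n, -, h⟩ := FiniteField.card F p
  exact ⟨n, n.2, h⟩

variable {G : Type} [Group G] [Finite G] {T H : Subgroup G} {m p : ℕ} (c : LieCtx T H m p)
include c

theorem dat_L (h : IsPSLChar p T) : ∃ t n f, ClDat p T t n f := by
  obtain ⟨F, _, _, _, n, h1, h2, ⟨e⟩⟩ := h
  have := Fact.mk c.prime
  obtain ⟨f, hf, hF⟩ := exists_pow F p
  have hq : 2 ≤ p ^ f := hF ▸ Fintype.one_lt_card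
  have h3 : 3 ≤ n := by
    by_contra h
    obtain rfl : n = 2 := by omega
    exact c.notL2 ⟨F, inferInstance, inferInstance, h2 rfl, ⟨e⟩⟩
  have h4 : ¬ (n ≤ 4 ∧ p ^ f = 2) := by
    rintro ⟨h4, h5⟩
    rw [h5] at hF
    obtain rfl | rfl : n = 3 ∨ n = 4 := by omega
    · have := Fact.mk (by decide : Nat.Prime 7)
      obtain ⟨e'⟩ := S0255.result (F := ZMod 7) (ZMod.card 7) hF
      exact c.notL2 ⟨ZMod 7, inferInstance, inferInstance, by rw [ZMod.card]; decide, ⟨e.trans e'.symm⟩⟩
    · obtain ⟨e'⟩ := S0256.result hF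
      exact c.notAlt ⟨8, by decide, ⟨e.trans e'⟩⟩
  have h5 := S0243.result hF n h1
  have h6 := S0813.result p f hf hF n h1 (by omega)
  have h7 := Matrix.card_GL_field (𝔽 := F) n
  have h8 := (Subgroup.center (GL (Fin n) F)).card_eq_card_quotient_mul_card_subgroup
  have h9 : Nat.card (Subgroup.center (GL (Fin n) F)) = p ^ f - 1 := by
    have : Nonempty (Fin n) := ⟨⟨0, by omega⟩⟩
    classical
    rw [Matrix.GeneralLinearGroup.center_eq_range_scalar, ← hF, ← Fintype.card_units, ← Nat.card_eq_fintype_card]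
    exact (Nat.card_congr (MonoidHom.ofInjective fun a b h => Units.ext
      (Matrix.scalar_inj.1 (congrArg Units.val h))).toEquiv).symm
  have h10 : Nat.card (Matrix.ProjGenLinGroup (Fin n) F) =
      Nat.gcd n (p ^ f - 1) * Nat.card (Matrix.ProjectiveSpecialLinearGroup (Fin n) F) := by
    rw [hF, ← h5] at h7
    rw [h9] at h8
    refine Nat.eq_of_mul_eq_mul_right (show 0 < p ^ f - 1 by omega) (Eq.trans (h8.symm.trans h7) (by ring))
  refine ⟨0, n, f, hf, by simp [validCl, h3]; omega, ⟨F, inferInstance, inferInstance, inferInstance, Or.inl ⟨rfl, hF, ⟨e⟩⟩⟩,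
    ?_, index_dvd c.as e (by rw [h6, h10, if_neg (by omega), outCl, if_pos rfl]; ring),
    le_index e (S2140.result hF n h3 (by omega)).1, ?_⟩
  · obtain ⟨n, rfl⟩ : ∃ k, n = k + 1 := ⟨n - 1, by omega⟩
    rw [prod_gl, mul_left_comm] at h5
    rw [Nat.card_congr e.toEquiv, ordCl, if_pos rfl, Nat.add_sub_cancel,
      ← Nat.eq_of_mul_eq_mul_left (by omega) h5, Nat.mul_div_cancel_left _ (Nat.gcd_pos_of_pos_left _ (by omega))]
  · rw [if_neg (by decide), ← hF]
    refine projRep (Fintype.card_fin n) (by omega) (slToMat n F) (fun a b h => Subtype.ext h) (fun g hg => ?_) e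
    obtain ⟨r, -, hr⟩ := Matrix.SpecialLinearGroup.mem_center_iff.1 hg
    exact ⟨r, by rw [Matrix.smul_one_eq_diagonal]; exact hr.symm⟩

theorem dat_U (h : IsPSUChar p T) : ∃ t n f, ClDat p T t n f := by
  obtain ⟨F, _, _, _, n, q, hF, h1, h2, ⟨e⟩⟩ := h
  have := Fact.mk c.prime
  obtain ⟨k, -, hk⟩ := exists_pow F p
  obtain ⟨f, -, rfl⟩ := (Nat.dvd_prime_pow c.prime).1 (show q ∣ p ^ k by rw [← hk, hF]; exact dvd_pow_self q two_ne_zero)
  have hf : 0 < f := Nat.pos_of_ne_zero fun e => by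
    have := Fintype.one_lt_card (α := F)
    rw [hF, e] at this
    simp at this
  have hq : 2 ≤ p ^ f := Nat.one_lt_pow hf.ne' c.prime.one_lt
  have h5 := S0280.result hF n (by omega)
  refine ⟨1, n, f, hf, by simp [validCl, h1]; omega,
    ⟨F, inferInstance, inferInstance, inferInstance, Or.inr (Or.inl ⟨rfl, hF, ⟨e⟩⟩)⟩, ?_,
    index_dvd c.as e (by rw [S0815.result p f hf rfl hF n h1 h2, outCl, if_neg (by decide), if_pos rfl]; ring),
    le_index e ?_, ?_⟩
  · obtain ⟨n, rfl⟩ : ∃ k, n = k + 1 := ⟨n - 1, by omega⟩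
    rw [prod_gu, mul_left_comm, mul_left_comm _ (p ^ f + 1)] at h5
    rw [Nat.card_congr e.toEquiv, ordCl, if_neg (by decide), if_pos rfl,
      show prd (um (p ^ f)) 2 (n + 1 - 1) = prd (um (p ^ f)) 2 n from rfl,
      ← Nat.eq_of_mul_eq_mul_left (by omega) h5, Nat.mul_div_cancel_left _ (Nat.gcd_pos_of_pos_left _ (by omega))]
  · generalize p ^ f = q at *
    rw [lminCl, if_neg (by decide), if_pos rfl]
    split_ifs with h3 h4 h6 h7
    · subst h3 h4; exact (S2149.result hF).1
    · subst h3; exact (S2148.result q hF (by omega) h4).1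
    · subst h6; exact (S2150.result q hF hq).1
    · intro M hM
      obtain ⟨rfl, h8⟩ := h7
      obtain ⟨j, rfl⟩ : ∃ j, n = j + 2 := ⟨n - 2, by omega⟩
      have h9 := H77.Final.lower hF (by omega) M hM
      rw [H77.Step1.In, (Nat.even_iff.2 h8).neg_one_pow, Nat.add_sub_cancel] at h9
      refine Nat.div_le_of_le_mul ?_
      have h10 : 1 ≤ 2 ^ (j + 2) := Nat.one_le_two_pow
      have h11 : (1 : ℤ) ≤ 2 ^ j := one_le_pow₀ (by decide)
      zify [h10]
      rw [show j + 2 - 1 = j + 1 from rfl, pow_succ, pow_add]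
      push_cast at h9
      rcases h9 with h9 | ⟨-, -, h9⟩ <;> nlinarith
    · rcases Nat.even_or_odd n with h8 | h8
      · have h9 := Nat.even_iff.1 h8
        rw [um, um, if_pos h9, if_neg (by omega)]
        exact (S2152.result q hF (by omega) n (by omega) h8).1
      · have h9 := Nat.odd_iff.1 h8
        rw [um, um, if_neg (by omega), if_pos (by omega)]
        exact (S2151.result q hF hq n (by omega) h8).1
  · rw [if_pos rfl, ← hF]
    refine projRep (Fintype.card_fin n) (by omega) ((slToMat n F).comp (SU n F (p ^ f)).subtype)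
      (fun a b h => Subtype.ext (Subtype.ext h)) (fun g hg => ?_) e
    obtain ⟨r, h3, h4, rfl⟩ := (SUBasic.mem_center_SU_iff hF h1 g).1 hg
    exact ⟨r, by rw [Matrix.smul_one_eq_diagonal]; rfl⟩

theorem dat_Sp (h : IsPSpChar p T) : ∃ t n f, ClDat p T t n f := by
  obtain ⟨F, _, _, _, k, h1, h2, ⟨e⟩⟩ := h
  have := Fact.mk c.prime
  obtain ⟨f, hf, hF⟩ := exists_pow F p
  have hq : 2 ≤ p ^ f := hF ▸ Fintype.one_lt_card
  have hk : 2 * k / 2 = k := by omega
  rw [hF] at h2
  refine ⟨2, 2 * k, f, hf, by simp [validCl]; omega, ⟨F, inferInstance, inferInstance, inferInstance,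
    Or.inr (Or.inr (Or.inl ⟨rfl, hF, tr (fun j => Nonempty (T ≃* PSp j F)) hk ⟨e⟩⟩))⟩, ?_,
    index_dvd c.as e (by
      rw [S0814.result p f hf hF k h1 h2, out2]
      simp only [show 2 * k = 4 ↔ k = 2 by omega]), le_index e ?_, ?_⟩
  · have h3 := (Subgroup.center (Matrix.symplecticGroup (Fin k) F)).card_eq_card_quotient_mul_card_subgroup
    rw [S0245.result hF, S0246.result hF k (by omega)] at h3
    rw [Nat.card_congr e.toEquiv, ordCl, if_neg (by decide), if_neg (by decide), if_pos (by decide), hk, prd_two, ← sq, h3,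
      Nat.mul_div_cancel _ (Nat.gcd_pos_of_pos_left _ two_pos)]
  · generalize p ^ f = q at *
    rw [lminCl, if_neg (by decide), if_neg (by decide), if_pos rfl, hk]
    split_ifs with h3 h4
    · obtain rfl : k = 2 := by omega
      have := Fintype.ofFinite (GaloisField 2 2)
      have h5 : Fintype.card (GaloisField 2 2) = 4 := by
        rw [← Nat.card_eq_fintype_card, GaloisField.card 2 2 two_ne_zero]; rfl
      obtain ⟨e'⟩ := S0822.result h5 (hF.trans h3.2)
      exact le_index e'.symm (S2150.result 2 h5 le_rfl).1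
    · exact (S2142.result (hF.trans h4) k (by omega)).1
    · exact (S2141.result hF k h1 (by omega) (by omega)).1
  · rw [if_neg (by decide), ← hF]
    exact projRep (by simp [two_mul]) (by omega) (Matrix.symplecticGroup (Fin k) F).subtype Subtype.val_injective
      (fun g hg => (SympCenter.mem_center_iff k g).1 hg) e

theorem dat_O (h : IsPOmegaOddChar p T) : ∃ t n f, ClDat p T t n f := by
  obtain ⟨F, _, _, _, k, h1, h2, ⟨e⟩⟩ := h
  have := Fact.mk c.prime
  obtain ⟨f, hf, hF⟩ := exists_pow F p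
  have hq : 2 ≤ p ^ f := hF ▸ Fintype.one_lt_card
  have hk : (2 * k + 1) / 2 = k := by omega
  rw [hF] at h2
  have h3 := Nat.odd_iff.1 h2
  have hp : Odd p := (Nat.odd_pow_iff hf.ne').1 h2
  refine ⟨3, 2 * k + 1, f, hf, by simp [validCl, h3]; omega, ⟨F, inferInstance, inferInstance, inferInstance,
    Or.inr (Or.inr (Or.inr (Or.inl ⟨rfl, hF, tr (fun j => Nonempty (T ≃* POmega F (quadFormOdd j F))) hk ⟨e⟩⟩)))⟩, ?_,
    index_dvd c.as e (S0816.result p f hf hF hp k h1), le_index e ?_, ?_⟩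
  · rw [Nat.card_congr e.toEquiv, ordCl, if_neg (by decide), if_neg (by decide), if_pos (by decide), hk, prd_two, ← sq,
      ← S0292.result hF h2 k h1, Nat.gcd_eq_left (by omega), Nat.mul_div_cancel_left _ two_pos]
  · generalize p ^ f = q at *
    rw [lminCl, if_neg (by decide), if_neg (by decide), if_neg (by decide), if_pos rfl, hk]
    split_ifs with h4
    · exact (S2144.result (hF.trans h4) k h1).1
    · exact (S2143.result hF h2 (by omega) k h1).1
  · rw [if_neg (by decide), ← hF]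
    refine projRep_O (by simp; omega) (by omega) _ (OrthForms.coe_oddForm k F) (OrthForms.nondeg_oddForm k F fun h4 => ?_)
      ⟨Pi.single (.inr (.inl ⟨0, by omega⟩)) 1, by simp, by simp [quadFormOdd]⟩ e
    have h5 := (CharP.cast_eq_zero_iff F p 2).1 (by exact_mod_cast h4)
    rw [(Nat.prime_dvd_prime_iff_eq c.prime Nat.prime_two).1 h5] at hp
    exact absurd hp (by decide)

theorem dat_Op (h : IsPOmegaPlusChar p T) : ∃ t n f, ClDat p T t n f := by
  obtain ⟨F, _, _, _, k, h1, ⟨e⟩⟩ := h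
  have := Fact.mk c.prime
  obtain ⟨f, hf, hF⟩ := exists_pow F p
  have hq : 2 ≤ p ^ f := hF ▸ Fintype.one_lt_card
  have hk : 2 * k / 2 = k := by omega
  refine ⟨4, 2 * k, f, hf, by simp [validCl]; omega, ⟨F, inferInstance, inferInstance, inferInstance,
    Or.inr (Or.inr (Or.inr (Or.inr (Or.inl ⟨rfl, hF, tr (fun j => Nonempty (T ≃* POmega F (quadFormPlus j F))) hk ⟨e⟩⟩))))⟩, ?_,
    index_dvd c.as e (by
      rw [S0817.result p f hf hF k h1, (out_four c.prime hf (m := k) (by omega)).1, out4, hk]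
      simp only [show 2 * k = 8 ↔ k = 4 by omega]
      split_ifs <;> ring), le_index e ?_, ?_⟩
  · rw [Nat.card_congr e.toEquiv, ordCl, if_neg (by decide), if_neg (by decide), if_neg (by decide), if_pos rfl, hk,
      prd_two, ← S0293.result hF k h1, Nat.mul_div_cancel_left _ (Nat.gcd_pos_of_pos_left _ (by decide))]
  · generalize p ^ f = q at *
    rw [lminCl, if_neg (by decide), if_neg (by decide), if_neg (by decide), if_neg (by decide), if_pos rfl, hk]
    split_ifs with h3 h4
    · exact (S2146.result (hF.trans h3) k h1).1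
    · obtain ⟨k, rfl⟩ : ∃ j, k = j + 1 := ⟨k - 1, by omega⟩
      exact H500.AS.plus_three_index_ge (hF.trans h4) (by omega)
    · exact (S2145.result hF (by omega) k h1).1
  · rw [if_neg (by decide), ← hF]
    exact projRep_O (by simp; omega) (by omega) _ (OrthForms.coe_plusForm k F) (OrthForms.nondeg_plusForm k F)
      ⟨Pi.single (.inl ⟨0, by omega⟩) 1, by simp, by simp [quadFormPlus]⟩ e

theorem dat_Om (h : IsPOmegaMinusChar p T) : ∃ t n f, ClDat p T t n f := by
  obtain ⟨F, _, _, _, k, a, b, h1, hab, ⟨e⟩⟩ := h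
  have := Fact.mk c.prime
  obtain ⟨f, hf, hF⟩ := exists_pow F p
  have hk : 2 * k / 2 = k := by omega
  refine ⟨5, 2 * k, f, hf, by simp [validCl]; omega, ⟨F, inferInstance, inferInstance, inferInstance,
    Or.inr (Or.inr (Or.inr (Or.inr (Or.inr ⟨rfl, hF, a, b, hab,
      tr (fun j => Nonempty (T ≃* POmega F (quadFormMinus (j - 1) F a b))) hk ⟨e⟩⟩))))⟩, ?_,
    index_dvd c.as e (by
      rw [S0818.result p f hf hF k h1 a b hab, (out_four c.prime hf (m := k) (by omega)).2, out5, hk]), le_index e ?_, ?_⟩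
  · rw [Nat.card_congr e.toEquiv, ordCl, if_neg (by decide), if_neg (by decide), if_neg (by decide), if_neg (by decide), hk,
      prd_two, ← S0294.result hF k h1 a b hab, Nat.mul_div_cancel_left _ (Nat.gcd_pos_of_pos_left _ (by decide))]
  · rw [lminCl, if_neg (by decide), if_neg (by decide), if_neg (by decide), if_neg (by decide), if_neg (by decide), hk]
    exact (S2147.result hF k h1 a b hab).1
  · rw [if_neg (by decide), ← hF]
    exact projRep_O (by simp; omega) (by omega) _ (OrthForms.coe_minusForm (k - 1) F a b)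
      (OrthForms.nondeg_minusForm (k - 1) F a b hab)
      ⟨Pi.single (.inl (.inl ⟨0, by omega⟩)) 1, by simp, by simp [quadFormMinus]⟩ e

end Dat

/-- **the data of a classical socle** -/
theorem boxClDat : BoxClDat := by
  rintro G _ _ T H m p c (h | h | h | h | h | h)
  exacts [Dat.dat_L c h, Dat.dat_Sp c h, Dat.dat_U c h, Dat.dat_O c h, Dat.dat_Op c h, Dat.dat_Om c h]

end Cfsg.Agent.TH.Sv
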