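import Cfsg.Agent.TH.Sv.ClDat

/-!
# S3541, box AltBig: arithmetic (helper64)
-/

set_option autoImplicit false

namespace Cfsg.Agent.TH.Sim

open Sv

theorem prd_succ (f : ℕ → ℕ) (a k : ℕ) : prd f a (k + 1) = prd f a k * f (a + k) := rfl

theorem prd_dvd (f : ℕ → ℕ) (a : ℕ) {k l : ℕ} (h : k ≤ l) : prd f a k ∣ prd f a l := by
  induction l, h using Nat.le_induction with
  | base => exact dvd_rfl
  | succ l _ ih => exact ih.mul_right _

theorem two_pow_le_prd {f : ℕ → ℕ} {a : ℕ} (h : ∀ i, a ≤ i → 2 ≤ f i) (k : ℕ) : 2 ^ k ≤ prd f a k := by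
  induction k with
  | zero => exact le_rfl
  | succ k ih => rw [prd_succ, pow_succ]; exact Nat.mul_le_mul ih (h _ (by omega))

theorem prd_even_dvd (f : ℕ → ℕ) {j : ℕ} (h : 1 ≤ j) : prd (fun i => f (2 * i)) 1 j * f 3 ∣ prd f 2 (2 * j) := by
  induction j, h using Nat.le_induction with
  | base => exact dvd_rfl
  | succ j _ ih =>
    rw [prd_succ, show 2 * (j + 1) = 2 * j + 1 + 1 by ring, prd_succ, prd_succ, mul_right_comm,
      show 2 * (1 + j) = 2 + 2 * j by ring]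
    exact (Nat.mul_dvd_mul_right ih _).mul_right _

theorem prd_lower {q : ℕ} (hq : 2 ≤ q) (j : ℕ) : 2 ^ (j * (j + 1)) ≤ 2 * prd (fun i => q ^ (2 * i) - 1) 1 j := by
  have h1 : ∀ j, (2 ^ j + 1) * 2 ^ (j * (j + 1)) ≤ 2 * 2 ^ j * prd (fun i => q ^ (2 * i) - 1) 1 j := fun j => by
    induction j with
    | zero => exact le_rfl
    | succ j ih =>
      have h2 : 2 ^ ((j + 1) * (j + 1 + 1)) = 2 ^ (j * (j + 1)) * (4 * (2 ^ j) ^ 2) := by ring
      have h3 : 4 * (2 ^ j) ^ 2 ≤ q ^ (2 * (1 + j)) :=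
        le_trans (le_of_eq (by ring)) (Nat.pow_le_pow_left hq (2 * (1 + j)))
      have h4 : 1 ≤ 2 ^ j := Nat.one_le_two_pow
      rw [prd_succ, h2, pow_succ 2 j]
      generalize 2 ^ j = u at *
      generalize 2 ^ (j * (j + 1)) = A at *
      generalize prd (fun i => q ^ (2 * i) - 1) 1 j = P at *
      obtain ⟨R, hR⟩ : ∃ R, 4 * u ^ 2 = R + 1 := Nat.exists_eq_succ_of_ne_zero (by positivity)
      have h5 : R ≤ q ^ (2 * (1 + j)) - 1 := by omega
      have h6 : (u * 2 + 1) * (R + 1) ≤ (u + 1) * 2 * R := by nlinarith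
      calc (u * 2 + 1) * (A * (4 * u ^ 2)) = A * ((u * 2 + 1) * (R + 1)) := by rw [hR]; ring
        _ ≤ A * ((u + 1) * 2 * R) := Nat.mul_le_mul_left _ h6
        _ = (u + 1) * A * (2 * R) := by ring
        _ ≤ 2 * u * P * (2 * (q ^ (2 * (1 + j)) - 1)) := Nat.mul_le_mul ih (Nat.mul_le_mul_left _ h5)
        _ = _ := by ring
  have h2 := h1 j
  have h3 : 0 < 2 ^ j := by positivity
  refine Nat.le_of_mul_le_mul_left (le_trans ?_ (h2.trans (le_of_eq (by ring)))) h3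
  exact Nat.mul_le_mul_right _ (Nat.le_succ _)

theorem three_pow_dvd_prd {q : ℕ} (hq : ¬ 3 ∣ q) (j : ℕ) : 3 ^ (j + j / 3) ∣ prd (fun i => q ^ (2 * i) - 1) 1 j := by
  have h0 : 0 < q := Nat.pos_of_ne_zero fun h => hq (h ▸ dvd_zero 3)
  have h1 : q ^ 2 ≡ 1 [MOD 3] := Nat.ModEq.pow_totient (n := 3) ((Nat.prime_three.coprime_iff_not_dvd.2 hq).symm)
  have h2 : q ^ 6 ≡ 1 [MOD 9] :=
    Nat.ModEq.pow_totient (n := 9) (Nat.Coprime.pow_right 2 (Nat.prime_three.coprime_iff_not_dvd.2 hq).symm)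
  induction j with
  | zero => exact dvd_rfl
  | succ j ih =>
    rw [prd_succ]
    by_cases h : 3 ∣ j + 1
    · obtain ⟨i, hi⟩ := h
      have h3 := h2.pow i
      rw [one_pow, ← pow_mul, show 6 * i = 2 * (1 + j) by omega] at h3
      rw [show j + 1 + (j + 1) / 3 = j + j / 3 + 2 by omega, pow_add]
      exact Nat.mul_dvd_mul ih ((Nat.modEq_iff_dvd' (Nat.one_le_pow _ _ h0)).1 h3.symm)
    · have h3 := h1.pow (1 + j)
      rw [one_pow, ← pow_mul] at h3
      rw [show j + 1 + (j + 1) / 3 = j + j / 3 + 1 by omega, pow_succ]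
      exact Nat.mul_dvd_mul ih ((Nat.modEq_iff_dvd' (Nat.one_le_pow _ _ h0)).1 h3.symm)

theorem dvd_div_of {a b g x : ℕ} (hg : 0 < g) (h1 : g ∣ b) (h2 : a * b ∣ x) : a ∣ x / g := by
  obtain ⟨b, rfl⟩ := h1
  obtain ⟨y, rfl⟩ := h2
  rw [show a * (g * b) * y = g * (a * (b * y)) by ring, Nat.mul_div_cancel_left _ hg]
  exact Dvd.intro _ rfl

theorem valid_cases {t n q : ℕ} (h : validCl t n q = true) :
    t = 0 ∨ t = 1 ∨ t = 2 ∨ t = 3 ∨ (t = 4 ∧ n % 2 = 0) ∨ (t = 5 ∧ n % 2 = 0) := by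
  unfold validCl at h
  split_ifs at h with h0 h1 h2 h3
  · omega
  · omega
  · omega
  · omega
  · simp only [Bool.and_eq_true, decide_eq_true_eq] at h
    omega

/-- the 3-part of the order -/
theorem three_pow_dvd_ordCl {t n q : ℕ} (hq : ¬ 3 ∣ q) (hn : 4 ≤ n) :
    3 ^ (n / 2 - 1 + (n / 2 - 1) / 3) ∣ ordCl t n q := by
  have h1 := three_pow_dvd_prd hq (n / 2 - 1)
  have h2 : 2 * (n / 2 - 1) ≤ n - 1 := by omega
  unfold ordCl
  split_ifs with h0 h3 h4 h5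
  · refine dvd_div_of (b := q ^ 3 - 1) (Nat.gcd_pos_of_pos_left _ (by omega))
      ((Nat.gcd_dvd_right _ _).trans (Nat.sub_one_dvd_pow_sub_one q 3)) (Dvd.dvd.mul_left ?_ _)
    exact (Nat.mul_dvd_mul_right h1 _).trans ((prd_even_dvd (fun i => q ^ i - 1) (by omega)).trans (prd_dvd _ _ h2))
  · refine dvd_div_of (b := um q 3) (Nat.gcd_pos_of_pos_left _ (by omega))
      ((Nat.gcd_dvd_right _ _).trans ?_) (Dvd.dvd.mul_left ?_ _)
    · simpa [um] using Odd.nat_add_dvd_pow_add_pow q 1 (n := 3) (by decide)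
    · have h6 : (fun i => q ^ (2 * i) - 1) = fun i => um q (2 * i) := funext fun i => by
        rw [um, if_pos (by omega)]
      rw [h6] at h1
      exact (Nat.mul_dvd_mul_right h1 _).trans ((prd_even_dvd (um q) (by omega)).trans (prd_dvd _ _ h2))
  · refine dvd_div_of (b := q ^ (2 * (1 + (n / 2 - 1))) - 1) (Nat.gcd_pos_of_pos_left _ (by omega))
      ((Nat.gcd_dvd_right _ _).trans (Nat.sub_one_dvd_pow_sub_one q _)) (Dvd.dvd.mul_left ?_ _)
    exact (Nat.mul_dvd_mul_right h1 _).trans (prd_dvd _ 1 (k := n / 2 - 1 + 1) (by omega))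
  · refine dvd_div_of (Nat.gcd_pos_of_pos_left _ (by omega)) (Nat.gcd_dvd_right _ _) ?_
    rw [mul_comm, mul_assoc]
    exact (Nat.mul_dvd_mul_left _ h1).mul_left _
  · refine dvd_div_of (Nat.gcd_pos_of_pos_left _ (by omega)) (Nat.gcd_dvd_right _ _) ?_
    rw [mul_comm, mul_assoc]
    exact (Nat.mul_dvd_mul_left _ h1).mul_left _

theorem le_div_of {e g x : ℕ} (hg : 0 < g) (h1 : g ≤ 4) (h2 : 2 ^ (e + 4) ≤ 4 * x) : 2 ^ (e + 4) ≤ 16 * (x / g) := by
  have h3 : 2 ^ e ≤ x / g := (Nat.le_div_iff_mul_le hg).2 (by rw [pow_add] at h2; nlinarith)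
  rw [pow_add]
  omega

/-- a lower bound for the order -/
theorem two_pow_le_ordCl {t n q : ℕ} (h : validCl t n q = true) (hq : 2 ≤ q) (hn : 4 ≤ n) :
    2 ^ n.choose 2 ≤ 16 * ordCl t n q := by
  have h1 : ∀ f : ℕ → ℕ, (∀ i, 2 ≤ i → 2 ≤ f i) → ∀ z, 2 ^ n.choose 2 ≤
      16 * (q ^ (n * (n - 1) / 2) * prd f 2 (n - 1) / Nat.gcd n z) := fun f hf z => by
    have h2 : n ≤ prd f 2 (n - 1) := le_trans (by have := @Nat.lt_two_pow_self (n - 1); omega) (two_pow_le_prd hf _)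
    have h3 : 2 ^ n.choose 2 ≤ q ^ (n * (n - 1) / 2) * prd f 2 (n - 1) / Nat.gcd n z := by
      rw [Nat.le_div_iff_mul_le (Nat.gcd_pos_of_pos_left _ (by omega)), Nat.choose_two_right]
      exact Nat.mul_le_mul (Nat.pow_le_pow_left hq _) ((Nat.gcd_le_left _ (by omega)).trans h2)
    omega
  have h2 : ∀ i, 2 ≤ i → 2 ≤ q ^ i - 1 := fun i hi => by
    have : 2 ^ 2 ≤ q ^ i := (Nat.pow_le_pow_left hq 2).trans (Nat.pow_le_pow_right (by omega) hi)
    omega
  obtain ⟨j, hj⟩ : ∃ j, n / 2 = j + 1 := ⟨n / 2 - 1, by omega⟩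
  obtain ⟨e, he⟩ : ∃ e, n.choose 2 = e + 4 := ⟨n.choose 2 - 4, by
    have : Nat.choose 4 2 ≤ n.choose 2 := Nat.choose_le_choose 2 hn
    rw [show Nat.choose 4 2 = 6 from rfl] at this
    omega⟩
  have h3 : ∀ z, 2 ^ n.choose 2 ≤ 16 * (q ^ (n / 2 * (n / 2)) * prd (fun i => q ^ (2 * i) - 1) 1 (n / 2) / Nat.gcd 2 z) :=
    fun z => by
      rw [he]
      refine le_div_of (Nat.gcd_pos_of_pos_left _ (by omega)) ((Nat.gcd_le_left _ (by omega)).trans (by omega)) ?_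
      have h4 : n.choose 2 ≤ n / 2 * (n / 2) + n / 2 * (n / 2 + 1) := by
        refine (Nat.choose_le_choose 2 (show n ≤ 2 * (n / 2) + 1 by omega)).trans (le_of_eq ?_)
        rw [Nat.choose_two_right]
        exact Nat.div_eq_of_eq_mul_left (by omega) (by rw [Nat.add_sub_cancel]; ring)
      calc 2 ^ (e + 4) ≤ 2 ^ (n / 2 * (n / 2)) * 2 ^ (n / 2 * (n / 2 + 1)) := by
            rw [← pow_add, ← he]; exact Nat.pow_le_pow_right (by omega) h4
        _ ≤ q ^ (n / 2 * (n / 2)) * (2 * prd (fun i => q ^ (2 * i) - 1) 1 (n / 2)) :=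
            Nat.mul_le_mul (Nat.pow_le_pow_left hq _) (prd_lower hq _)
        _ ≤ _ := by nlinarith [Nat.zero_le (q ^ (n / 2 * (n / 2)) * prd (fun i => q ^ (2 * i) - 1) 1 (n / 2))]
  have h4 : n % 2 = 0 → ∀ z, q ^ (n / 2) - 1 ≤ z → 2 ^ n.choose 2 ≤
      16 * (q ^ (n / 2 * (n / 2 - 1)) * z * prd (fun i => q ^ (2 * i) - 1) 1 (n / 2 - 1) / Nat.gcd 4 z) :=
    fun h5 z hz => by
      rw [he]
      refine le_div_of (Nat.gcd_pos_of_pos_left _ (by omega)) (Nat.gcd_le_left _ (by omega)) ?_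
      rw [hj] at hz ⊢
      have h6 : n.choose 2 = (j + 1) * j + (j + 1) + j * (j + 1) := by
        rw [Nat.choose_two_right, show n = 2 * j + 1 + 1 by omega]
        exact Nat.div_eq_of_eq_mul_left (by omega) (by rw [Nat.add_sub_cancel]; ring)
      have h7 : 2 ^ (j + 1) ≤ 2 * z := by
        have h8 : 2 ^ (j + 1) ≤ q ^ (j + 1) := Nat.pow_le_pow_left hq _
        have h9 : 1 ≤ 2 ^ j := Nat.one_le_two_pow
        rw [pow_succ] at h8 ⊢
        omega
      rw [Nat.add_sub_cancel]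
      calc 2 ^ (e + 4) = 2 ^ ((j + 1) * j) * 2 ^ (j + 1) * 2 ^ (j * (j + 1)) := by rw [← pow_add, ← pow_add, ← h6, he]
        _ ≤ q ^ ((j + 1) * j) * (2 * z) * (2 * prd (fun i => q ^ (2 * i) - 1) 1 j) :=
            Nat.mul_le_mul (Nat.mul_le_mul (Nat.pow_le_pow_left hq _) h7) (prd_lower hq _)
        _ = _ := by ring
  rcases valid_cases h with rfl | rfl | rfl | rfl | ⟨rfl, h5⟩ | ⟨rfl, h5⟩
  · exact h1 _ h2 _
  · refine h1 _ (fun i hi => ?_) _
    have := h2 i hi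
    unfold um
    split_ifs <;> omega
  · exact h3 _
  · exact h3 _
  · exact h4 h5 _ le_rfl
  · exact h4 h5 _ (by omega)

theorem pow_four_le (k : ℕ) (hk : 34 ≤ k) : (k + 3) ^ 4 ≤ 2 ^ k := by
  induction k, hk using Nat.le_induction with
  | base => norm_num
  | succ k hk ih =>
    obtain ⟨j, rfl⟩ : ∃ j, k = j + 34 := ⟨k - 34, by omega⟩
    rw [pow_succ 2]
    refine le_trans ?_ (Nat.mul_le_mul_right 2 ih)
    ring_nf
    omega

theorem fac_lt (k : ℕ) (hk : 34 ≤ k) : 32 * (k + 2).factorial ^ 4 < 2 ^ k.choose 2 := by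
  induction k, hk using Nat.le_induction with
  | base => decide +kernel
  | succ k hk ih =>
    rw [show k + 1 + 2 = k + 2 + 1 from rfl, Nat.factorial_succ, Nat.choose_succ_succ' k 1, Nat.choose_one_right, pow_add,
      mul_pow, mul_left_comm]
    exact Nat.mul_lt_mul_of_le_of_lt (pow_four_le k hk) ih (by positivity)

/-- the final inequality -/
theorem fin_lt {c ν : ℕ} (hc : 23 ≤ c) (h : ν * ((c % 3).factorial * 6 ^ (c / 3) * (c / 3).factorial) ≤ c.factorial) :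
    16 * ((ν ^ 3 + 2) * c.factorial) < 2 ^ (c - 2).choose 2 := by
  have h0 : 0 < (c % 3).factorial * 6 ^ (c / 3) * (c / 3).factorial := by positivity
  by_cases h1 : c < 36
  · have h2 := (Nat.le_div_iff_mul_le h0).2 h
    refine lt_of_le_of_lt (Nat.mul_le_mul_left _ (Nat.mul_le_mul_right _ (Nat.add_le_add_right
      (Nat.pow_le_pow_left h2 3) 2))) ?_
    clear h h0 h2
    interval_cases c <;> decide +kernel
  · have h2 : ν ≤ c.factorial := (Nat.le_mul_of_pos_right _ h0).trans h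
    have h3 := fac_lt (c - 2) (by omega)
    rw [show c - 2 + 2 = c by omega] at h3
    have h4 : 2 ≤ c.factorial := le_trans (by omega) (Nat.self_le_factorial c)
    have h5 : ν ^ 3 ≤ c.factorial ^ 3 := Nat.pow_le_pow_left h2 3
    have h6 : 2 ≤ c.factorial ^ 3 := h4.trans (Nat.le_self_pow (by omega) _)
    refine lt_of_le_of_lt ?_ h3
    calc 16 * ((ν ^ 3 + 2) * c.factorial) ≤ 16 * ((2 * c.factorial ^ 3) * c.factorial) :=
          Nat.mul_le_mul_left _ (Nat.mul_le_mul_right _ (by omega))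
      _ = _ := by ring

end Cfsg.Agent.TH.Sim
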