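import Cfsg.Agent.TH.Sim.Rot
import Cfsg.Agent.TH.Sim.Num
import Cfsg.Agent.TH.Sim.Dat
import Cfsg.Agent.TH.Sv.Nec
import Cfsg.Agent.S2119
import Cfsg.Agent.S2653

/-!
# S3541, box AltBig: classical socle, the socle of the point stabiliser is alternating of degree at least 23 (helper64)
-/

set_option autoImplicit false

namespace Cfsg.Agent.TH.Sim

open Equiv Equiv.Perm MulAction Sv

/-- the degree of an alternating subgroup of a classical group -/
theorem le_dim {p k n c : ℕ} (hp : p.Prime) {T : Type} [Group T] (h : ProjRep p k n T) (N : Subgroup T)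
    (e : N ≃* alternatingGroup (Fin c)) (hc : 9 ≤ c) : c - 1 - (if p ∣ c then 1 else 0) ≤ n := by
  obtain ⟨F, _, _, _, S, π, -, h1, -⟩ := h
  have : Fact p.Prime := ⟨hp⟩
  let ψ : (N.comap π).map S.subtype →* alternatingGroup (Fin c) := e.toMonoidHom.comp ((π.subgroupComap N).comp
    ((N.comap π).equivMapOfInjective S.subtype S.subtype_injective).symm.toMonoidHom)
  have h2 : Function.Surjective ψ := e.surjective.comp ((π.subgroupComap_surjective_of_surjective N h1).comp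
    ((N.comap π).equivMapOfInjective S.subtype S.subtype_injective).symm.surjective)
  exact S2653.result p n c _ ψ.ker ⟨QuotientGroup.quotientKerEquivOfSurjective ψ h2⟩ hc

theorem exists_embedding {G : Type*} [Group G] {T : Subgroup G} (hT : AS T) {c : ℕ} (hc : 7 ≤ c)
    (e : T ≃* alternatingGroup (Fin c)) :
    ∃ φ : G →* Perm (Fin c), Function.Injective φ ∧ alternatingGroup (Fin c) ≤ φ.range := by
  have := hT.normal
  let E := MulEquiv.ofBijective _ (S2119.result c (by omega) (by omega))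
  let ψ : G →* MulAut (alternatingGroup (Fin c)) := (MulAut.congr e).toMonoidHom.comp MulAut.conjNormal
  refine ⟨E.symm.toMonoidHom.comp ψ, E.symm.injective.comp ((MulAut.congr e).injective.comp ?_), fun a ha => ?_⟩
  · rw [injective_iff_map_eq_one]
    intro g hg
    rw [← Subgroup.mem_bot, ← hT.cent]
    intro t ht
    have h1 : g * t * g⁻¹ = t := congrArg Subtype.val (DFunLike.congr_fun hg (⟨t, ht⟩ : T))
    exact (mul_inv_eq_iff_eq_mul.1 h1).symm
  · refine ⟨(e.symm ⟨a, ha⟩ : T), E.symm_apply_eq.2 ?_⟩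
    ext1 x
    show e (MulAut.conjNormal ((e.symm ⟨a, ha⟩ : T) : G) (e.symm x)) = MulAut.conjNormal a x
    have h1 : MulAut.conjNormal ((e.symm ⟨a, ha⟩ : T) : G) (e.symm x) =
        e.symm ⟨a, ha⟩ * e.symm x * (e.symm ⟨a, ha⟩)⁻¹ := rfl
    rw [h1, ← map_inv, ← map_mul, ← map_mul, MulEquiv.apply_symm_apply]
    rfl

variable {G : Type} [Group G] [Finite G] {T H N : Subgroup G} {m p : ℕ}

omit [Finite G] in
theorem as_of_sim (h : Sim T H N) : AS (N.subgroupOf (H ⊓ T)) where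
  normal := ⟨fun x hx g => h.nrm g g.2.1 x hx⟩
  simple := by
    have := h.simple
    exact (Subgroup.subgroupOfEquivOfLe h.le).isSimpleGroup
  nonab := fun h1 => h.nonab ⟨⟨fun a b => (Subgroup.subgroupOfEquivOfLe h.le).symm.injective (by
    rw [map_mul, map_mul, h1.is_comm.comm])⟩⟩
  cent := (Subgroup.eq_bot_iff_forall _).2 fun g hg => Subtype.ext (h.cent g g.2.2 fun x hx =>
    (congrArg Subtype.val (hg ⟨x, h.le hx⟩ hx)).symm)

theorem card_T_eq (hT : AS T) (hH : Half H m) : Nat.card T = H.index * Nat.card ↥(H ⊓ T) := by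
  have h1 := H.index_mul_card
  rw [hT.card_eq_mul hH, ← T.index_mul_card, ← mul_assoc, mul_comm] at h1
  exact (Nat.eq_of_mul_eq_mul_left (Nat.pos_of_ne_zero Subgroup.index_ne_zero_of_finite) h1).symm

/-- the bound for the degree from two conjugates of an `r`-subgroup without a second common fixed point -/
theorem index_le_cube (hH : Half H m) {r : ℕ} [Fact r.Prime] (hr : ¬ r ∣ Nat.card H / m) {Y : Subgroup G}
    (hY : IsPGroup r Y) (hle : Y ≤ H) {x : G} (hx : x ∈ H) (h : ∀ g, Y ≤ cj g H → cj x Y ≤ cj g H → g ∈ H) :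
    H.index ≤ (cjIn H Y).ncard ^ 3 + 2 := by
  have h1 := hH.index_sub_one_le hr hY hle
  have h0 : ∀ a ∈ H, cj a Y ≤ H := fun a ha => (cj_mono a hle).trans (cj_of_mem ha).le
  let S : Set (Subgroup G) := {Z | ∃ a ∈ H, Z = cj a Y}
  let W : Set (Subgroup G × Subgroup G) := {w | ∃ a ∈ H, w = (cj a Y, cj (a * x) Y)}
  have h2 := boxSq G H Y W hH.normalizer_self (by
    rintro _ ⟨a, ha, rfl⟩
    refine ⟨⟨h0 a ha, a, rfl⟩, ⟨h0 _ (mul_mem ha hx), _, rfl⟩, fun g h2 h3 => ?_⟩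
    have h4 := h (a⁻¹ * g) (by rw [cj_mul, ← cj_le_iff]; exact h2) (by rw [cj_mul, ← cj_le_iff, ← cj_mul]; exact h3)
    exact (mul_mem_cancel_left (inv_mem ha)).1 h4)
  have h3 : (Subgroup.normalizer (Y : Set G)).relIndex H ≤ S.ncard := by
    rw [← Nat.card_coe_set_eq]
    refine Nat.card_le_card_of_injective (fun a : H ⧸ (Subgroup.normalizer (Y : Set G)).subgroupOf H =>
      (⟨cj (a.out : H) Y, _, a.out.2, rfl⟩ : S)) fun a b hab => ?_
    have h4 : cj ((a.out : H) : G) Y = cj ((b.out : H) : G) Y := congrArg Subtype.val hab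
    rw [← a.out_eq, ← b.out_eq]
    refine QuotientGroup.eq.2 (mem_normalizer_of_cj_eq ?_)
    show cj (((a.out : H) : G)⁻¹ * (b.out : H)) Y = Y
    rw [cj_mul, ← h4, cj_inv_cj]
  have h4 : S.ncard ≤ W.ncard := by
    refine le_trans (Set.ncard_le_ncard (t := Prod.fst '' W) ?_) (Set.ncard_image_le (Set.toFinite _))
    rintro _ ⟨a, ha, rfl⟩
    exact ⟨_, ⟨a, ha, rfl⟩, rfl⟩
  have h5 : S.ncard ≤ (cjIn H Y).ncard := Set.ncard_le_ncard (by
    rintro _ ⟨a, ha, rfl⟩
    exact ⟨h0 a ha, a, rfl⟩)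
  generalize Nat.card (fixedPoints Y (G ⧸ H)) = f at h1 h2
  generalize (cjIn H Y).ncard = ν at *
  generalize S.ncard = s at *
  have h6 : H.index - 1 ≤ s * f := h1.trans (Nat.mul_le_mul h3 (Nat.sub_le _ _))
  have h7 : (H.index - 1) ^ 2 ≤ H.index * ν ^ 3 :=
    calc (H.index - 1) ^ 2 ≤ (s * f) ^ 2 := Nat.pow_le_pow_left h6 2
      _ = s * (f ^ 2 * s) := by ring
      _ ≤ ν * (H.index * ν ^ 2) := Nat.mul_le_mul h5 ((Nat.mul_le_mul_left _ h4).trans h2)
      _ = _ := by ring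
  by_contra h8
  obtain ⟨k, hk⟩ : ∃ k, H.index = k + 1 := ⟨H.index - 1, by omega⟩
  rw [hk, Nat.add_sub_cancel] at h7
  have h9 : ν ^ 3 + 2 ≤ k := by omega
  nlinarith

/-- a prime which divides `|T|` to a higher power than `|H ⊓ T|` does not divide the subdegree -/
theorem not_dvd_d_of_pow (hT : AS T) (hH : Half H m) {r e : ℕ} (hr : r.Prime) (h1 : r ^ e ∣ Nat.card T)
    (h2 : ¬ r ^ e ∣ Nat.card ↥(H ⊓ T)) : ¬ r ∣ Nat.card H / m := fun h => by
  rw [card_T_eq hT hH] at h1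
  exact h2 ((Nat.Coprime.pow_left e (hr.coprime_iff_not_dvd.2 (hH.not_dvd_index hr h))).dvd_of_dvd_mul_left h1)

/-- [S-AltBig] -/
theorem boxSimAltBig : BoxSimAltBig := by
  rintro _ G _ _ T H N m p c _ hS hcl ⟨k, hk, ⟨e⟩⟩
  obtain ⟨t, n, f, D⟩ := boxClDat G T H m p c hcl
  have hN := c.as.normal
  have : Fact (Nat.Prime 3) := ⟨Nat.prime_three⟩
  have hn : k - 2 ≤ n := by
    have h1 := le_dim c.prime D.rep (N.subgroupOf T)
      ((Subgroup.subgroupOfEquivOfLe (hS.le.trans inf_le_right)).trans e) (by omega)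
    split_ifs at h1 <;> omega
  obtain ⟨φ, hφ, hA⟩ := exists_embedding (as_of_sim hS) (by omega) ((Subgroup.subgroupOfEquivOfLe hS.le).trans e)
  have ha : Nat.card ↥(H ⊓ T) ∣ k.factorial := by
    have h1 := Subgroup.card_dvd_of_injective φ hφ
    rwa [Nat.card_perm, Nat.card_fin] at h1
  have h3 : ¬ 3 ∣ Nat.card H / m := by
    by_cases h1 : p = 3
    · exact h1 ▸ c.not_dvd_d
    refine not_dvd_d_of_pow c.as c.half Nat.prime_three (D.card ▸ three_pow_dvd_ordCl (fun h2 => h1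
      ((Nat.prime_dvd_prime_iff_eq Nat.prime_three c.prime).1 (Nat.prime_three.dvd_of_dvd_pow h2)).symm) (by omega))
      fun h2 => ?_
    have h4 := (Nat.prime_three.pow_dvd_iff_le_factorization k.factorial_ne_zero).1 (h2.trans ha)
    have h5 := Nat.factorization_factorial_le_div_pred Nat.prime_three k
    omega
  have hc : ∀ X : Subgroup G, X ≤ H ⊓ T → Nat.card ((X.subgroupOf (H ⊓ T)).map φ) = Nat.card X := fun X hX => by
    rw [Subgroup.card_map_of_injective hφ, Nat.card_congr (Subgroup.subgroupOfEquivOfLe hX).toEquiv]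
  have hle : ∀ X Z : Subgroup G, X ≤ H ⊓ T → (X.subgroupOf (H ⊓ T)).map φ ≤ (Z.subgroupOf (H ⊓ T)).map φ → X ≤ Z :=
    fun X Z hX h x hx => (Subgroup.map_le_map_iff_of_injective hφ).1 h (show (⟨x, hX hx⟩ : ↥(H ⊓ T)) ∈ _ from hx)
  have hal : ∀ X : Subgroup G, X ≤ H ⊓ T → Nat.card X = Nat.card N →
      (X.subgroupOf (H ⊓ T)).map φ = alternatingGroup (Fin k) := fun X hX h => by
    have : Nontrivial (Fin k) := Fin.nontrivial_iff_two_le.2 (by omega)
    have h1 := ((X.subgroupOf (H ⊓ T)).map φ).index_mul_card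
    rw [hc X hX, h, Nat.card_congr e.toEquiv, ← (alternatingGroup (Fin k)).index_mul_card,
      alternatingGroup.index_eq_two] at h1
    exact eq_alternatingGroup_of_index_eq_two (Nat.eq_of_mul_eq_mul_right Nat.card_pos h1)
  have hT : ∀ (g : G) (X : Subgroup G), X ≤ T → cj g X ≤ T := fun g X hX x hx => by
    simpa [mul_assoc] using hN.conj_mem _ (hX (mem_cj.1 hx)) g
  have hfix : ∀ g, N ≤ cj g H → g ∈ H := fun g hg => by
    have h1 : cj g⁻¹ N ≤ H ⊓ T := le_inf ((cj_le_iff _).2 (by rwa [inv_inv])) (hT _ _ (hS.le.trans inf_le_right))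
    have h2 := (hal _ h1 (card_cj _ _)).trans (hal N hS.le rfl).symm
    have h4 := mem_normalizer_of_cj_eq (le_antisymm (hle _ _ h1 h2.le) (hle _ _ hS.le h2.ge))
    have h5 : N ≠ ⊥ := fun h => hS.nonab (h ▸ inferInstance)
    rw [c.half.normalizer_eq h5 (hS.le.trans inf_le_left) (le_normalizer_of_conj hS.nrm)] at h4
    exact inv_mem_iff.1 h4
  obtain ⟨Y, hY, σ, hσ, hgen⟩ := exists_pair (c := k) (by omega)
  obtain ⟨x, rfl⟩ := hA hσ
  obtain ⟨Z, hZ, rfl⟩ : ∃ Z : Subgroup G, Z ≤ H ⊓ T ∧ (Z.subgroupOf (H ⊓ T)).map φ = Y :=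
    ⟨(Y.comap φ).map (H ⊓ T).subtype, Subgroup.map_subtype_le _, by
      rw [Subgroup.subgroupOf, Subgroup.comap_map_eq_self_of_injective (H ⊓ T).subtype_injective,
        Subgroup.map_comap_eq_self (hY.1.le_alt.trans hA)]⟩
  have hm : ∀ a (ha : a ∈ Z), φ ⟨a, hZ ha⟩ ∈ (Z.subgroupOf (H ⊓ T)).map φ := fun a ha => ⟨_, ha, rfl⟩
  have hZ1 : ∀ a ∈ Z, ∀ b ∈ Z, a * b = b * a := fun a ha b hb => by
    have h1 := hY.1.comm _ (hm a ha) _ (hm b hb)
    rw [← map_mul, ← map_mul] at h1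
    exact congrArg Subtype.val (hφ h1)
  have hZ2 : ∀ a ∈ Z, a ^ 3 = 1 := fun a ha => by
    have h1 := hY.1.cube _ (hm a ha)
    rw [← map_pow, ← map_one φ] at h1
    exact congrArg Subtype.val (hφ h1)
  have h4 := index_le_cube c.half h3 (Y := Z) (fun a => ⟨1, Subtype.ext (by simpa using hZ2 a a.2)⟩)
    (hZ.trans inf_le_left) x.2.1 fun g h1 h2 => by
      refine hfix g (hle _ _ hS.le ((hal N hS.le rfl).le.trans (hgen _ (Subgroup.map_mono fun a ha => h1 ha) ?_)))
      rw [← map_cj, Alt.cj_subgroupOf]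
      exact Subgroup.map_mono fun a ha => h2 ha
  have h5 : (cjIn H Z).ncard ≤ (Ext (Fin k)).ncard := by
    have h1 : ∀ X ∈ cjIn H Z, X ≤ H ⊓ T := by
      rintro _ ⟨h1, g, rfl⟩
      exact le_inf h1 (hT _ _ (hZ.trans inf_le_right))
    refine Set.ncard_le_ncard_of_injOn (fun X => (X.subgroupOf (H ⊓ T)).map φ) (fun X hX => ?_) fun X hX X' hX' h => ?_
    · have h2 := h1 X hX
      obtain ⟨-, g, rfl⟩ := hX
      refine ⟨⟨?_, ?_⟩, ?_⟩
      · rintro _ ⟨a, ha, rfl⟩ _ ⟨b, hb, rfl⟩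
        rw [← map_mul, ← map_mul]
        refine congrArg φ (Subtype.ext ?_)
        have h6 := hZ1 _ (mem_cj.1 ha) _ (mem_cj.1 hb)
        simp only [← mul_assoc, mul_inv_cancel_right, mul_left_inj] at h6
        rw [mul_assoc, mul_assoc, mul_right_inj] at h6
        exact h6
      · rintro _ ⟨a, ha, rfl⟩
        rw [← map_pow, ← map_one φ]
        refine congrArg φ (Subtype.ext ?_)
        have h6 := hZ2 _ (mem_cj.1 ha)
        rw [show g⁻¹ * (H ⊓ T).subtype a * g = g⁻¹ * a * g⁻¹⁻¹ by rw [inv_inv]; rfl, conj_pow, conj_eq_one_iff] at h6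
        exact h6
      · rw [hc _ h2, card_cj, ← hc _ hZ]
        exact hY.2
    · exact le_antisymm (hle _ _ (h1 X hX) h.le) (hle _ _ (h1 X' hX') h.ge)
  have h6 := ncard_Ext (Fin k)
  rw [Fintype.card_fin] at h6
  have h7 := fin_lt hk h6
  have h8 := two_pow_le_ordCl D.valid (c.prime.two_le.trans (Nat.le_self_pow D.pos.ne' p)) (by omega)
  rw [← D.card, card_T_eq c.as c.half] at h8
  have h9 : 2 ^ (k - 2).choose 2 ≤ 2 ^ n.choose 2 := Nat.pow_le_pow_right (by omega) (Nat.choose_le_choose 2 hn)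
  have h10 : H.index * Nat.card ↥(H ⊓ T) ≤ ((Ext (Fin k)).ncard ^ 3 + 2) * k.factorial :=
    Nat.mul_le_mul (h4.trans (Nat.add_le_add_right (Nat.pow_le_pow_left h5 3) 2)) (Nat.le_of_dvd k.factorial_pos ha)
  omega

end Cfsg.Agent.TH.Sim
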