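import Cfsg.Agent.TH.Sim.AltRun
import Cfsg.Agent.TH.Sim.AltBig
import Cfsg.Agent.H912.BdAlt
import Cfsg.Agent.H824.ProdLem
import Cfsg.Agent.S0252
import Cfsg.Agent.S0253
import Cfsg.Agent.S0254
import Cfsg.Agent.S0256

/-!
# S3541, box Alt: classical socle, the socle of the point stabiliser is alternating of degree at most 22 (helper74)
-/

set_option autoImplicit false

namespace Cfsg.Agent.TH.Sim

open Equiv Sv H912.Bd Al

theorem Al.lie_of_alt {S : Type} [Group S] {c p : ℕ} (e : S ≃* alternatingGroup (Fin c))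
    (h : c = 5 ∧ (p = 2 ∨ p = 5) ∨ c = 6 ∧ p = 3 ∨ c = 8 ∧ p = 2) : IsLieTypeChar p S := by
  have := Fact.mk Nat.prime_three
  have := Fact.mk Nat.prime_five
  have := Fintype.ofFinite (GaloisField 2 2)
  have := Fintype.ofFinite (GaloisField 3 2)
  have h4 : Fintype.card (GaloisField 2 2) = 4 := Nat.card_eq_fintype_card.symm.trans (GaloisField.card 2 2 two_ne_zero)
  have h9 : Fintype.card (GaloisField 3 2) = 9 := Nat.card_eq_fintype_card.symm.trans (GaloisField.card 3 2 two_ne_zero)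
  rcases h with ⟨rfl, rfl | rfl⟩ | ⟨rfl, rfl⟩ | ⟨rfl, rfl⟩
  · obtain ⟨f⟩ := S0252.result h4
    exact Or.inl ⟨_, inferInstance, inferInstance, inferInstance, 2, le_rfl, fun _ => h4.ge, ⟨e.trans f.symm⟩⟩
  · obtain ⟨f⟩ := S0253.result (ZMod.card 5)
    exact Or.inl ⟨_, inferInstance, inferInstance, inferInstance, 2, le_rfl, fun _ => by rw [ZMod.card]; omega, ⟨e.trans f.symm⟩⟩
  · obtain ⟨f⟩ := S0254.result h9
    exact Or.inl ⟨_, inferInstance, inferInstance, inferInstance, 2, le_rfl, fun _ => by omega, ⟨e.trans f.symm⟩⟩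
  · obtain ⟨f⟩ := S0256.result (ZMod.card 2)
    exact Or.inl ⟨_, inferInstance, inferInstance, inferInstance, 4, by omega, fun h => by omega, ⟨e.trans f.symm⟩⟩

theorem Al.card_aut_alt {c : ℕ} (hc : 5 ≤ c) : Nat.card (MulAut (alternatingGroup (Fin c))) = nb c := by
  by_cases h : c = 6
  · subst h
    exact H824.ProdLem.card_aut_a6
  rw [← Nat.card_congr (Equiv.ofBijective _ (S2119.result c (by omega) h)), Nat.card_perm, Nat.card_fin, nb,
    Bool.cond_eq_ite, if_neg (mt Nat.eq_of_beq_eq_true h), fac_eq]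

/-- [S-Alt] -/
theorem boxSimAlt : BoxSimAlt := by
  rintro hK G _ _ T H N m p C - hS hcl ⟨hown, c, h5, h22, ⟨e⟩⟩
  obtain ⟨t, n, f, D⟩ := boxClDat G T H m p C hcl
  have hT := C.as
  have hH := C.half
  have hp := C.prime
  have hn := valid_three D.valid
  have ha : Nat.card ↥(H ⊓ T) ∣ nb c :=
    hS.card_dvd_aut.trans ((Nat.card_congr (MulAut.congr e).toEquiv).trans (card_aut_alt h5)).dvd
  have hN : Nat.card N = fac c / 2 := (Nat.card_congr e.toEquiv).trans (card_alt h5)
  have hNT : N ≤ T := hS.le.trans inf_le_right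
  obtain ⟨F, _, _, _, -, hPR⟩ := D.rep.pr (by
    have := hT.simple
    exact (IsSimpleGroup.eq_bot_or_eq_top_of_normal _ inferInstance).resolve_left fun h =>
      hT.nonab ((commutator_eq_bot_iff _).1 h))
  have hF : ∀ r : ℕ, r.Prime → p ≠ r → (r : F) ≠ 0 := fun r hr h1 h2 =>
    h1 ((Nat.prime_dvd_prime_iff_eq hp hr).1 ((CharP.cast_eq_zero_iff F p r).1 h2))
  have hι := (Subgroup.inclusion_injective hNT).comp e.symm.injective
  have h7 : 7 ≤ c → p ≠ 5 → n ≠ 3 := fun h1 h2 h3 => by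
    have := (bd_alt_prime Nat.prime_five (hF 5 Nat.prime_five h2) h1).of_sub
      ((Subgroup.inclusion hNT).comp e.symm.toMonoidHom) hι n (hPR 5 Nat.prime_five (by omega))
    omega
  have h8 : 8 ≤ c → p ≠ 2 → n ≠ 3 := fun h1 h2 h3 => by
    have := (bd_alt_two (by simpa using hF 2 Nat.prime_two h2) h1).of_sub
      ((Subgroup.inclusion hNT).comp e.symm.toMonoidHom) hι n (hPR 2 Nat.prime_two (by omega))
    omega
  have h9 := le_dim hp D.rep (N.subgroupOf T) ((Subgroup.subgroupOfEquivOfLe hNT).trans e)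
  have h10 := mt (lie_of_alt e) hown
  have hn0 : n0 c ≤ n := by
    simp only [n0, Bool.cond_eq_ite, Nat.ble_eq, Nat.beq_eq]
    split_ifs at h9 ⊢ <;> omega
  have hsk : skip c n p = false := by
    rw [← Bool.not_eq_true]
    simp only [skip, Bool.cond_eq_ite, Nat.beq_eq]
    split_ifs <;> simp only [Bool.or_eq_true, Bool.and_eq_true, Nat.beq_eq, Nat.ble_eq, Bool.not_eq_true',
      ← Bool.not_eq_true, dv_iff]
    any_goals omega
    rintro ⟨h1, h2⟩
    rw [if_neg h2] at h9
    omega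
  obtain ⟨X, hX⟩ := run_all h5 h22 (t := t) (by rcases valid_cases D.valid with h | h | h | h <;> omega)
  have h1 := allCl_sound hX hp D.pos D.valid hn0 (D.lmin_le hT hH (Nat.le_of_dvd (card_aut_alt h5 ▸ Nat.card_pos) ha))
  simp only [chk, hsk, Bool.false_or, frc_eq] at h1
  have h2 := flt_of_sieveE boxNec hT hH h1 D.card C.dvd_index D.out D.lmin ha (hN ▸ hS.card_dvd)
    (hN ▸ hS.le_gcd hK hT hH fun M hM => by simpa using le_index_alt e (by simpa using h5) hM)
  rw [flt, frc_eq, Bool.and_eq_false_iff, Bool.not_eq_false', Bool.not_eq_false'] at h2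
  rcases h2 with h2 | h2
  · simp only [Bool.or_eq_true, Bool.and_eq_true, Nat.beq_eq, Nat.ble_eq, Bool.not_eq_true', ← Bool.not_eq_true] at h2
    obtain ⟨h3, h4, h6, h11⟩ := h2
    have := Fact.mk Nat.prime_seven
    obtain ⟨φ, hφ, -⟩ := exists_embedding (as_of_sim hS) (by omega) ((Subgroup.subgroupOfEquivOfLe hS.le).trans e)
    let E := MulEquiv.ofBijective φ ((Nat.bijective_iff_injective_and_card φ).2
      ⟨hφ, by rw [h4, fac_eq, Nat.card_perm, Nat.card_fin]⟩)
    obtain ⟨j⟩ : Nonempty (ZMod 7 ↪ Fin c) :=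
      Function.Embedding.nonempty_of_card_le (by rw [ZMod.card, Fintype.card_fin]; omega)
    have := (bd_perm_prime Nat.prime_seven (hF 7 Nat.prime_seven h6)).of_sub
      ((Subgroup.inclusion inf_le_right).comp (E.symm.toMonoidHom.comp (Perm.viaEmbeddingHom j)))
      ((Subgroup.inclusion_injective inf_le_right).comp (E.symm.injective.comp (Perm.viaEmbeddingHom_injective j))) n
      (hPR 7 Nat.prime_seven (by omega))
    omega
  have h3 : ∀ g, g ∉ H → (cj g H).relIndex N = Nat.card H / m ∧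
      kill c (nb c) (Nat.card H / m) (ordCl t n (p ^ f) / Nat.card ↥(H ⊓ T)) = true := fun g hg => by
    obtain ⟨h3, h4, h6⟩ := boxE hK G T H N m hT hH hS g hg
    have h11 : (((cj g H).subgroupOf N).map e.toMonoidHom).index = (cj g H).relIndex N :=
      Subgroup.index_map_of_bijective e.bijective _
    have h12 := adm_zero h5 fun h : ((cj g H).subgroupOf N).map e.toMonoidHom = ⊤ =>
      h3.ne' (h11.symm.trans (Subgroup.index_eq_one.2 h))
    have h13 : (cj g H).relIndex N ∣ fac c / 2 := hN ▸ Subgroup.relIndex_dvd_card _ _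
    have h14 := allDiv_ps h22 h2 (Nat.dvd_gcd h4 h13) (card_alt h5 ▸ h13)
    rw [hS.relIndex_eq hT hH, hN] at h6
    rw [h11] at h12
    simpa only [dv_iff.2 h6, h12, Bool.and_self, Bool.not_true, Bool.false_or, Bool.and_eq_true, Nat.beq_eq] using h14
  obtain ⟨g, hg⟩ := hH.exists_not_mem
  obtain ⟨h4, h6, h11⟩ := kill_sound h5 h22 (card_aut_alt h5) (h3 g hg).2
  rw [← D.card, card_div_eq hT hH] at h11
  exact h11.not_ge (hS.index_le_sq hH e (fun g hg => (h3 g hg).1) h6 h4
    ((h3 g hg).1 ▸ (boxE hK G T H N m hT hH hS g hg).1.ne'))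

end Cfsg.Agent.TH.Sim
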