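import Cfsg.Agent.TH.Sim.SporTool
import Cfsg.Agent.TH.Sim.SporDatB
import Cfsg.Agent.Sigma.CoOneFive
import Cfsg.Agent.H49.CoStab
import Cfsg.Agent.H921.SporMcL
import Cfsg.Agent.H921.SporSuz
import Cfsg.Agent.H921.SporRu
import Cfsg.Agent.H921.SporON11
import Cfsg.Agent.H517.EP.McLDat
import Cfsg.Agent.H715.Fpr.McL
import Cfsg.Agent.H715.Fpr.HS
import Cfsg.Agent.H257.OZ.SuzFacts
import Cfsg.Agent.H147.Fpr.He
import Cfsg.Agent.S1627
import Cfsg.Agent.S1694
import Cfsg.Agent.S1699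
import Cfsg.Agent.S2043
import Cfsg.Agent.S2069
import Cfsg.Agent.S2070
import Cfsg.Agent.S2071
import Cfsg.Agent.S2072
import Cfsg.Agent.S2073
import Cfsg.Agent.S2074
import Cfsg.Agent.S2075
import Cfsg.Agent.S2077
import Cfsg.Agent.S2078

/-!
# S3541, box `BoxSimSpor` (helper67): the rows `Co₁`, `Co₂`, `Co₃`, `McL`, `HS`, `Suz`, `He`, `Ru`, `O'N`
-/

set_option autoImplicit false

namespace Cfsg.Agent.TH.Sim.SpR

open Cfsg.Agent.TH.Sv Cfsg.Agent.H940.Eng Cfsg.Agent.H940.Eng.D Cfsg.Agent.H921.Spor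

variable (hC : BoxClDat) (hN : BoxNec) (B : Base)
include hC hN B

theorem row_co1 : Row Spor.Co1 := Row.of_simple fun hs _ =>
  row_full hC hN (ctx_nil hs Sigma.CoOneFive.card_co1 v_co1 nd_co1 (ords_co1 B)) nil_allow S2069.result.dvd
    (one_deg fun _ => (Deg.of_orb (by decide) McL.Co1_three).schur S2043.result) chk_co1

theorem row_co2 : Row Spor.Co2 := Row.of_simple fun hs _ =>
  row_full hC hN (ctx_nil hs H49.CoStab.card_co2 v_co2 nd_co2 (ords_co2 B)) nil_allow S2070.result.dvd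
    (one_deg fun hna => Deg.of_ls hna (by decide) (H517.EP.McLDat.ls_co2 hs)) chk_co2

theorem row_co3 : Row Spor.Co3 := Row.of_simple fun hs _ =>
  row_full hC hN (ctx_nil hs H49.CoStab.card_co3 v_co3 nd_co3 (ords_co3 B)) nil_allow S2071.result.dvd
    (one_deg fun hna => Deg.of_ls hna (by decide) (H517.EP.McLDat.ls_co3 hs)) chk_co3

theorem row_mcl : Row Spor.McL := Row.of_simple fun hs _ =>
  row_full hC hN (H715.Fpr.McL.ctx B ⟨MulEquiv.refl _⟩) nil_allow S2073.result.dvd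
    (one_deg fun hna => Deg.of_ls hna (by decide) (H517.EP.McLDat.ls_mcl hs)) chk_mcl

theorem row_hs : Row Spor.HS := row_full hC hN (H715.Fpr.HS.ctx B ⟨MulEquiv.refl _⟩) nil_allow S2072.result.dvd nil_deg chk_hs

theorem row_suz : Row Spor.Suz := Row.of_simple fun hs hna =>
  row_full hC hN (ctx_one (ctx_nil hs S1694.result.2 v_suz nd_suz (ords_suz B)) hna [(11, 1)] H257.OZ.SuzF.eleven
    (by decide +kernel)) nil_allow S2074.result.dvd (one_deg fun _ => Deg.of_orb (by decide) Suz.Suz_three) chk_suz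

theorem row_he : Row Spor.He := row_full hC hN (H147.Fpr.He.ctx B) nil_allow S2075.result.dvd nil_deg chk_he

theorem row_ru : Row Spor.Ru := Row.of_simple fun hs _ =>
  row_full hC hN (ctx_nil hs S1627.result.2.1 v_ru nd_ru (ords_ru B)) nil_allow S2077.result.dvd
    (two_deg (fun _ => Deg.of_conf (by decide) Ru.Ru_twentynine) fun _ => Deg.of_conf (by decide) Ru.Ru_thirteen) chk_ru

theorem row_on : Row Spor.ON := Row.of_simple fun hs _ =>
  row_full hC hN (ctx_nil hs S1699.result.2 v_opn nd_opn (ords_opn B)) nil_allow S2078.result.dvd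
    (two_deg (fun _ => Deg.of_orb (by decide) (ON.ON_thirtyone hs)) fun _ => Deg.of_orb (by decide) (ON.ON_eleven hs))
    chk_opn

end Cfsg.Agent.TH.Sim.SpR
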