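import Cfsg.Agent.TH.Sim.SporTool
import Cfsg.Agent.TH.Sim.SporDatC
import Cfsg.Agent.H4.Gen.LyLoc
import Cfsg.Agent.H433.Fpr.Fi22
import Cfsg.Agent.H433.Fpr.Fi23
import Cfsg.Agent.H256.Sep.RowFi24
import Cfsg.Agent.H806.LsFiTwo
import Cfsg.Agent.H175.Ore.HNFus
import Cfsg.Agent.H502.EP.HN
import Cfsg.Agent.H303.MaxTh
import Cfsg.Agent.H444.EP.Mon
import Cfsg.Agent.H438.Fpr.TitsB
import Cfsg.Agent.H921.SporTits
import Cfsg.Agent.H867.TitsOut
import Cfsg.Agent.S1701
import Cfsg.Agent.S1704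
import Cfsg.Agent.S2076
import Cfsg.Agent.S2079
import Cfsg.Agent.S2080
import Cfsg.Agent.S2081
import Cfsg.Agent.S2082
import Cfsg.Agent.S2083
import Cfsg.Agent.S2084
import Cfsg.Agent.S2085

/-!
# S3541, box `BoxSimSpor` (helper67): the rows `Ly`, `Fi₂₂`, `Fi₂₃`, `Fi₂₄'`, `HN`, `Th`, `B`, `M` and the Tits group
-/

set_option autoImplicit false

namespace Cfsg.Agent.TH.Sim.SpR

open Cfsg.Agent.TH.Sv Cfsg.Agent.H940.Eng Cfsg.Agent.H940.Eng.D Cfsg.Agent.H921.Spor

variable (hC : BoxClDat) (hN : BoxNec) (B : Base)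
include hC hN B

theorem row_ly : Row Spor.Ly := row_full hC hN (H4.Gen.LyLoc.ctx B) nil_allow S2076.result.dvd nil_deg chk_ly

theorem row_fi22 : Row Spor.Fi22 := Row.of_simple fun _ _ =>
  row_full hC hN (H433.Fpr.Fi22.ctx B) nil_allow S2079.result.dvd
    (one_deg fun hna => Deg.of_ls hna (by decide) (H806.Ls.fi22_ls_two (ex_of hna))) chk_fi22

theorem row_fi23 : Row Spor.Fi23 := row_full hC hN (H433.Fpr.Fi23.ctx B) nil_allow S2080.result.dvd nil_deg chk_fi23

theorem row_fi24 : Row Spor.Fi24' := Row.of_simple fun _ _ =>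
  row_full hC hN (H256.Sep.RowFi24.ctx B) nil_allow S2081.result.dvd
    (one_deg fun hna => Deg.of_ls hna (by decide) (H806.Ls.fi24_ls_two (ex_of hna))) chk_fi24p

theorem row_hn : Row Spor.HN := Row.of_simple fun hs hna => by
  have c := ctx_nil hs S1701.result.2 v_hn nd_hn (ords_hn B)
  have := c.fin
  have : Fact (Nat.Prime 11) := ⟨by norm_num⟩
  obtain ⟨x, hx⟩ := exists_prime_orderOf_dvd_card' (G := Spor.HN) 11 (by rw [S1701.result.2]; norm_num)
  exact row_full hC hN (ctx_one c hna [(2, 1), (11, 1)] ⟨x, hx, H175.Ore.HNFus.card_cent hx⟩ (by decide +kernel)) nil_allow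
    S2082.result.dvd (one_deg fun hna => Deg.of_ls hna (by decide) H502.EP.HN.ls_five) chk_hn

theorem row_th : Row Spor.Th := row_full hC hN (H303.MaxTh.ctx B) nil_allow S2083.result.dvd nil_deg chk_th

theorem row_b : Row Spor.BabyMonster := Row.of_simple fun hs _ =>
  row_full hC hN (ctx_nil hs S1704.result.2 v_b nd_b (ords_b B)) nil_allow S2084.result.dvd
    (one_deg fun hna => Deg.of_ls hna (by decide) (H806.Ls.b_ls_two (ex_of hna))) chk_b

theorem row_m : Row Spor.Monster := Row.of_simple fun hs hna => by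
  have c := ctx_nil hs S1705.result.2 v_m nd_m (ords_m B)
  have := c.fin
  refine row_full hC hN c (fun U hU => ?_) S2085.result.dvd
    (one_deg fun hna => Deg.of_ls hna (by decide) H444.EP.Mon.ls_two) chk_m
  have h1 := List.mem_singleton.1 hU
  have h2 := le_index hna two_ne_zero H444.EP.Mon.ls_two (U := U) fun h => by
    rw [h, Subgroup.index_top] at h1
    exact absurd h1 (by norm_num)
  omega

theorem row_tits : Row Lie.TitsGroup := by
  have c := H438.Fpr.Tits.ctx B (S := Lie.TitsGroup) ⟨MulEquiv.refl _⟩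
  have := c.fin
  refine row_full hC hN c nil_allow (o := 2) ?_ (one_deg fun _ => Deg.of_orb (by decide) Tits.Tits_five) chk_tits
  have h1 := H867.TitsOut.card_out_le (T := Lie.TitsGroup) ⟨MulEquiv.refl _⟩
  have h2 : 0 < Nat.card (Out Lie.TitsGroup) := Nat.card_pos
  generalize Nat.card (Out Lie.TitsGroup) = k at h1 h2
  interval_cases k <;> norm_num

end Cfsg.Agent.TH.Sim.SpR
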