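import Cfsg.Agent.TH.Sim.SporRowA
import Cfsg.Agent.TH.Sim.SporRowB
import Cfsg.Agent.TH.Sim.SporRowC
import Cfsg.Agent.TH.Cl.Defs
import Cfsg.Agent.OrdDiv.Table

/-!
# S3541, box `BoxSimSpor` (helper67)
-/

set_option autoImplicit false

namespace Cfsg.Agent.TH.Sim

open Cfsg.Agent.TH.Sv Cfsg.Agent.H940.Eng Cfsg.Agent.TH.Sim.SpR

/-- **[S-Spor]** classical `T`, `N` sporadic or the Tits group -/
theorem boxSimSpor (hC : BoxClDat) (hN : BoxNec) : BoxSimSpor := by
  intro hK G _ _ T H N m p hL _ hS hP hQ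
  have B : Base := ⟨OrdDiv.table, fun S _ _ _ => hK S⟩
  have h : ∀ {X : Type} [Group X], SpR.Row X → Nonempty (N ≃* X) → False := fun h ⟨e⟩ => h G T H N m p hL hS hP e
  rcases hQ with (q | q | q | q | q | q | q | ⟨F, _, _, ω, hF, hω, q⟩ | q | q | q | q | q | q | q | q | q | q | q | q | q |
    q | q | q | q | q) | q
  exacts [h (row_m11 hC hN B) q, h (row_m12 hC hN B) q, h (row_m22 hC hN B) q, h (row_m23 hC hN B) q,
    h (row_m24 hC hN B) q, h (row_j1 hC hN B) q, h (row_j2 hC hN B) q, h (row_j3 hC hN B hF hω) q, h (row_j4 hC hN B) q,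
    h (row_co1 hC hN B) q, h (row_co2 hC hN B) q, h (row_co3 hC hN B) q, h (row_mcl hC hN B) q, h (row_hs hC hN B) q,
    h (row_suz hC hN B) q, h (row_he hC hN B) q, h (row_ru hC hN B) q, h (row_on hC hN B) q, h (row_ly hC hN B) q,
    h (row_fi22 hC hN B) q, h (row_fi23 hC hN B) q, h (row_fi24 hC hN B) q, h (row_hn hC hN B) q, h (row_th hC hN B) q,
    h (row_b hC hN B) q, h (row_m hC hN B) q, h (row_tits hC hN B) q]

end Cfsg.Agent.TH.Sim
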