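import Cfsg.Agent.TH.Sim.AltChk

/-!
# S3541, box Alt: the computations (helper74)
-/

set_option autoImplicit false

namespace Cfsg.Agent.TH.Sim.Al

open Sv

theorem run_5 : allL [0, 1, 2, 3, 4, 5] (run 5 34) = true := by decide +kernel

theorem run_6 : allL [0, 1, 2, 3, 4, 5] (run 6 41) = true := by decide +kernel

theorem run_7 : allL [0, 1, 2, 3, 4, 5] (run 7 45) = true := by decide +kernel

theorem run_8 : allL [0, 1, 2, 3, 4, 5] (run 8 52) = true := by decide +kernel

theorem run_9 : allL [0, 1, 2, 3, 4, 5] (run 9 58) = true := by decide +kernel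

theorem run_10 : allL [0, 1, 2, 3, 4, 5] (run 10 65) = true := by decide +kernel

theorem run_11 : allL [0, 1, 2, 3, 4, 5] (run 11 73) = true := by decide +kernel

theorem run_12 : allL [0, 1, 2, 3, 4, 5] (run 12 80) = true := by decide +kernel

theorem run_13 : allL [0, 1, 2, 3, 4, 5] (run 13 88) = true := by decide +kernel

theorem run_14 : allL [0, 1, 2, 3, 4, 5] (run 14 95) = true := by decide +kernel

theorem run_15 : allL [0, 1, 2, 3, 4, 5] (run 15 104) = true := by decide +kernel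

theorem run_16 : allL [0, 1, 2, 3, 4, 5] (run 16 112) = true := by decide +kernel

theorem run_17 : allL [0, 1, 2, 3, 4, 5] (run 17 120) = true := by decide +kernel

theorem run_18 : allL [0, 1, 2, 3, 4, 5] (run 18 129) = true := by decide +kernel

theorem run_19 : allL [0, 1, 2, 3, 4, 5] (run 19 137) = true := by decide +kernel

theorem run_20 : allL [0, 1, 2, 3, 4, 5] (run 20 146) = true := by decide +kernel

theorem run_21 : allL [0, 1, 2, 3, 4, 5] (run 21 155) = true := by decide +kernel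

theorem run_22 : allL [0, 1, 2, 3, 4, 5] (run 22 164) = true := by decide +kernel

theorem run_all {c t : ℕ} (h5 : 5 ≤ c) (h22 : c ≤ 22) (ht : t ≤ 5) : ∃ X, run c X t = true := by
  have h : t ∈ [0, 1, 2, 3, 4, 5] := by interval_cases t <;> simp
  interval_cases c
  · exact ⟨_, (allL_iff _ _).1 run_5 t h⟩
  · exact ⟨_, (allL_iff _ _).1 run_6 t h⟩
  · exact ⟨_, (allL_iff _ _).1 run_7 t h⟩
  · exact ⟨_, (allL_iff _ _).1 run_8 t h⟩
  · exact ⟨_, (allL_iff _ _).1 run_9 t h⟩
  · exact ⟨_, (allL_iff _ _).1 run_10 t h⟩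
  · exact ⟨_, (allL_iff _ _).1 run_11 t h⟩
  · exact ⟨_, (allL_iff _ _).1 run_12 t h⟩
  · exact ⟨_, (allL_iff _ _).1 run_13 t h⟩
  · exact ⟨_, (allL_iff _ _).1 run_14 t h⟩
  · exact ⟨_, (allL_iff _ _).1 run_15 t h⟩
  · exact ⟨_, (allL_iff _ _).1 run_16 t h⟩
  · exact ⟨_, (allL_iff _ _).1 run_17 t h⟩
  · exact ⟨_, (allL_iff _ _).1 run_18 t h⟩
  · exact ⟨_, (allL_iff _ _).1 run_19 t h⟩
  · exact ⟨_, (allL_iff _ _).1 run_20 t h⟩
  · exact ⟨_, (allL_iff _ _).1 run_21 t h⟩
  · exact ⟨_, (allL_iff _ _).1 run_22 t h⟩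

end Cfsg.Agent.TH.Sim.Al
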