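import Cfsg.Agent.TH.Sim.LieChk
import Cfsg.Agent.H912.Bd4

/-!
# S3541, box SimLie: the sieve applied to an example, tools for the remaining cases (helper6)
-/

set_option autoImplicit false

namespace Cfsg.Agent.TH.Sim.LieN

open Cfsg.Agent.TH.Sv Cfsg.Agent.TH.Own

section

variable {G : Type} [Group G] [Finite G] {T H N : Subgroup G} {m p t n f : ℕ}

theorem syl_le {B : Subgroup G} (h : N ≤ B) (hn : ∀ b ∈ B, ∀ x ∈ N, b * x * b⁻¹ ∈ N) {s : ℕ} (hs : s.Prime)
    (hi : ¬ s ∣ Nat.card B / Nat.card N) : Nat.card (Sylow s B) ≤ nu 400 (Nat.card N) s := by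
  have := Fact.mk hs
  have h1 := card_mul_relIndex h
  rw [← h1, Nat.mul_div_cancel_left _ Nat.card_pos] at hi
  have h2 : (N.subgroupOf B).Normal := ⟨fun x hx b => hn b b.2 x hx⟩
  refine le_trans ?_ ((ncard_syl_le N hs).trans ((sylNum N).le_nu Nat.card_pos.ne' 400 hs))
  rw [← Set.ncard_univ]
  refine Set.ncard_le_ncard_of_injOn (fun P : Sylow s B => (P : Subgroup B).map B.subtype) (fun P _ => ⟨?_, ?_⟩)
    fun P _ Q _ e => Sylow.ext (Subgroup.map_injective B.subtype_injective e)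
  · rintro _ ⟨x, hx, rfl⟩
    obtain ⟨k, hk⟩ := P.2 ⟨x, hx⟩
    have h3 : orderOf x ∣ s ^ k := orderOf_dvd_of_pow_eq_one (congrArg Subtype.val hk)
    obtain ⟨j, hj⟩ := exists_pow_eq_self_of_coprime (x := x)
      (((Nat.Coprime.pow_left k (hs.coprime_iff_not_dvd.2 hi)).coprime_dvd_left h3).symm)
    have h4 : x ∈ N.subgroupOf B := hj ▸ pow_mem ((N.subgroupOf B).pow_index_mem x) j
    exact h4
  · rw [Subgroup.card_map_of_injective B.subtype_injective, P.card_eq_multiplicity, ← h1,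
      Nat.factorization_mul (b := N.relIndex B) Nat.card_pos.ne' Subgroup.index_ne_zero_of_finite, Finsupp.add_apply,
      Nat.factorization_eq_zero_of_not_dvd hi, add_zero]

theorem flt_of_sv (hK : AllK) (c : LieCtx T H m p) (hS : Sim T H N) (D : ClDat p T t n f) {M A l : ℕ}
    (hM : Nat.card N = M) (hA : Nat.card (MulAut N) = A) (hl : ∀ U : Subgroup N, U ≠ ⊤ → l ≤ U.index)
    {flt : ℕ → ℕ → ℕ → Bool} (hs : sv M A l t n p f flt = true) :
    flt (Nat.card ↥(H ⊓ T)) T.index (Nat.card H / m) = false := by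
  subst hM hA
  have h1 : Nat.card N ∣ ordCl t n (p ^ f) := D.card ▸ Subgroup.card_dvd_of_le (hS.le.trans inf_le_right)
  simp only [sv, frc_eq, Nat.mod_eq_zero_of_dvd h1, Nat.beq_refl, Bool.not_true, Bool.false_or] at hs
  have h2 := hS.le_gcd hK c.as c.half hl
  have h3 : ∀ {x s : ℕ}, (bif Nat.beq (x % s) 0 then 0 else nu 400 (Nat.card N) s) ≠ 0 →
      ¬ s ∣ x ∧ (bif Nat.beq (x % s) 0 then 0 else nu 400 (Nat.card N) s) = nu 400 (Nat.card N) s := fun {x s} h => by
    rw [Bool.cond_eq_ite] at h ⊢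
    split_ifs at h ⊢ with h4
    · exact absurd rfl h
    · exact ⟨fun h5 => h4 (by rw [Nat.mod_eq_zero_of_dvd h5]; rfl), rfl⟩
  rw [← Bool.not_eq_true]
  refine fun h => false_of_sieveG boxNecX c.as c.half _ hs rfl rfl D.card c.dvd_index D.out (le_index c.as c.half D.lmin)
    hS.card_dvd_aut hS.card_dvd (fun _ _ hx => le_relIndex D.lmin (not_le_centralizer c.as hx))
    (fun _ _ hx => le_relIndex D.lmin (not_le_centralizer c.as hx))
    (fun _ _ _ hP h0 _ => le_relIndex D.lmin (not_le_normalizer c.as c.half hP h0)) (fun s hs _ h4 => ?_)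
    (fun s hs _ h4 => ?_) (Nat.ble_eq_true_of_le (h2.trans (Nat.le_of_dvd (Nat.gcd_pos_of_pos_right _ Nat.card_pos)
      (Nat.gcd_dvd_gcd_of_dvd_left _ c.half.d_dvd)))) (Bool.and_eq_true_iff.2 ⟨Nat.ble_eq_true_of_le h2, h⟩)
  · exact (syl_le hS.le (fun b hb => hS.nrm b hb.1) hs (h3 h4).1).trans (h3 h4).2.ge
  · exact (syl_le (hS.le.trans inf_le_left) hS.nrm hs (by rw [c.as.card_eq_mul c.half]; exact (h3 h4).1)).trans
      (h3 h4).2.ge

/-- the normaliser of a Sylow subgroup of `H ⊓ T`, along isomorphisms -/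
theorem syl_X (hT : AS T) (hH : Half H m) {X Y : Type} [Group X] [Group Y] (e : T ≃* X) (e' : ↥(H ⊓ T) ≃* Y) {s : ℕ}
    [hs : Fact s.Prime] (hd : ¬ s ∣ Nat.card H / m) (S : Sylow s Y) : ∃ P : Subgroup X, Nonempty (P ≃* S) ∧
      (Subgroup.normalizer (P : Set X)).index ≤
        nu 400 (Nat.card Y) s * Nat.gcd (Nat.card Y) (Nat.card H / m) := by
  have := hT.normal
  have := Finite.of_equiv _ e'.toEquiv
  let i : Y →* G := (H ⊓ T).subtype.comp e'.symm.toMonoidHom
  let j : X →* G := T.subtype.comp e.symm.toMonoidHom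
  have hi : Function.Injective i := (H ⊓ T).subtype_injective.comp e'.symm.injective
  have hj : Function.Injective j := T.subtype_injective.comp e.symm.injective
  have h1 : j.range = T := by
    rw [MonoidHom.range_comp, MonoidHom.range_eq_top.2 e.symm.surjective, ← MonoidHom.range_eq_map, T.range_subtype]
  have h2 : (S : Subgroup Y).map i ≤ H ⊓ T := by
    rintro _ ⟨y, -, rfl⟩
    exact (e'.symm y).2
  have h3 := syl_bound hT hH inf_le_left hT.le_normalizer_inf hs.1 hd (P := (S : Subgroup Y).map i)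
    ⟨h2, by rw [Subgroup.card_map_of_injective hi, S.card_eq_multiplicity, Nat.card_congr e'.toEquiv]⟩ fun t _ h =>
      le_inf h ((cj_mono t (h2.trans inf_le_right)).trans (cj_normal t T).le)
  have h4 : (S : Subgroup Y).map i ≤ j.range := h1 ▸ h2.trans inf_le_right
  refine ⟨((S : Subgroup Y).map i).comap j, ⟨((Subgroup.equivMapOfInjective _ j hj).trans
    (MulEquiv.subgroupCongr (Subgroup.map_comap_eq_self h4))).trans (Subgroup.equivMapOfInjective _ i hi).symm⟩, ?_⟩
  rw [← Subgroup.comap_normalizer_eq_of_le_range h4, Subgroup.index_comap, h1, ← Nat.card_congr e'.toEquiv]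
  exact h3.trans (Nat.mul_le_mul ((sylNum _).le_nu Nat.card_pos.ne' 400 hs.1) (min_le_right _ _))

/-- the centraliser of an element of prime order `r ∣ d`, `r ∤ m` lies in a conjugate of `H` -/
theorem exists_cj (hH : Half H m) {r : ℕ} (hr : r.Prime) (hd : r ∣ Nat.card H / m) (hm : ¬ r ∣ m) {y : G}
    (hy : orderOf y = r) : ∃ x : G, ∀ c : G, c * y = y * c → x * c * x⁻¹ ∈ H := by
  have := Fact.mk hr
  obtain ⟨P, hP⟩ := hH.exists_sylow_le hd
  have h1 : Nat.card (Subgroup.zpowers y) = r := by rw [Nat.card_zpowers, hy]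
  obtain ⟨Q, hQ⟩ := (IsPGroup.of_card (h1.trans (pow_one r).symm)).exists_le_sylow
  obtain ⟨x, rfl⟩ := MulAction.exists_smul_eq G Q P
  refine ⟨x, fun c hc => hH.normalizer_le (Y := cj x (Subgroup.zpowers y)) ((cj_mono x hQ).trans hP)
    (by rwa [card_cj, h1]) (mem_normalizer_of_cj_eq ?_)⟩
  rw [← cj_mul, inv_mul_cancel_right, cj_mul]
  congr 1
  exact (MonoidHom.map_zpowers _ y).trans (congrArg _ (mul_inv_eq_iff_eq_mul.2 hc))

end

/-- a perfect subgroup of `T` is covered by a perfect linear group -/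
theorem exists_perfect {T N : Type} [Group T] [Group N] {p k n : ℕ} (h : ProjRep p k n T) (f : N →* T)
    (hf : Function.Injective f) (hN : commutator N = ⊤) :
    ∃ (F : Type) (_ : Field F) (_ : Fintype F) (_ : CharP F p) (P : Subgroup (GL (Fin n) F)), ⁅P, P⁆ = P ∧
      Nonempty ((P ⧸ (Cfsg.Geo.scalars (Fin n) F).subgroupOf P) ≃* N) := by
  obtain ⟨F, i1, i2, i3, S, π, -, h1, h2⟩ := h
  let L : Subgroup S := f.range.comap π
  let ψ : L →* N := (MonoidHom.ofInjective hf).symm.toMonoidHom.comp ((π.comp L.subtype).codRestrict f.range fun x => x.2)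
  have h3 : Function.Surjective ψ := fun y => by
    obtain ⟨x, hx⟩ := h1 (f y)
    exact ⟨⟨x, y, hx.symm⟩, (MonoidHom.ofInjective hf).symm_apply_eq.2 (Subtype.ext hx)⟩
  have h4 : ∀ x : L, ψ x = 1 ↔ ((x : S) : GL (Fin n) F) ∈ Cfsg.Geo.scalars (Fin n) F := fun x => by
    rw [← h2]
    exact (map_eq_one_iff _ (MonoidHom.ofInjective hf).symm.injective).trans Subtype.ext_iff
  have h5 : ψ.ker ≤ Subgroup.center L := fun x hx => Subgroup.mem_center_iff.2 fun y =>
    Subtype.ext (Subtype.ext (H912.Bd.scalars_central ((h4 x).1 hx) _).symm)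
  let j : commutator L →* GL (Fin n) F := (S.subtype.comp L.subtype).comp (commutator L).subtype
  have hj : Function.Injective j := (S.subtype_injective.comp L.subtype_injective).comp (commutator L).subtype_injective
  let φ : j.range →* N := (ψ.comp (commutator L).subtype).comp (MonoidHom.ofInjective hj).symm.toMonoidHom
  have h6 : Function.Surjective φ := fun y => by
    obtain ⟨x, hx, rfl⟩ := H95.LSx.exists_core h3 hN y
    exact ⟨MonoidHom.ofInjective hj ⟨x, hx⟩, by simp [φ]⟩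
  refine ⟨F, i1, i2, i3, j.range, ?_, ⟨(QuotientGroup.quotientMulEquivOfEq ?_).trans
    (QuotientGroup.quotientKerEquivOfSurjective φ h6)⟩⟩
  · rw [← map_commutator_eq, H95.LSx.core_perfect h3 h5 hN, MonoidHom.range_eq_map]
  · ext x
    obtain ⟨x, rfl⟩ := (MonoidHom.ofInjective hj).surjective x
    rw [MonoidHom.mem_ker, show φ (MonoidHom.ofInjective hj x) = ψ x by simp [φ], h4]
    rfl

end Cfsg.Agent.TH.Sim.LieN
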