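import Cfsg.Agent.TH.Sim.LieDeg
import Cfsg.Agent.TH.Sim.Loop
import Cfsg.Agent.H889.Enum.Aut

/-!
# S3541, box SimLie: the finite list and the checker (helper6)
-/

set_option autoImplicit false

namespace Cfsg.Agent.TH.Sim.LieN

open Cfsg.Agent.H902 Cfsg.Agent.H889.Enum Cfsg.Agent.TH.Sv Finset

/-- the rank parameter -/
def rk : Art.Sh → ℕ
  | .L n => n
  | .C n => n
  | .U n => n
  | .D n => n
  | .DD n => n
  | _ => 0

/-- `q ^ kk X / 2` is about a lower bound for the degree -/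
def kk : Art.Sh → ℕ
  | .F4 => 4
  | .E6 => 10
  | .E7 => 16
  | .E8 => 28
  | .TE6 => 6
  | .TD4 => 4
  | .TF4 => 2
  | X => max 1 (rk X - 2)

/-- `q ^ dm X` is an upper bound for the order -/
def dm : Art.Sh → ℕ
  | .G2 => 14
  | .F4 => 52
  | .E6 => 78
  | .E7 => 133
  | .E8 => 248
  | .TE6 => 80
  | .TD4 => 30
  | .Sz => 6
  | .Ree => 8
  | .TF4 => 28
  | X => 3 * rk X ^ 2

theorem kk_pos (X : Art.Sh) : 1 ≤ kk X := by
  cases X <;> simp [kk]

theorem lp_ge {X : Art.Sh} {r f : ℕ} (hq : 2 ≤ r ^ f) (h : Art.Ok X r f) :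
    ((r ^ f) ^ kk X - 1) / 2 ≤ max 3 (lp X (r ^ f)) := by
  have h1 : ∀ a b : ℕ, a ≤ b → (r ^ f) ^ a ≤ (r ^ f) ^ b := fun a b => Nat.pow_le_pow_right (by omega)
  have h2 : ∀ a b : ℕ, a ≤ b → ((r ^ f) ^ a - 1) / 2 ≤ max 3 ((r ^ f - 1) * (r ^ f) ^ b) := fun a b hab => by
    have := h1 a b hab
    have := Nat.le_mul_of_pos_left ((r ^ f) ^ b) (show 0 < r ^ f - 1 by omega)
    omega
  cases X with
  | L n =>
    have h3 := h1 (max 1 (n - 2)) (n - 1) (by have := h.1; omega)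
    have h4 : (r ^ f - 1) / 2 ≤ (r ^ f - 1) / Nat.gcd 2 (r ^ f - 1) :=
      Nat.div_le_div_left (Nat.gcd_le_left _ two_pos) (Nat.gcd_pos_of_pos_left _ two_pos)
    simp only [kk, rk, lp, lc]
    split_ifs with a b
    · rw [a.1, a.2]; decide
    · subst b; simp only [Nat.sub_self, Nat.zero_le, sup_of_le_left, pow_one]; omega
    · omega
  | C n =>
    have h3 := h1 (max 1 (n - 2)) n (by have := h.1; omega)
    simp only [kk, rk, lp, lc]
    split_ifs <;> omega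
  | U n =>
    simp only [kk, rk, lp, lc]
    split_ifs with a
    · rw [a.1, a.2]; decide
    · exact h2 _ _ (by have := h.1; omega)
  | D n =>
    simp only [kk, rk, lp, lc]
    split_ifs with a
    · rw [a.1, a.2]; decide
    · exact h2 _ _ (by have : 4 ≤ n := h; omega)
  | DD n => exact h2 _ _ (by have : 4 ≤ n := h; simp only [kk, rk]; omega)
  | G2 =>
    simp only [kk, rk, lp]
    split_ifs with a b
    · rw [a]; decide
    · rw [b]; decide
    · simpa using h2 1 1 le_rfl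
  | Sz => simp only [kk, rk, lp, Nat.zero_le, Nat.sub_eq_zero_of_le, sup_of_le_left, pow_one]; omega
  | Ree => simp only [kk, rk, lp, Nat.zero_le, Nat.sub_eq_zero_of_le, sup_of_le_left, pow_one]; omega
  | _ => exact h2 _ _ le_rfl

theorem num_le {X : Art.Sh} {q : ℕ} (hq : 2 ≤ q) (h0 : X ≠ .DD 0) : q ^ Art.NN X * Art.num X q ≤ q ^ dm X := by
  have h1 : ∀ a b : ℕ, a ≤ b → q ^ a ≤ q ^ b := fun a b => Nat.pow_le_pow_right (by omega)
  have h2 : ∀ a : ℕ, q ^ a - 1 ≤ q ^ a := fun a => Nat.sub_le _ _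
  have h3 : ∀ a : ℕ, q ^ a + 1 ≤ q ^ (a + 1) := fun a => by
    have := Nat.one_le_pow a q (by omega)
    have := Nat.mul_le_mul_left (q ^ a) hq
    rw [pow_succ]; omega
  have h4 : ∀ k m : ℕ, k ≤ m → ∏ i ∈ range k, (q ^ (2 * (i + 1)) - 1) ≤ q ^ (2 * m * k) := fun k m h => by
    have h5 := prod_le_pow_card (range k) (fun i => q ^ (2 * (i + 1)) - 1) (q ^ (2 * m)) fun i hi =>
      (h2 _).trans (h1 _ _ (by have := mem_range.1 hi; omega))
    rwa [card_range, ← pow_mul] at h5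
  have h5 : q - 1 ≤ q := Nat.sub_le _ _
  have h6 : ∀ n : ℕ, n * (n - 1) / 2 + (n + 1) * (n - 1) ≤ 3 * n ^ 2 := fun n => by
    have := Nat.mul_le_mul_left n (Nat.sub_le n 1)
    have := Nat.mul_le_mul_left (n + 1) (Nat.sub_le n 1)
    have := Nat.le_self_pow two_ne_zero n
    rw [sq] at *
    rw [add_mul n 1 n] at *
    omega
  cases X with
  | L n =>
    have h7 := prod_le_pow_card (range (n - 1)) (fun i => q ^ (i + 2) - 1) (q ^ (n + 1)) fun i hi =>
      (h2 _).trans (h1 _ _ (by have := mem_range.1 hi; omega))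
    rw [card_range, ← pow_mul] at h7
    exact (Nat.mul_le_mul_left _ h7).trans (by rw [← pow_add]; exact h1 _ _ (h6 n))
  | U n =>
    have h7 := prod_le_pow_card (range (n - 1)) (fun i => if Even i then q ^ (i + 2) - 1 else q ^ (i + 2) + 1)
      (q ^ (n + 1)) fun i hi => by
        have := mem_range.1 hi
        split_ifs
        · exact (h2 _).trans (h1 _ _ (by omega))
        · exact (h3 _).trans (h1 _ _ (by omega))
    rw [card_range, ← pow_mul] at h7
    exact (Nat.mul_le_mul_left _ h7).trans (by rw [← pow_add]; exact h1 _ _ (h6 n))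
  | C m => exact (Nat.mul_le_mul_left _ (h4 m m le_rfl)).trans (by
      rw [← pow_add]; exact h1 _ _ (by show m ^ 2 + 2 * m * m ≤ 3 * m ^ 2; nlinarith))
  | D m =>
    refine (Nat.mul_le_mul_left _ (Nat.mul_le_mul (h2 m) (h4 (m - 1) m (by omega)))).trans ?_
    rw [← pow_add, ← pow_add]
    refine h1 _ _ ?_
    show m * (m - 1) + (m + 2 * m * (m - 1)) ≤ 3 * m ^ 2
    rcases m with _ | m
    · simp
    · rw [Nat.add_sub_cancel]; nlinarith
  | DD m =>
    rcases m with _ | m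
    · exact absurd rfl h0
    refine (Nat.mul_le_mul_left _ (Nat.mul_le_mul (h3 _) (h4 (m + 1 - 1) (m + 1) (by omega)))).trans ?_
    rw [← pow_add, ← pow_add]
    refine h1 _ _ ?_
    show (m + 1) * m + (m + 1 + 1 + 2 * (m + 1) * m) ≤ 3 * (m + 1) ^ 2
    nlinarith
  | G2 => exact (Nat.mul_le_mul_left _ (Nat.mul_le_mul (h2 _) (h2 _))).trans (le_of_eq (show q ^ 6 * (q ^ 2 * q ^ 6) = q ^ 14 by ring))
  | F4 =>
    delta Art.NN Art.num dm; dsimp only
    calc _ ≤ q ^ 24 * (q ^ 2 * q ^ 6 * q ^ 8 * q ^ 12) := by gcongr <;> exact h2 _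
      _ = _ := by ring
  | E6 =>
    delta Art.NN Art.num dm; dsimp only
    calc _ ≤ q ^ 36 * (q ^ 2 * q ^ 5 * q ^ 6 * q ^ 8 * q ^ 9 * q ^ 12) := by gcongr <;> exact h2 _
      _ = _ := by ring
  | E7 =>
    delta Art.NN Art.num dm; dsimp only
    calc _ ≤ q ^ 63 * (q ^ 2 * q ^ 6 * q ^ 8 * q ^ 10 * q ^ 12 * q ^ 14 * q ^ 18) := by gcongr <;> exact h2 _
      _ = _ := by ring
  | E8 =>
    delta Art.NN Art.num dm; dsimp only
    calc _ ≤ q ^ 120 * (q ^ 2 * q ^ 8 * q ^ 12 * q ^ 14 * q ^ 18 * q ^ 20 * q ^ 24 * q ^ 30) := by gcongr <;> exact h2 _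
      _ = _ := by ring
  | TE6 =>
    delta Art.NN Art.num dm; dsimp only
    calc _ ≤ q ^ 36 * (q ^ 2 * q ^ 6 * q ^ 6 * q ^ 8 * q ^ 10 * q ^ 12) := by
          gcongr <;> first | exact h2 _ | exact h3 _
      _ = _ := by ring
  | TD4 =>
    delta Art.NN Art.num dm; dsimp only
    have h7 : q ^ 8 + q ^ 4 + 1 ≤ q ^ 10 := by
      have : q ^ 4 + 1 ≤ q ^ 5 := h3 4
      have := h1 5 8 (by omega)
      have := h1 9 10 (by omega)
      have : q ^ 8 * 2 ≤ q ^ 9 := Nat.mul_le_mul_left (q ^ 8) hq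
      omega
    calc _ ≤ q ^ 12 * (q ^ 2 * q ^ 6 * q ^ 10) := by gcongr <;> exact h2 _
      _ = _ := by ring
  | Sz =>
    delta Art.NN Art.num dm; dsimp only
    calc _ ≤ q ^ 2 * (q * q ^ 3) := by gcongr; exact h3 _
      _ = _ := by ring
  | Ree =>
    delta Art.NN Art.num dm; dsimp only
    calc _ ≤ q ^ 3 * (q * q ^ 4) := by gcongr; exact h3 _
      _ = _ := by ring
  | TF4 =>
    delta Art.NN Art.num dm; dsimp only
    calc _ ≤ q ^ 12 * (q * q ^ 4 * q ^ 4 * q ^ 7) := by gcongr <;> first | exact h2 _ | exact h3 _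
      _ = _ := by ring

theorem ou_le {X : Art.Sh} {r f : ℕ} (h : Art.Ok X r f) : ou X r f ≤ 32 * 2 ^ rk X * f := by
  have h1 : ∀ a b : ℕ, 0 < a → Nat.gcd a b ≤ a := fun a b h => Nat.gcd_le_left b h
  have h2 : rk X < 2 ^ rk X := Nat.lt_two_pow_self
  have h3 := h1 2 (r ^ f - 1) two_pos
  have h4 := h1 2 r two_pos
  have h5 := h1 3 (r ^ f - 1) three_pos
  have h6 := h1 3 (r ^ f + 1) three_pos
  cases X with
  | L n =>
    have := h1 n (r ^ f - 1) (by have := h.1; omega)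
    refine Nat.mul_le_mul_right f ?_
    simp only [rk] at *
    split_ifs <;> omega
  | U n =>
    have := h1 n (r ^ f + 1) (by have := h.1; omega)
    refine Nat.mul_le_mul_right f ?_
    simp only [rk] at *
    omega
  | _ =>
    refine Nat.mul_le_mul_right f ?_
    first | omega | (split_ifs <;> omega)

theorem dm_pos {X : Art.Sh} : dm X + rk X + 6 ≤ kk X * (3 * kk X + 33) := by
  have key : ∀ n : ℕ, 3 * n ^ 2 + n + 6 ≤ max 1 (n - 2) * (3 * max 1 (n - 2) + 33) := fun n => by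
    have h1 : n ≤ max 1 (n - 2) + 2 := by omega
    have h2 : 1 ≤ max 1 (n - 2) := by omega
    generalize max 1 (n - 2) = k at *
    nlinarith [Nat.pow_le_pow_left h1 2]
  cases X <;> first | exact key _ | decide

theorem dd_pos (X : Art.Sh) {r f : ℕ} (h : Art.Ok X r f) : 0 < Art.dd X (r ^ f) := by
  cases X with
  | L n => exact Nat.gcd_pos_of_pos_left _ (by have := h.1; omega)
  | U n => exact Nat.gcd_pos_of_pos_left _ (by have := h.1; omega)
  | _ => first | exact Nat.gcd_pos_of_pos_left _ (by omega) | exact one_pos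

theorem aut_le {X : Art.Sh} {r f M : ℕ} (h : Art.Real X r f M) :
    ou X r f * M ≤ ((r ^ f) ^ kk X) ^ (3 * kk X + 33) := by
  have h1 : 2 ^ f ≤ r ^ f := Nat.pow_le_pow_left h.hp.two_le f
  have h2 : f < 2 ^ f := Nat.lt_two_pow_self
  have hq : 2 ≤ r ^ f := by have := h.hf; omega
  have h3 : M ≤ (r ^ f) ^ dm X := (Nat.le_mul_of_pos_left M (dd_pos X h.ok)).trans (h.eq ▸ num_le hq fun e => by
    have h4 := h.ok
    rw [e] at h4
    exact absurd (show 4 ≤ 0 from h4) (by decide))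
  rw [← pow_mul]
  calc ou X r f * M ≤ 2 ^ 5 * 2 ^ rk X * f * M := Nat.mul_le_mul_right _ (ou_le h.ok)
    _ ≤ (r ^ f) ^ 5 * (r ^ f) ^ rk X * r ^ f * (r ^ f) ^ dm X := by gcongr; omega
    _ = (r ^ f) ^ (dm X + rk X + 6) := by ring
    _ ≤ _ := Nat.pow_le_pow_right (by omega) dm_pos

theorem pow_ineq {y : ℕ} (hy : 11 ≤ y) : 2 * (3 * (y + 2) ^ 2 + 31 * (y + 2) + 3) + 3 ≤ 2 ^ y := by
  induction y, hy using Nat.le_induction with
  | base => norm_num
  | succ y hy ih => rw [pow_succ 2]; nlinarith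

/-- **the list is finite** -/
theorem lt_4096 {X : Art.Sh} {r f M Z : ℕ} (h : Art.Real X r f M) (hZ : max 3 (lp X (r ^ f)) ≤ Z + 2)
    (hl : 2 ^ Z ≤ (24 * (ou X r f * M) * Z) ^ 2) : (r ^ f) ^ kk X < 4096 := by
  by_contra h0
  have h1 : 2 ^ f ≤ r ^ f := Nat.pow_le_pow_left h.hp.two_le f
  have h2 : f < 2 ^ f := Nat.lt_two_pow_self
  have hq : 2 ≤ r ^ f := by have := h.hf; omega
  have h3 := lp_ge hq h.ok
  have h4 := aut_le h
  have h5 : 2 ^ kk X ≤ (r ^ f) ^ kk X := Nat.pow_le_pow_left hq _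
  generalize (r ^ f) ^ kk X = x at *
  generalize ou X r f * M = A at *
  obtain ⟨y, hy⟩ : ∃ y, Nat.log 2 x = y + 1 := ⟨Nat.log 2 x - 1, by
    have := (Nat.le_log_iff_pow_le (b := 2) (x := 1) (y := x) (by omega) (by omega)).2 (by omega); omega⟩
  have h6 : 2 ^ (y + 1) ≤ x := hy ▸ Nat.pow_log_le_self 2 (by omega)
  have h7 : x < 2 ^ (y + 2) := by
    have := Nat.lt_pow_succ_log_self (b := 2) (by omega) x
    rwa [hy] at this
  have h8 : 11 ≤ y := by
    have := (Nat.pow_lt_pow_iff_right (a := 2) (n := 12) (m := y + 2) (by omega)).1 (by omega)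
    omega
  have h9 : kk X ≤ y + 1 := by
    have := (Nat.pow_lt_pow_iff_right (a := 2) (by omega)).1 (h5.trans_lt h7)
    omega
  have h10 := pow_ineq h8
  have h11 : A ≤ 2 ^ ((y + 2) * (3 * (y + 1) + 33)) := by
    rw [pow_mul]
    exact h4.trans ((Nat.pow_le_pow_left h7.le _).trans (Nat.pow_le_pow_right (by positivity) (by omega)))
  rw [pow_succ] at h6
  refine absurd (sq_lt_pow (C := 24 * A) (X := 2 ^ y - 3) (by omega) ?_ (show 2 ^ y - 3 ≤ Z by omega)) (not_lt.2 hl)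
  calc (24 * A * (2 ^ y - 3)) ^ 2 ≤ (24 * 2 ^ ((y + 2) * (3 * (y + 1) + 33)) * 2 ^ y) ^ 2 := by gcongr; omega
    _ < (2 ^ 5 * 2 ^ ((y + 2) * (3 * (y + 1) + 33)) * 2 ^ y) ^ 2 := by gcongr; omega
    _ ≤ _ := by
      rw [← pow_add, ← pow_add, ← pow_mul]
      exact Nat.pow_le_pow_right two_pos (by nlinarith [Nat.sub_add_cancel (show 3 ≤ 2 ^ y by omega)])

end Cfsg.Agent.TH.Sim.LieN
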