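import Cfsg.Agent.TH.Sim.LieChk

/-!
# S3541, box SimLie: the runs of the checker, linear groups (helper6)
-/

set_option autoImplicit false

namespace Cfsg.Agent.TH.Sim.LieN

theorem run_L0 : chkX (.L 0) = true := by decide +kernel

theorem run_L1 : chkX (.L 1) = true := by decide +kernel

theorem run_L2 : chkX (.L 2) = true := by decide +kernel

theorem run_L3 : chkX (.L 3) = true := by decide +kernel

theorem run_L4 : chkX (.L 4) = true := by decide +kernel

theorem run_L5 : chkX (.L 5) = true := by decide +kernel

theorem run_L6 : chkX (.L 6) = true := by decide +kernel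

theorem run_L7 : chkX (.L 7) = true := by decide +kernel

theorem run_L8 : chkX (.L 8) = true := by decide +kernel

theorem run_L9 : chkX (.L 9) = true := by decide +kernel

theorem run_L10 : chkX (.L 10) = true := by decide +kernel

theorem run_L11 : chkX (.L 11) = true := by decide +kernel

theorem run_L12 : chkX (.L 12) = true := by decide +kernel

theorem run_L13 : chkX (.L 13) = true := by decide +kernel

theorem run_L {m : ℕ} (h : m ≤ 13) : chkX (.L m) = true := by
  interval_cases m
  exacts [run_L0, run_L1, run_L2, run_L3, run_L4, run_L5, run_L6, run_L7, run_L8, run_L9, run_L10, run_L11, run_L12, run_L13]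

end Cfsg.Agent.TH.Sim.LieN
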