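import Cfsg.Agent.TH.Sim.LieChk

/-!
# S3541, box SimLie: the runs of the checker, symplectic, odd orthogonal, unitary groups (helper6)
-/

set_option autoImplicit false

namespace Cfsg.Agent.TH.Sim.LieN

theorem run_C0 : chkX (.C 0) = true := by decide +kernel

theorem run_C1 : chkX (.C 1) = true := by decide +kernel

theorem run_C2 : chkX (.C 2) = true := by decide +kernel

theorem run_C3 : chkX (.C 3) = true := by decide +kernel

theorem run_C4 : chkX (.C 4) = true := by decide +kernel

theorem run_C5 : chkX (.C 5) = true := by decide +kernel

theorem run_C6 : chkX (.C 6) = true := by decide +kernel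

theorem run_C7 : chkX (.C 7) = true := by decide +kernel

theorem run_C8 : chkX (.C 8) = true := by decide +kernel

theorem run_C9 : chkX (.C 9) = true := by decide +kernel

theorem run_C10 : chkX (.C 10) = true := by decide +kernel

theorem run_C11 : chkX (.C 11) = true := by decide +kernel

theorem run_C12 : chkX (.C 12) = true := by decide +kernel

theorem run_C13 : chkX (.C 13) = true := by decide +kernel

theorem run_U0 : chkX (.U 0) = true := by decide +kernel

theorem run_U1 : chkX (.U 1) = true := by decide +kernel

theorem run_U2 : chkX (.U 2) = true := by decide +kernel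

theorem run_U3 : chkX (.U 3) = true := by decide +kernel

theorem run_U4 : chkX (.U 4) = true := by decide +kernel

theorem run_U5 : chkX (.U 5) = true := by decide +kernel

theorem run_U6 : chkX (.U 6) = true := by decide +kernel

theorem run_U7 : chkX (.U 7) = true := by decide +kernel

theorem run_U8 : chkX (.U 8) = true := by decide +kernel

theorem run_U9 : chkX (.U 9) = true := by decide +kernel

theorem run_U10 : chkX (.U 10) = true := by decide +kernel

theorem run_U11 : chkX (.U 11) = true := by decide +kernel

theorem run_U12 : chkX (.U 12) = true := by decide +kernel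

theorem run_U13 : chkX (.U 13) = true := by decide +kernel

theorem run_C {m : ℕ} (h : m ≤ 13) : chkX (.C m) = true := by
  interval_cases m
  exacts [run_C0, run_C1, run_C2, run_C3, run_C4, run_C5, run_C6, run_C7, run_C8, run_C9, run_C10, run_C11, run_C12, run_C13]

theorem run_U {m : ℕ} (h : m ≤ 13) : chkX (.U m) = true := by
  interval_cases m
  exacts [run_U0, run_U1, run_U2, run_U3, run_U4, run_U5, run_U6, run_U7, run_U8, run_U9, run_U10, run_U11, run_U12, run_U13]

end Cfsg.Agent.TH.Sim.LieN
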