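import Cfsg.Agent.TH.Sim.LieChk

/-!
# S3541, box SimLie: the runs of the checker, even orthogonal and exceptional groups (helper6)
-/

set_option autoImplicit false

namespace Cfsg.Agent.TH.Sim.LieN

theorem run_D0 : chkX (.D 0) = true := by decide +kernel

theorem run_D1 : chkX (.D 1) = true := by decide +kernel

theorem run_D2 : chkX (.D 2) = true := by decide +kernel

theorem run_D3 : chkX (.D 3) = true := by decide +kernel

theorem run_D4 : chkX (.D 4) = true := by decide +kernel

theorem run_D5 : chkX (.D 5) = true := by decide +kernel

theorem run_D6 : chkX (.D 6) = true := by decide +kernel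

theorem run_D7 : chkX (.D 7) = true := by decide +kernel

theorem run_D8 : chkX (.D 8) = true := by decide +kernel

theorem run_D9 : chkX (.D 9) = true := by decide +kernel

theorem run_D10 : chkX (.D 10) = true := by decide +kernel

theorem run_D11 : chkX (.D 11) = true := by decide +kernel

theorem run_D12 : chkX (.D 12) = true := by decide +kernel

theorem run_D13 : chkX (.D 13) = true := by decide +kernel

theorem run_DD0 : chkX (.DD 0) = true := by decide +kernel

theorem run_DD1 : chkX (.DD 1) = true := by decide +kernel

theorem run_DD2 : chkX (.DD 2) = true := by decide +kernel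

theorem run_DD3 : chkX (.DD 3) = true := by decide +kernel

theorem run_DD4 : chkX (.DD 4) = true := by decide +kernel

theorem run_DD5 : chkX (.DD 5) = true := by decide +kernel

theorem run_DD6 : chkX (.DD 6) = true := by decide +kernel

theorem run_DD7 : chkX (.DD 7) = true := by decide +kernel

theorem run_DD8 : chkX (.DD 8) = true := by decide +kernel

theorem run_DD9 : chkX (.DD 9) = true := by decide +kernel

theorem run_DD10 : chkX (.DD 10) = true := by decide +kernel

theorem run_DD11 : chkX (.DD 11) = true := by decide +kernel

theorem run_DD12 : chkX (.DD 12) = true := by decide +kernel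

theorem run_DD13 : chkX (.DD 13) = true := by decide +kernel

theorem run_G2 : chkX .G2 = true := by decide +kernel

theorem run_F4 : chkX .F4 = true := by decide +kernel

theorem run_E6 : chkX .E6 = true := by decide +kernel

theorem run_E7 : chkX .E7 = true := by decide +kernel

theorem run_E8 : chkX .E8 = true := by decide +kernel

theorem run_TE6 : chkX .TE6 = true := by decide +kernel

theorem run_TD4 : chkX .TD4 = true := by decide +kernel

theorem run_Sz : chkX .Sz = true := by decide +kernel

theorem run_Ree : chkX .Ree = true := by decide +kernel

theorem run_TF4 : chkX .TF4 = true := by decide +kernel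

theorem run_D {m : ℕ} (h : m ≤ 13) : chkX (.D m) = true := by
  interval_cases m
  exacts [run_D0, run_D1, run_D2, run_D3, run_D4, run_D5, run_D6, run_D7, run_D8, run_D9, run_D10, run_D11, run_D12, run_D13]

theorem run_DD {m : ℕ} (h : m ≤ 13) : chkX (.DD m) = true := by
  interval_cases m
  exacts [run_DD0, run_DD1, run_DD2, run_DD3, run_DD4, run_DD5, run_DD6, run_DD7, run_DD8, run_DD9, run_DD10, run_DD11, run_DD12, run_DD13]

end Cfsg.Agent.TH.Sim.LieN
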