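import Cfsg.Agent.TH.Alt.Base

/-!
# S3541, box AltBig: the elementary abelian 3-subgroups of largest order of a symmetric group (helper64)
-/

set_option autoImplicit false
set_option linter.unusedSectionVars false

namespace Cfsg.Agent.TH.Sim

open Equiv Equiv.Perm MulAction Alt

variable {α : Type*} [Fintype α] [DecidableEq α]

/-- abelian of exponent three -/
structure E3 (E : Subgroup (Perm α)) : Prop where
  comm : ∀ σ ∈ E, ∀ τ ∈ E, σ * τ = τ * σ
  cube : ∀ σ ∈ E, σ ^ 3 = 1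

variable {E : Subgroup (Perm α)}

theorem E3.isPGroup (h : E3 E) : IsPGroup 3 E := fun σ => ⟨1, Subtype.ext (by simpa using h.cube σ σ.2)⟩

theorem E3.mono (h : E3 E) {D : Subgroup (Perm α)} (hD : D ≤ E) : E3 D :=
  ⟨fun σ h1 τ h2 => h.comm σ (hD h1) τ (hD h2), fun σ h1 => h.cube σ (hD h1)⟩

/-- the orbit of `x` -/
noncomputable def orb (E : Subgroup (Perm α)) (x : α) : Finset α := (Set.toFinite (orbit E x)).toFinset

theorem mem_orb {x y : α} : y ∈ orb E x ↔ ∃ σ ∈ E, σ x = y := by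
  rw [orb, Set.Finite.mem_toFinset]
  exact ⟨fun ⟨σ, h⟩ => ⟨σ, σ.2, h⟩, fun ⟨σ, h1, h2⟩ => ⟨⟨σ, h1⟩, h2⟩⟩

theorem self_mem_orb (x : α) : x ∈ orb E x := mem_orb.2 ⟨1, one_mem _, rfl⟩

theorem orb_apply {σ : Perm α} (h : σ ∈ E) (x : α) : orb E (σ x) = orb E x := by
  ext y
  rw [mem_orb, mem_orb]
  constructor
  · rintro ⟨τ, h1, rfl⟩
    exact ⟨τ * σ, mul_mem h1 h, rfl⟩
  · rintro ⟨τ, h1, rfl⟩
    exact ⟨τ * σ⁻¹, mul_mem h1 (inv_mem h), by rw [mul_apply, inv_ap]⟩

theorem orb_eq_of_mem {x y : α} (h : y ∈ orb E x) : orb E y = orb E x := by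
  obtain ⟨σ, h1, rfl⟩ := mem_orb.1 h
  exact orb_apply h1 x

theorem card_eq_orb (E : Subgroup (Perm α)) (x : α) : Nat.card E = (orb E x).card * Nat.card (St E x) := by
  rw [card_St E x, orb, Set.ncard_eq_toFinset_card]

theorem E3.fix (h : E3 E) {σ : Perm α} (hσ : σ ∈ E) {x y : α} (hx : σ x = x) (hy : y ∈ orb E x) : σ y = y := by
  obtain ⟨τ, h1, rfl⟩ := mem_orb.1 hy
  rw [← mul_apply, h.comm σ hσ τ h1, mul_apply, hx]

theorem E3.card_orb (h : E3 E) (x : α) : ∃ a, (orb E x).card = 3 ^ a := by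
  have : Fact (Nat.Prime 3) := ⟨Nat.prime_three⟩
  obtain ⟨a, ha⟩ := h.isPGroup.card_orbit x
  exact ⟨a, by rw [← ha, orb, ← Set.ncard_eq_toFinset_card, Nat.card_coe_set_eq]⟩

theorem two_mul_le_pow (a : ℕ) : 2 * a + 1 ≤ 3 ^ a := by
  induction a with
  | zero => simp
  | succ a ih => rw [pow_succ]; omega

/-- one step of the induction -/
theorem E3.step (h : E3 E) {s : Finset α} (hs : ∀ σ ∈ E, ∀ x, x ∉ s → σ x = x) {x : α} {σ : Perm α} (hσ : σ ∈ E)
    (hx : σ x ≠ x) : ∃ a, (orb E x).card = 3 ^ (a + 1) ∧ (s \ orb E x).card + 3 * 3 ^ a = s.card ∧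
      ∀ τ ∈ St E x, ∀ y, y ∉ s \ orb E x → τ y = y := by
  obtain ⟨a, ha⟩ := h.card_orb x
  have h1 : orb E x ⊆ s := fun y hy => by
    by_contra hn
    exact hx (h.fix hσ (hs σ hσ y hn) (by rw [orb_eq_of_mem hy]; exact self_mem_orb x))
  rcases a with _ | a
  · exfalso
    rw [pow_zero, Finset.card_eq_one] at ha
    obtain ⟨z, hz⟩ := ha
    have h2 := self_mem_orb (E := E) x
    have h3 : σ x ∈ orb E x := mem_orb.2 ⟨σ, hσ, rfl⟩
    rw [hz, Finset.mem_singleton] at h2 h3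
    exact hx (h3.trans h2.symm)
  refine ⟨a, ha, ?_, fun τ hτ y hy => ?_⟩
  · rw [← Finset.card_sdiff_add_card_eq_card h1, ha, pow_succ, mul_comm]
  · by_cases h2 : y ∈ orb E x
    · exact h.fix hτ.1 hτ.2 h2
    · exact hs τ hτ.1 y fun h3 => hy (Finset.mem_sdiff.2 ⟨h3, h2⟩)

/-- the order of an abelian group of exponent three which moves only the points of `s` -/
theorem E3.card_le' (n : ℕ) : ∀ (s : Finset α), s.card ≤ n → ∀ E : Subgroup (Perm α), E3 E →
    (∀ σ ∈ E, ∀ x, x ∉ s → σ x = x) → Nat.card E ≤ 3 ^ (s.card / 3) := by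
  induction n with
  | zero =>
    intro s hn E _ hs
    have h1 : E = ⊥ := (Subgroup.eq_bot_iff_forall _).2 fun σ hσ => Equiv.ext fun x => hs σ hσ x fun hx => by
      have := Finset.card_pos.2 ⟨x, hx⟩
      omega
    rw [h1, Subgroup.card_bot]
    exact Nat.one_le_pow _ _ (by norm_num)
  | succ n ih =>
    intro s hn E h hs
    by_cases h0 : ∃ σ ∈ E, ∃ x, σ x ≠ x
    · obtain ⟨σ, hσ, x, hx⟩ := h0
      obtain ⟨a, h1, h2, h3⟩ := h.step hs hσ hx
      have h4 := two_mul_le_pow a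
      have h5 := ih (s \ orb E x) (by omega) (St E x) (h.mono inf_le_left) h3
      rw [card_eq_orb E x, h1]
      refine (Nat.mul_le_mul_left _ h5).trans ?_
      rw [← pow_add]
      exact Nat.pow_le_pow_right (by norm_num) (by omega)
    · push Not at h0
      have h1 : E = ⊥ := (Subgroup.eq_bot_iff_forall _).2 fun σ hσ => Equiv.ext fun x => h0 σ hσ x
      rw [h1, Subgroup.card_bot]
      exact Nat.one_le_pow _ _ (by norm_num)

theorem E3.card_le (h : E3 E) {s : Finset α} (hs : ∀ σ ∈ E, ∀ x, x ∉ s → σ x = x) : Nat.card E ≤ 3 ^ (s.card / 3) :=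
  E3.card_le' _ s le_rfl E h hs

theorem E3.card_le_univ (h : E3 E) : Nat.card E ≤ 3 ^ (Fintype.card α / 3) :=
  h.card_le (s := Finset.univ) fun _ _ x hx => (hx (Finset.mem_univ x)).elim

/-- the hull of `E` -/
def Zr (E : Subgroup (Perm α)) : Subgroup (Perm α) where
  carrier := {σ | (∀ τ ∈ E, σ * τ = τ * σ) ∧ ∀ x, σ x ∈ orb E x}
  mul_mem' := fun {a b} ha hb => ⟨fun τ hτ => by rw [mul_assoc, hb.1 τ hτ, ← mul_assoc, ha.1 τ hτ, mul_assoc], fun x => by
    rw [← orb_eq_of_mem (hb.2 x)]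
    exact ha.2 _⟩
  one_mem' := ⟨fun τ _ => by rw [one_mul, mul_one], fun x => self_mem_orb x⟩
  inv_mem' := fun {a} ha => ⟨fun τ hτ => by
    rw [inv_mul_eq_iff_eq_mul, ← mul_assoc, ha.1 τ hτ, mul_inv_cancel_right], fun x => by
    have h1 := orb_eq_of_mem (ha.2 (a⁻¹ x))
    rw [ap_inv] at h1
    rw [h1]
    exact self_mem_orb _⟩

theorem E3.le_Zr (h : E3 E) : E ≤ Zr E := fun σ hσ => ⟨h.comm σ hσ, fun _ => mem_orb.2 ⟨σ, hσ, rfl⟩⟩

theorem E3.zr (h : E3 E) : E3 (Zr E) := by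
  constructor
  · intro σ hσ τ hτ
    ext x
    obtain ⟨a, ha, h1⟩ := mem_orb.1 (hσ.2 x)
    obtain ⟨b, hb, h2⟩ := mem_orb.1 (hτ.2 x)
    rw [mul_apply, mul_apply, ← h1, ← h2, ← mul_apply σ, ← mul_apply τ, hσ.1 b hb, hτ.1 a ha, mul_apply, mul_apply,
      ← h1, ← h2, ← mul_apply, ← mul_apply a, h.comm a ha b hb]
  · intro σ hσ
    ext x
    obtain ⟨a, ha, h1⟩ := mem_orb.1 (hσ.2 x)
    have h2 : ∀ n : ℕ, (σ ^ n) x = (a ^ n) x := fun n => by
      induction n with
      | zero => rfl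
      | succ n ih => rw [pow_succ', mul_apply, ih, ← mul_apply, hσ.1 _ (pow_mem ha n), mul_apply, ← h1, pow_succ, mul_apply]
    rw [h2, h.cube a ha]

/-- the abelian subgroups of exponent three of largest order -/
def Ext (α : Type*) [Fintype α] : Set (Subgroup (Perm α)) := {E | E3 E ∧ 3 ^ (Fintype.card α / 3) ≤ Nat.card E}

theorem Ext.eq_of_le (h : E ∈ Ext α) {D : Subgroup (Perm α)} (hD : E3 D) (hle : E ≤ D) : E = D :=
  Subgroup.eq_of_le_of_card_ge hle (hD.card_le_univ.trans h.2)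

theorem Ext.card_orb (h : E ∈ Ext α) (x : α) : (orb E x).card ≤ 3 := by
  by_cases h0 : ∃ σ ∈ E, σ x ≠ x
  · obtain ⟨σ, hσ, hx⟩ := h0
    obtain ⟨a, h1, h2, h3⟩ := h.1.step (s := Finset.univ) (fun _ _ x hx => (hx (Finset.mem_univ x)).elim) hσ hx
    have h4 := two_mul_le_pow a
    have h5 := (h.1.mono (D := St E x) inf_le_left).card_le h3
    have h6 := h.2
    rw [card_eq_orb E x, h1] at h6
    have h7 := h6.trans (Nat.mul_le_mul_left _ h5)
    rw [← pow_add, Nat.pow_le_pow_iff_right (by norm_num)] at h7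
    rw [Finset.card_univ] at h2
    have h8 : a = 0 := by omega
    rw [h1, h8]
    norm_num
  · push Not at h0
    refine le_trans (Finset.card_le_one.2 fun a ha b hb => ?_) (by norm_num)
    obtain ⟨σ, h1, rfl⟩ := mem_orb.1 ha
    obtain ⟨τ, h2, rfl⟩ := mem_orb.1 hb
    rw [h0 σ h1, h0 τ h2]

/-- the permutation which acts on each orbit as a chosen element of `E` -/
noncomputable def glue (E : Subgroup (Perm α)) (γ : Finset α → E) : Perm α where
  toFun x := (γ (orb E x) : Perm α) x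
  invFun x := (γ (orb E x) : Perm α)⁻¹ x
  left_inv x := by
    show (γ (orb E ((γ (orb E x) : Perm α) x)) : Perm α)⁻¹ _ = x
    rw [orb_apply (γ _).2, inv_ap]
  right_inv x := by
    show (γ (orb E ((γ (orb E x) : Perm α)⁻¹ x)) : Perm α) _ = x
    rw [orb_apply (inv_mem (γ _).2), ap_inv]

theorem glue_apply (γ : Finset α → E) (x : α) : glue E γ x = (γ (orb E x) : Perm α) x := rfl

theorem Ext.glue_mem (h : E ∈ Ext α) (γ : Finset α → E) : glue E γ ∈ E := by
  have h1 : glue E γ ∈ Zr E := ⟨fun τ hτ => Equiv.ext fun x => by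
    rw [mul_apply, mul_apply, glue_apply, glue_apply, orb_apply hτ, ← mul_apply, h.1.comm _ (γ _).2 τ hτ, mul_apply],
    fun x => mem_orb.2 ⟨_, (γ _).2, rfl⟩⟩
  rwa [← Ext.eq_of_le h h.1.zr h.1.le_Zr] at h1

theorem sq_ne {e : Perm α} (h3 : e ^ 3 = 1) {x : α} (hx : e x ≠ x) : e (e x) ≠ x := fun h => by
  have h1 : (e ^ 3) x = e (e (e x)) := by rw [pow_succ, pow_two, mul_apply, mul_apply]
  rw [h3, h] at h1
  exact hx h1.symm

/-- an element of `E` which moves all the points moved by `E` determines `E` -/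
theorem Ext.eq_Zr (h : E ∈ Ext α) {e : Perm α} (he : e ∈ E) (hm : ∀ σ ∈ E, ∀ x, σ x ≠ x → e x ≠ x) :
    Zr (Subgroup.zpowers e) = E := by
  have h0 : Subgroup.zpowers e ≤ E := (Subgroup.zpowers_le (G := Perm α)).2 he
  refine (Ext.eq_of_le h (h.1.mono h0).zr fun σ hσ => ⟨fun τ hτ => h.1.comm σ hσ τ (h0 hτ), fun x => ?_⟩).symm
  by_cases hx : σ x = x
  · rw [hx]
    exact self_mem_orb x
  have h1 := hm σ hσ x hx
  have h2 := sq_ne (h.1.cube e he) h1
  have h3 : orb (Subgroup.zpowers e) x ⊆ orb E x := fun y hy => by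
    obtain ⟨τ, h4, h5⟩ := mem_orb.1 hy
    exact mem_orb.2 ⟨τ, h0 h4, h5⟩
  have h4 : ({x, e x, e (e x)} : Finset α) ⊆ orb (Subgroup.zpowers e) x := by
    intro y hy
    simp only [Finset.mem_insert, Finset.mem_singleton] at hy
    rcases hy with rfl | rfl | rfl
    · exact self_mem_orb _
    · exact mem_orb.2 ⟨e, Subgroup.mem_zpowers e, rfl⟩
    · exact mem_orb.2 ⟨e * e, mul_mem (Subgroup.mem_zpowers e) (Subgroup.mem_zpowers e), rfl⟩
  have h5 : ({x, e x, e (e x)} : Finset α).card = 3 :=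
    Finset.card_eq_three.2 ⟨x, e x, e (e x), h1.symm, h2.symm, fun h6 => h1 (e.injective h6).symm, rfl⟩
  rw [Finset.eq_of_subset_of_card_le h3 ((Ext.card_orb h x).trans (h5 ▸ Finset.card_le_card h4))]
  exact mem_orb.2 ⟨σ, hσ, rfl⟩

theorem Ext.cycleType (h : E ∈ Ext α) {e : Perm α} (he : e ∈ E) (hm : ∀ σ ∈ E, ∀ x, σ x ≠ x → e x ≠ x) :
    e.cycleType = Multiset.replicate (Fintype.card α / 3) 3 := by
  have : Fact (Nat.Prime 3) := ⟨Nat.prime_three⟩
  have h1 := cycleType_of_pow_prime_eq_one (h.1.cube e he)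
  have h2 := e.sum_cycleType
  rw [h1, Multiset.sum_replicate, smul_eq_mul] at h2
  have h3 := h.2.trans (h.1.card_le (s := e.support) fun σ hσ x hx => by
    by_contra h4
    exact hx (mem_support.2 (hm σ hσ x h4)))
  rw [Nat.pow_le_pow_iff_right (by norm_num)] at h3
  have h4 := Finset.card_le_univ e.support
  rw [h1]
  congr 1
  omega

open Classical in
theorem Ext.two_pow_le (h : E ∈ Ext α) : 2 ^ (Fintype.card α / 3) ≤
    (Finset.univ.filter fun e : Perm α => e ∈ E ∧ ∀ σ ∈ E, ∀ x, σ x ≠ x → e x ≠ x).card := by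
  let M : Finset α := Finset.univ.filter fun x => ∃ σ ∈ E, σ x ≠ x
  let I : Finset (Finset α) := M.image (orb E)
  have h1 := h.2.trans (h.1.card_le (s := M) fun σ hσ x hx => by
    by_contra h4
    exact hx (Finset.mem_filter.2 ⟨Finset.mem_univ _, σ, hσ, h4⟩))
  rw [Nat.pow_le_pow_iff_right (by norm_num)] at h1
  have h2 : M.card ≤ 3 * I.card := Finset.card_le_mul_card_image M 3 fun O hO => by
    obtain ⟨x, -, rfl⟩ := Finset.mem_image.1 hO
    refine le_trans (Finset.card_le_card fun y hy => ?_) (Ext.card_orb h x)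
    rw [← (Finset.mem_filter.1 hy).2]
    exact self_mem_orb y
  have h3 : ∀ O : Finset α, ∃ g : E, O ∈ I → ∀ y, orb E y = O → (g : Perm α) y ≠ y := fun O => by
    by_cases hO : O ∈ I
    · obtain ⟨x, hx, rfl⟩ := Finset.mem_image.1 hO
      obtain ⟨σ, hσ, h4⟩ := (Finset.mem_filter.1 hx).2
      exact ⟨⟨σ, hσ⟩, fun _ y hy h5 => h4 (h.1.fix hσ h5 (by rw [hy]; exact self_mem_orb x))⟩
    · exact ⟨1, fun h4 => (hO h4).elim⟩
  choose g hg using h3
  have h4 : 2 ^ (Fintype.card α / 3) ≤ I.powerset.card := by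
    rw [Finset.card_powerset]
    exact Nat.pow_le_pow_right (by norm_num) (by omega)
  refine h4.trans (Finset.card_le_card_of_injOn (fun S => glue E fun O => if O ∈ S then g O else (g O)⁻¹) ?_ ?_)
  · intro S _
    refine Finset.mem_coe.2 (Finset.mem_filter.2 ⟨Finset.mem_univ _, Ext.glue_mem h _, fun σ hσ x hx => ?_⟩)
    have h5 := hg (orb E x) (Finset.mem_image_of_mem _ (Finset.mem_filter.2 ⟨Finset.mem_univ _, σ, hσ, hx⟩)) x rfl
    rw [glue_apply]
    split_ifs
    · exact h5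
    · intro h6
      rw [Subgroup.coe_inv, Perm.inv_eq_iff_eq] at h6
      exact h5 h6.symm
  · have h5 : ∀ S ∈ I.powerset, ∀ S' : Finset (Finset α), (glue E fun O => if O ∈ S then g O else (g O)⁻¹) =
        (glue E fun O => if O ∈ S' then g O else (g O)⁻¹) → S ⊆ S' := fun S hS S' h6 O hO => by
      by_contra h7
      have h8 := Finset.mem_powerset.1 hS hO
      obtain ⟨x, -, rfl⟩ := Finset.mem_image.1 h8
      have h9 := DFunLike.congr_fun h6 x
      rw [glue_apply, glue_apply, if_pos hO, if_neg h7, Subgroup.coe_inv, Perm.eq_inv_iff_eq] at h9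
      exact sq_ne (h.1.cube _ (g _).2) (hg _ h8 x rfl) h9
    intro S hS S' hS' h6
    exact Finset.Subset.antisymm (h5 S hS S' h6) (h5 S' hS' S h6.symm)

/-- the number of the abelian subgroups of exponent three of largest order -/
theorem ncard_Ext (α : Type*) [Fintype α] [DecidableEq α] :
    (Ext α).ncard * ((Fintype.card α % 3).factorial * 6 ^ (Fintype.card α / 3) * (Fintype.card α / 3).factorial) ≤
      (Fintype.card α).factorial := by
  classical
  set k := Fintype.card α / 3 with hk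
  have h1 := card_of_cycleType_mul_eq α (Multiset.replicate k 3)
  rw [if_pos ⟨by rw [Multiset.sum_replicate, smul_eq_mul]; omega, fun a ha => by
    rw [Multiset.eq_of_mem_replicate ha]; norm_num⟩, Multiset.prod_replicate] at h1
  have h2 : ∏ n ∈ (Multiset.replicate k 3).toFinset, ((Multiset.replicate k 3).count n).factorial = k.factorial := by
    rw [Multiset.toFinset_replicate]
    split_ifs with h0
    · rw [h0]
      rfl
    · rw [Finset.prod_singleton, Multiset.count_replicate_self]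
  rw [h2, Multiset.sum_replicate, smul_eq_mul, show Fintype.card α - k * 3 = Fintype.card α % 3 by omega] at h1
  have h3 : 2 ^ k * (Ext α).ncard ≤ (Finset.univ.filter fun g : Perm α => g.cycleType = Multiset.replicate k 3).card := by
    rw [Set.ncard_eq_toFinset_card _ (Set.toFinite _)]
    refine le_trans (Finset.mul_card_image_le_card_of_maps_to
      (s := Finset.univ.filter fun g : Perm α => g.cycleType = Multiset.replicate k 3 ∧ Zr (Subgroup.zpowers g) ∈ Ext α)
      (f := fun g => Zr (Subgroup.zpowers g)) (fun g hg => ?_) _ fun E hE => ?_) (Finset.card_le_card fun g hg => ?_)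
    · exact (Set.Finite.mem_toFinset _).2 (Finset.mem_filter.1 hg).2.2
    · have hE' : E ∈ Ext α := (Set.Finite.mem_toFinset _).1 hE
      refine (Ext.two_pow_le hE').trans (Finset.card_le_card fun e he => ?_)
      obtain ⟨-, h4, h5⟩ := Finset.mem_filter.1 he
      have h6 := Ext.eq_Zr hE' h4 h5
      exact Finset.mem_filter.2 ⟨Finset.mem_filter.2 ⟨Finset.mem_univ _, Ext.cycleType hE' h4 h5, h6.symm ▸ hE'⟩, h6⟩
    · exact Finset.mem_filter.2 ⟨Finset.mem_univ _, (Finset.mem_filter.1 hg).2.1⟩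
  rw [← h1]
  calc (Ext α).ncard * ((Fintype.card α % 3).factorial * 6 ^ k * k.factorial) =
        2 ^ k * (Ext α).ncard * ((Fintype.card α % 3).factorial * 3 ^ k * k.factorial) := by
        rw [show 6 = 2 * 3 from rfl, mul_pow]; ring
    _ ≤ _ := Nat.mul_le_mul_right _ h3

end Cfsg.Agent.TH.Sim
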