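import Cfsg.Agent.TH.Sim.Rk

/-!
# S3541, box AltBig: two conjugate groups `3 ^ ⌊c / 3⌋` which generate the alternating group (helper64)
-/

set_option autoImplicit false
set_option linter.unusedSectionVars false

namespace Cfsg.Agent.TH.Sim

open Equiv Equiv.Perm MulAction Alt

theorem E3.le_alt {α : Type*} [Fintype α] [DecidableEq α] {E : Subgroup (Perm α)} (h : E3 E) :
    E ≤ alternatingGroup α := fun σ hσ => by
  have h1 := congrArg sign (h.cube σ hσ)
  rw [map_pow, map_one, pow_succ, Int.units_sq, one_mul] at h1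
  exact h1

theorem adj_ind {c : ℕ} (P : Fin c → Prop) (h : ∀ x y : Fin c, x.val + 1 = y.val → (P x ↔ P y)) (x y : Fin c) :
    P x ↔ P y := by
  have h0 : 0 < c := x.pos
  have h1 : ∀ n (hn : n < c), P ⟨0, h0⟩ ↔ P ⟨n, hn⟩ := fun n => by
    induction n with
    | zero => exact fun _ => Iff.rfl
    | succ n ih => exact fun hn => (ih (by omega)).trans (h _ _ rfl)
  exact (h1 x.1 x.2).symm.trans (h1 y.1 y.2)

/-- consecutive points are moved by a common three-cycle -/
theorem alt_le_of_adj {c : ℕ} (hc : 2 ≤ c) {K : Subgroup (Perm (Fin c))}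
    (h : ∀ x y : Fin c, x.val + 1 = y.val → ∃ τ ∈ K, τ.IsThreeCycle ∧ τ x ≠ x ∧ τ y ≠ y) :
    alternatingGroup (Fin c) ≤ K := by
  have h1 : IsPretransitive K (Fin c) := ⟨fun a b => by
    refine (adj_ind (fun y => ∃ g : K, g • a = y) (fun x y hxy => ?_) a b).1 ⟨1, rfl⟩
    obtain ⟨τ, h2, h3, h4, h5⟩ := h x y hxy
    constructor
    · rintro ⟨g, hg⟩
      obtain ⟨i, hi⟩ := h3.isCycle.exists_pow_eq h4 h5
      exact ⟨⟨τ ^ i, pow_mem h2 i⟩ * g, by rw [mul_smul, hg]; exact hi⟩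
    · rintro ⟨g, hg⟩
      obtain ⟨i, hi⟩ := h3.isCycle.exists_pow_eq h5 h4
      exact ⟨⟨τ ^ i, pow_mem h2 i⟩ * g, by rw [mul_smul, hg]; exact hi⟩⟩
  have h2 : IsPreprimitive K (Fin c) := ⟨fun {B} hB => by
    by_cases h3 : B.Subsingleton
    · exact Or.inl h3
    obtain ⟨a, ha, b, hb, hab⟩ := Set.not_subsingleton_iff.1 h3
    have h4 : ∀ τ ∈ K, τ.IsThreeCycle → ∀ u v, τ u ≠ u → τ v ≠ v → u ∈ B → v ∈ B := fun τ hτ h5 u v hu hv h6 => by
      by_contra h7
      obtain ⟨i, hi⟩ := h5.isCycle.exists_pow_eq hu hv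
      have h8 : ∀ z ∈ B, (τ ^ i) z ∉ B := fun z hz h9 => by
        have h10 := hB.smul_eq_of_mem (g := ⟨τ ^ i, pow_mem hτ i⟩) hz h9
        refine h7 (h10 ▸ ⟨u, h6, hi⟩)
      have h9 : ∀ z ∈ B, z ∈ (τ ^ i).support := fun z hz => mem_support.2 fun h10 => h8 z hz (h10.symm ▸ hz)
      have h10 : ({a, b, (τ ^ i) a, (τ ^ i) b} : Finset (Fin c)) ⊆ τ.support := by
        refine Finset.Subset.trans (fun z hz => ?_) (support_pow_le τ i)
        simp only [Finset.mem_insert, Finset.mem_singleton] at hz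
        rcases hz with rfl | rfl | rfl | rfl
        · exact h9 _ ha
        · exact h9 _ hb
        · exact apply_mem_support.2 (h9 _ ha)
        · exact apply_mem_support.2 (h9 _ hb)
      have h11 := Finset.card_le_card h10
      have e1 : a ≠ (τ ^ i) a := fun e => h8 a ha (e ▸ ha)
      have e2 : a ≠ (τ ^ i) b := fun e => h8 b hb (e ▸ ha)
      have e3 : b ≠ (τ ^ i) a := fun e => h8 a ha (e ▸ hb)
      have e4 : b ≠ (τ ^ i) b := fun e => h8 b hb (e ▸ hb)
      have e5 : (τ ^ i) a ≠ (τ ^ i) b := fun e => hab ((τ ^ i).injective e)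
      rw [h5.card_support, Finset.card_insert_of_notMem (by simp [hab, e1, e2]),
        Finset.card_insert_of_notMem (by simp [e3, e4]), Finset.card_pair e5] at h11
      omega
    refine Or.inr (Set.eq_univ_of_forall fun z => (adj_ind (· ∈ B) (fun x y hxy => ?_) a z).1 ha)
    obtain ⟨τ, h5, h6, h7, h8⟩ := h x y hxy
    exact ⟨h4 τ h5 h6 x y h7 h8, h4 τ h5 h6 y x h8 h7⟩⟩
  obtain ⟨τ, h3, h4, -⟩ := h ⟨0, by omega⟩ ⟨1, by omega⟩ rfl
  exact alternatingGroup_le_of_isPreprimitive_of_isThreeCycle_mem h2 h4 h3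

/-- rotation of the block `3 j, 3 j + 1, 3 j + 2` by `a j` -/
def rotF (c : ℕ) (a : ℕ → ℕ) (x : Fin c) : Fin c :=
  ⟨if x.val < 3 * (c / 3) then 3 * (x.val / 3) + (x.val + a (x.val / 3)) % 3 else x.val, by
    have := x.2
    split_ifs <;> omega⟩

theorem rotF_val (c : ℕ) (a : ℕ → ℕ) (x : Fin c) :
    (rotF c a x).val = if x.val < 3 * (c / 3) then 3 * (x.val / 3) + (x.val + a (x.val / 3)) % 3 else x.val := rfl

theorem rotF_rotF (c : ℕ) (a b : ℕ → ℕ) (x : Fin c) : rotF c a (rotF c b x) = rotF c (fun j => a j + b j) x := by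
  have h1 : (rotF c b x).val / 3 = x.val / 3 := by
    rw [rotF_val]
    split_ifs <;> omega
  ext
  rw [rotF_val c a, h1, rotF_val, rotF_val]
  split_ifs <;> omega

theorem rotF_eq (c : ℕ) {a : ℕ → ℕ} (h : ∀ j, a j % 3 = 0) (x : Fin c) : rotF c a x = x := by
  ext
  have := h (x.val / 3)
  rw [rotF_val]
  split_ifs <;> omega

/-- the permutation -/
def rot (c : ℕ) (a : ℕ → ℕ) : Perm (Fin c) where
  toFun := rotF c a
  invFun := rotF c fun j => 2 * a j
  left_inv x := by rw [rotF_rotF]; exact rotF_eq c (fun j => by omega) x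
  right_inv x := by rw [rotF_rotF]; exact rotF_eq c (fun j => by omega) x

theorem rot_val (c : ℕ) (a : ℕ → ℕ) (x : Fin c) :
    (rot c a x).val = if x.val < 3 * (c / 3) then 3 * (x.val / 3) + (x.val + a (x.val / 3)) % 3 else x.val := rfl

theorem rot_mul (c : ℕ) (a b : ℕ → ℕ) : rot c a * rot c b = rot c fun j => a j + b j := Equiv.ext (rotF_rotF c a b)

theorem rot_eq (c : ℕ) {a : ℕ → ℕ} (h : ∀ j, a j % 3 = 0) : rot c a = 1 := Equiv.ext (rotF_eq c h)

/-- the group of the rotations -/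
def Rot (c : ℕ) : Subgroup (Perm (Fin c)) where
  carrier := {σ | ∃ a, σ = rot c a}
  mul_mem' := by
    rintro _ _ ⟨a, rfl⟩ ⟨b, rfl⟩
    exact ⟨_, rot_mul c a b⟩
  one_mem' := ⟨fun _ => 0, (rot_eq c fun _ => rfl).symm⟩
  inv_mem' := by
    rintro _ ⟨a, rfl⟩
    exact ⟨fun j => 2 * a j, inv_eq_of_mul_eq_one_left (by rw [rot_mul]; exact rot_eq c fun j => by omega)⟩

theorem Rot_mem (c : ℕ) : Rot c ∈ Ext (Fin c) := by
  refine ⟨⟨?_, ?_⟩, ?_⟩
  · rintro _ ⟨a, rfl⟩ _ ⟨b, rfl⟩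
    rw [rot_mul, rot_mul]
    simp only [add_comm]
  · rintro _ ⟨a, rfl⟩
    rw [pow_succ, pow_two, rot_mul, rot_mul]
    exact rot_eq c fun j => by omega
  · have h1 : Nat.card (Fin (c / 3) → Fin 3) = 3 ^ (c / 3) := by simp
    rw [Fintype.card_fin, ← h1]
    refine Nat.card_le_card_of_injective
      (fun a => (⟨rot c fun j => if h : j < c / 3 then (a ⟨j, h⟩).val else 0, _, rfl⟩ : Rot c)) fun a b hab => ?_
    funext j
    have hj := j.2
    have h2 := congrArg (fun σ : Rot c => ((σ : Perm (Fin c)) ⟨3 * j.val, by omega⟩).val) hab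
    simp only [rot_val] at h2
    have h3 : 3 * j.val / 3 = j.val := by omega
    rw [h3, if_pos (by omega), if_pos (by omega), dif_pos hj, dif_pos hj] at h2
    have h4 := (a j).2
    have h5 := (b j).2
    exact Fin.ext (by simp only [Fin.eta] at h2; omega)

theorem rot_ne {c i : ℕ} (hi : i < c / 3) (x : Fin c) : rot c (fun j => if j = i then 1 else 0) x ≠ x ↔ x.val / 3 = i := by
  rw [Ne, Fin.ext_iff, rot_val]
  split_ifs <;> omega

theorem rot_three {c i : ℕ} (hi : i < c / 3) : (rot c fun j => if j = i then 1 else 0).IsThreeCycle := by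
  rw [← card_support_eq_three_iff, Finset.card_eq_three]
  refine ⟨⟨3 * i, by omega⟩, ⟨3 * i + 1, by omega⟩, ⟨3 * i + 2, by omega⟩, by simp, by simp, by simp, ?_⟩
  ext x
  rw [mem_support, rot_ne hi]
  simp only [Finset.mem_insert, Finset.mem_singleton, Fin.ext_iff]
  omega

theorem exists_shift {c : ℕ} (hc : 1 ≤ c) :
    ∃ σ ∈ alternatingGroup (Fin c), ∀ x : Fin c, x.val + 2 < c → (σ x).val = x.val + 2 := by
  obtain ⟨n, rfl⟩ : ∃ n, c = n + 1 := ⟨c - 1, by omega⟩
  refine ⟨finRotate (n + 1) * finRotate (n + 1), by rw [mem_alternatingGroup, map_mul, Int.units_mul_self], fun x hx => ?_⟩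
  have h1 : (finRotate (n + 1) x).val = x.val + 1 := coe_finRotate_of_ne_last fun h => by
    rw [h, Fin.val_last] at hx
    omega
  rw [mul_apply, coe_finRotate_of_ne_last fun h => by
    rw [h, Fin.val_last] at h1
    omega, h1]

/-- two conjugate groups which generate the alternating group -/
theorem exists_pair {c : ℕ} (hc : 3 ≤ c) : ∃ Y ∈ Ext (Fin c), ∃ σ ∈ alternatingGroup (Fin c),
    ∀ K : Subgroup (Perm (Fin c)), Y ≤ K → cj σ Y ≤ K → alternatingGroup (Fin c) ≤ K := by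
  obtain ⟨σ, h1, h2⟩ := exists_shift (c := c) (by omega)
  refine ⟨Rot c, Rot_mem c, σ, h1, fun K h3 h4 => alt_le_of_adj (by omega) fun x y hxy => ?_⟩
  have hy := y.2
  by_cases h5 : x.val % 3 ≠ 2 ∧ y.val < 3 * (c / 3)
  · have h6 : x.val / 3 < c / 3 := by omega
    exact ⟨_, h3 ⟨_, rfl⟩, rot_three h6, (rot_ne h6 x).2 rfl, (rot_ne h6 y).2 (by omega)⟩
  · have h6 : (x.val - 2) / 3 < c / 3 := by omega
    have h7 : ∀ z : Fin c, 2 ≤ z.val → (z.val - 2) / 3 = (x.val - 2) / 3 →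
        (σ * (rot c fun j => if j = (x.val - 2) / 3 then 1 else 0) * σ⁻¹) z ≠ z := fun z h8 h9 h10 => by
      have hz := z.2
      have h11 : σ ⟨z.val - 2, by omega⟩ = z := Fin.ext (by rw [h2 _ (by show z.val - 2 + 2 < c; omega)]; show z.val - 2 + 2 = _; omega)
      rw [← h11, mul_apply, mul_apply, inv_ap, σ.injective.eq_iff] at h10
      exact (rot_ne h6 _).2 h9 h10
    exact ⟨_, h4 (conj_mem_cj σ ⟨_, rfl⟩), card_support_eq_three_iff.1 (by
      rw [card_support_conj]; exact (rot_three h6).card_support), h7 x (by omega) rfl, h7 y (by omega) (by omega)⟩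

end Cfsg.Agent.TH.Sim
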