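import Cfsg.Agent.TH.Sim.SporNum

/-!
# S3541, box `BoxSimSpor` (helper67): the checker

`main D = true` excludes every numerical configuration for the group with the data `D` (`no_cfg`).
-/

set_option autoImplicit false

namespace Cfsg.Agent.TH.Sim.SpR

open Cfsg.Agent.TH.Sv Cfsg.Agent.H940.Eng Cfsg.Agent.OrdDiv

/-- the data of the group `N` -/
structure Dat where
  l : List (ℕ × ℕ)
  n : ℕ
  ords : List ℕ
  loc : List LD
  /-- indices excluded by a separate argument -/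
  allow : List ℕ
  /-- the possible indices of `N` in `H ⊓ T` -/
  ks : List ℕ
  /-- `(r, m, z)` : the degree is at least `m` unless `p = r` or `r` divides the degree and `z` -/
  degs : List (ℕ × ℕ × ℕ)
  jk : ℕ

/-- remove the primes of `S` -/
def strip (S : List ℕ) (b : ℕ) : ℕ := S.foldr (fun s x => x / s ^ val s 64 x) b

/-- primes which divide the degree of the action -/
def SS (l : List (ℕ × ℕ)) (j a : ℕ) : List ℕ := (l.map Prod.fst).filter fun s => 2 * a % s ^ lbW s j != 0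

/-- the bound for the least index -/
def bnd (S : List ℕ) (a : ℕ) : ℕ :=
  S.foldr (fun s b => min (strip [s] a * min (strip [s] a) (strip S a)) b) (a * a)

/-- no proper subgroup has index dividing `g` -/
def kill (D : Dat) (g : ℕ) : Bool :=
  D.n / g * prodl (D.l.map fun x => (x.1, val x.1 x.2 g)) == D.n &&
    check D.l D.n (D.l.map fun x => (x.1, val x.1 x.2 g)) D.allow [] 60 D.loc D.ords

/-- the linear space is too small -/
def linT (D : Dat) (a o y : ℕ) : Bool :=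
  D.n % o == 0 && (D.l.all fun x => Nat.gcd (a * o) y % x.1 ^ 2 != 0) &&
    Nat.blt (Nat.gcd (a * o) y * (a * o) ^ D.l.length) y

def test (D : Dat) (a t n q B o : ℕ) : Bool :=
  !validCl t n q || Nat.blt B (lminCl t n q) || ordCl t n q % a != 0 || kill D (Nat.gcd D.n (ordCl t n q / a - 1)) ||
    linT D a o (ordCl t n q / a - 1)

def degOK (degs : List (ℕ × ℕ × ℕ)) (p n : ℕ) : Bool :=
  degs.all fun x => x.1 == p || Nat.ble x.2.1 n || (n % x.1 == 0 && x.2.2 % x.1 == 0)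

def loopF (D : Dat) (a t n p B F : ℕ) : Bool :=
  Nat.ble 6 (p ^ F) && Nat.blt B ((p ^ F) ^ (n - 2)) &&
    (List.range F).all fun f => f == 0 || test D a t n (p ^ f) B (outCl t n p f)

def loopP (D : Dat) (a t n p B : ℕ) : Bool := loopF D a t n p B (Nat.log2 B / ((n - 2) * Nat.log2 p) + 3)

def rootAux (B k : ℕ) : ℕ → ℕ → ℕ
  | 0, x => x
  | i + 1, x => if (x + 2 ^ i) ^ k ≤ B then rootAux B k i (x + 2 ^ i) else rootAux B k i x

theorem rootAux_realised : True := by have := @rootAux.eq_def; trivial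

def loopR (D : Dat) (a t n B Q : ℕ) : Bool :=
  Nat.ble 6 Q && Nat.blt B (Q ^ (n - 2)) &&
    (List.range Q).all fun q => Nat.ble q 1 || Nat.gcd q D.n != 1 || test D a t n q B 0

def loopQ (D : Dat) (a t n B : ℕ) : Bool :=
  loopR D a t n B (max 6 (rootAux B (n - 2) (Nat.log2 B / (n - 2) + 1) 0 + 1))

def row (D : Dat) (a t n : ℕ) : Bool :=
  !validCl t n 7 || Nat.ble D.jk (jj t n) ||
    ((D.l.all fun x => !degOK D.degs x.1 n || loopP D a t n x.1 (bnd (x.1 :: SS D.l (jj t n) a) a)) &&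
      (!degOK D.degs 1 n || (!(SS D.l (jj t n) a).isEmpty && loopQ D a t n (bnd (SS D.l (jj t n) a) a))))

def main (D : Dat) : Bool :=
  (D.l.all fun x => D.n % x.1 == 0) && (D.degs.all fun x => D.n % x.1 == 0) && D.ks.all fun k => D.n % k == 0 &&
    kill D (strip (SS D.l D.jk (k * D.n)) D.n) && (List.range 6).all fun t => (List.range (2 * D.jk + 2)).all fun n => row D (k * D.n) t n

/-! ### soundness -/

theorem strip_dvd (S : List ℕ) (b : ℕ) : strip S b ∣ b := by
  induction S with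
  | nil => exact dvd_rfl
  | cons s S ih => exact (Nat.div_dvd_of_dvd (val_dvd s 64 _)).trans ih

theorem dvd_strip {S : List ℕ} {g b : ℕ} (h : ∀ s ∈ S, s.Prime ∧ ¬ s ∣ g) (hg : g ∣ b) : g ∣ strip S b := by
  induction S with
  | nil => exact hg
  | cons s S ih =>
    have h1 := ih fun s hs => h s (List.mem_cons_of_mem _ hs)
    obtain ⟨hs, h2⟩ := h s List.mem_cons_self
    change g ∣ strip S b / s ^ val s 64 (strip S b)
    refine Nat.dvd_div_of_mul_dvd (Nat.Coprime.mul_dvd_of_dvd_of_dvd (Nat.Coprime.pow_left _ ?_) (val_dvd s 64 _) h1)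
    exact (Nat.Prime.coprime_iff_not_dvd hs).2 h2

theorem le_strip {S : List ℕ} {g b : ℕ} (hb : 0 < b) (h : ∀ s ∈ S, s.Prime ∧ ¬ s ∣ g) (hg : g ∣ b) : g ≤ strip S b :=
  Nat.le_of_dvd (Nat.pos_of_dvd_of_pos (strip_dvd S b) hb) (dvd_strip h hg)

theorem le_foldr {c z : ℕ} {f : ℕ → ℕ} {S : List ℕ} (h0 : c ≤ z) (h : ∀ s ∈ S, c ≤ f s) :
    c ≤ S.foldr (fun s b => min (f s) b) z := by
  induction S with
  | nil => exact h0
  | cons s S ih => exact le_min (h s List.mem_cons_self) (ih fun s hs => h s (List.mem_cons_of_mem _ hs))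

theorem le_bnd {N a o d c : ℕ} (hN : Nec N a o d c c fun _ => c) (ha : 0 < a) {S : List ℕ} (h0 : S ≠ [])
    (h : ∀ s ∈ S, s.Prime ∧ s ∣ a ∧ ¬ s ∣ d) : c ≤ bnd S a := by
  obtain ⟨ν, h1, h2⟩ := hN.sylA
  have h3 : ∀ s ∈ S, c ≤ strip [s] a * min (strip [s] a) (strip S a) := fun s hs => by
    obtain ⟨p1, p2, p3⟩ := h s hs
    have h4 : ν s ≤ strip [s] a := by
      refine le_strip ha (fun u hu => ?_) ((h1 s p1).1.trans (Nat.ordCompl_dvd a s))
      rw [List.mem_singleton.1 hu]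
      refine ⟨p1, fun h5 => ?_⟩
      have h6 := (h1 s p1).2
      rw [Nat.mod_eq_zero_of_dvd h5] at h6
      exact absurd h6 (by norm_num)
    have h5 : Nat.gcd a d ≤ strip S a :=
      le_strip ha (fun u hu => ⟨(h u hu).1, fun h6 => (h u hu).2.2 (h6.trans (Nat.gcd_dvd_right _ _))⟩) (Nat.gcd_dvd_left _ _)
    exact (h2 s p1 p2 p3).trans (Nat.mul_le_mul h4 (min_le_min h4 h5))
  refine le_foldr ?_ h3
  obtain ⟨s, hs⟩ := List.exists_mem_of_ne_nil S h0
  have h4 : strip [s] a ≤ a := Nat.le_of_dvd ha (strip_dvd _ _)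
  exact (h3 s hs).trans (Nat.mul_le_mul h4 ((min_le_left _ _).trans h4))

theorem gb_zero (s : ℕ) : ∀ b a : ℕ, b < a → gb s b a = 0 := by
  intro b
  induction b with
  | zero =>
    intro a ha
    obtain ⟨a, rfl⟩ : ∃ k, a = k + 1 := ⟨a - 1, by omega⟩
    rfl
  | succ b ih =>
    intro a ha
    obtain ⟨a, rfl⟩ : ∃ k, a = k + 1 := ⟨a - 1, by omega⟩
    rw [show gb s (b + 1) (a + 1) = gb s b a + s ^ (a + 1) * gb s b (a + 1) from rfl, ih a (by omega),
      ih (a + 1) (by omega), mul_zero, add_zero]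

theorem gb_self (s : ℕ) : ∀ b : ℕ, gb s b b = 1 := by
  intro b
  induction b with
  | zero => rfl
  | succ b ih =>
    rw [show gb s (b + 1) (b + 1) = gb s b b + s ^ (b + 1) * gb s b (b + 1) from rfl, ih, gb_zero s b _ (by omega),
      mul_zero, add_zero]

theorem gb_succ {s : ℕ} (hs : 2 ≤ s) : ∀ b : ℕ, gb s (b + 1) b ≤ s ^ (b + 1) := by
  intro b
  induction b with
  | zero => exact Nat.one_le_pow _ _ (by omega)
  | succ b ih =>
    rw [show gb s (b + 1 + 1) (b + 1) = gb s (b + 1) b + s ^ (b + 1) * gb s (b + 1) (b + 1) from rfl, gb_self, mul_one,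
      pow_succ s (b + 1)]
    have h1 := Nat.mul_le_mul_left (s ^ (b + 1)) hs
    omega

theorem mem_of_dvd {l : List (ℕ × ℕ)} (hp : ∀ x ∈ l, (x.1).Prime) {s : ℕ} (hs : s.Prime) (h : s ∣ prodl l) :
    ∃ x ∈ l, x.1 = s := by
  unfold prodl at h
  obtain ⟨y, hy, h1⟩ := (Prime.dvd_prod_iff hs.prime).1 h
  obtain ⟨x, hx, rfl⟩ := List.mem_map.1 hy
  exact ⟨x, hx, ((Nat.prime_dvd_prime_iff_eq hs (hp x hx)).1 (hs.dvd_of_dvd_pow h1)).symm⟩

theorem lin_false {D : Dat} (hv : valid D.l D.n = true) {N a o o' d c k s : ℕ} (hN : Nec N a o d c c fun _ => c)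
    (ha : a = k * D.n) (hk : k ∣ D.n) (ho : o ∣ o') (hs : s.Prime) (hsa : s ∣ a) (hsd : ¬ s ∣ d) :
    linT D a o' (N / a - 1) = false := by
  by_contra hc
  rw [Bool.not_eq_false] at hc
  unfold linT at hc
  simp only [Bool.and_eq_true, beq_iff_eq, List.all_eq_true, bne_iff_ne, Nat.blt_eq] at hc
  obtain ⟨⟨c1, c2⟩, c3⟩ := hc
  have hp := valid_prime hv
  have hn : 0 < D.n := by rw [← valid_prod hv]; exact prodl_pos hp
  have o1 : o' ∣ D.n := Nat.dvd_of_mod_eq_zero c1
  have o2 : 0 < o' := Nat.pos_of_dvd_of_pos o1 hn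
  have o3 : 0 < o := Nat.pos_of_dvd_of_pos ho o2
  have a0 : 0 < a := ha ▸ Nat.mul_pos (Nat.pos_of_dvd_of_pos hk hn) hn
  have h0 : 0 < a * o := Nat.mul_pos a0 o3
  have h1 : a * o ∣ a * o' := Nat.mul_dvd_mul_left _ ho
  have h2 : a * o ≤ a * o' := Nat.le_of_dvd (Nat.mul_pos a0 o2) h1
  have d1 : d ∣ Nat.gcd (a * o') (N / a - 1) := Nat.dvd_gcd (hN.d_dvd.trans h1) hN.d_dvd'
  have d2 : d ≤ Nat.gcd (a * o') (N / a - 1) := Nat.le_of_dvd (Nat.gcd_pos_of_pos_left _ (Nat.mul_pos a0 o2)) d1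
  have d0 : d ≠ 0 := by have := hN.two_le; omega
  have m0 : a * o / d ≠ 0 := by have := hN.m_le; omega
  have hmem : ∀ t ∈ (a * o / d).primeFactors, ∃ x ∈ D.l, x.1 = t := fun t ht => by
    have t1 := Nat.prime_of_mem_primeFactors ht
    have t2 : t ∣ D.n ^ 3 := by
      refine ((Nat.dvd_of_mem_primeFactors ht).trans (Nat.div_dvd_of_dvd hN.d_dvd)).trans (h1.trans ?_)
      rw [ha, pow_succ, pow_two]
      exact mul_dvd_mul (Nat.mul_dvd_mul_right hk _) o1
    exact mem_of_dvd hp t1 (by rw [valid_prod hv]; exact t1.dvd_of_dvd_pow t2)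
  obtain ⟨ν, r, l1, l2, l3, -⟩ := hN.lin
  have l4 := (l2 s hs (hsa.mul_right o) hsd).2.1
  have l5 : ∀ t ∈ (a * o / d).primeFactors,
      gb t ((a * o).factorization t) ((a * o / d).factorization t) * ν t ≤ a * o' := fun t ht => by
    have t1 := Nat.prime_of_mem_primeFactors ht
    obtain ⟨x, hx, rfl⟩ := hmem t ht
    have t2 : d.factorization x.1 ≤ 1 := by
      by_contra t3
      exact c2 x hx (Nat.mod_eq_zero_of_dvd (((t1.pow_dvd_iff_le_factorization d0).2 (by omega)).trans d1))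
    have t3 : (a * o).factorization x.1 = (a * o / d).factorization x.1 + d.factorization x.1 := by
      conv_lhs => rw [← Nat.div_mul_cancel hN.d_dvd]
      rw [Nat.factorization_mul m0 d0, Finsupp.add_apply]
    have t4 : gb x.1 ((a * o).factorization x.1) ((a * o / d).factorization x.1) ≤ x.1 ^ (a * o).factorization x.1 := by
      rcases (show d.factorization x.1 = 0 ∨ d.factorization x.1 = 1 by omega) with t5 | t5
      · rw [t3, t5, add_zero, gb_self]
        exact Nat.one_le_pow _ _ t1.pos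
      · rw [t3, t5]
        exact gb_succ t1.two_le _
    have t5 : ν x.1 ≤ a * o / x.1 ^ (a * o).factorization x.1 :=
      Nat.le_of_dvd (Nat.ordCompl_pos _ h0.ne') (l1 _ t1).1
    exact ((Nat.mul_le_mul t4 t5).trans (Nat.mul_div_le _ _)).trans h2
  have l6 : (a * o / d).primeFactors.card ≤ D.l.length := by
    have : (a * o / d).primeFactors ⊆ (D.l.map Prod.fst).toFinset := fun t ht => by
      obtain ⟨x, hx, rfl⟩ := hmem t ht
      exact List.mem_toFinset.2 (List.mem_map_of_mem hx)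
    refine (Finset.card_le_card this).trans ((List.toFinset_card_le _).trans ?_)
    rw [List.length_map]
  have l7 : r ≤ (a * o') ^ D.l.length :=
    (l3.trans (Finset.prod_le_pow_card _ _ _ l5)).trans (Nat.pow_le_pow_right (Nat.mul_pos a0 o2) l6)
  exact absurd (l4.trans (Nat.mul_le_mul d2 ((Nat.sub_le _ _).trans l7))) (not_le.2 c3)

section

variable {X : Type} [Group X] {D : Dat} (c : Ctx X D.l D.n D.ords D.loc) (hal : ∀ U : Subgroup X, U.index ∉ D.allow)
include c hal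

theorem kill_false {U : Subgroup X} (hU : U ≠ ⊤) {g : ℕ} (h1 : U.index ∣ g) (h2 : g ∣ D.n) : kill D g = false := by
  by_contra hc
  rw [Bool.not_eq_false] at hc
  unfold kill at hc
  rw [Bool.and_eq_true, beq_iff_eq] at hc
  have := c.fin
  have := c.simple
  have hp := valid_prime c.val
  have h3 : D.n / g ∣ Nat.card U := by
    obtain ⟨k, hk⟩ := h1
    have h4 := U.card_mul_index
    rw [c.card] at h4
    have h5 : U.index * Nat.card U = U.index * (D.n / g * k) := by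
      rw [mul_comm, h4, mul_left_comm, ← hk, Nat.div_mul_cancel h2]
    exact ⟨k, Nat.eq_of_mul_eq_mul_left (Nat.pos_of_ne_zero Subgroup.index_ne_zero_of_finite) h5⟩
  refine (top_of_check c.val c.card c.ords c.loc (fun x hx => ?_) hc.1 (fun p hp => absurd hp List.not_mem_nil) h3
    hc.2).elim hU (hal U)
  obtain ⟨y, hy, rfl⟩ := List.mem_map.1 hx
  exact hp y hy

theorem test_false {U : Subgroup X} (hU : U ≠ ⊤) {t n q a o o' d k s B : ℕ} (hv : validCl t n q = true)
    (hN : Nec (ordCl t n q) a o d (lminCl t n q) (lminCl t n q) fun _ => lminCl t n q) (hd : U.index ∣ d)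
    (ha : a = k * D.n) (hk : k ∣ D.n) (ho : o ∣ o') (hs : s.Prime) (hsa : s ∣ a) (hsd : ¬ s ∣ d)
    (hB : lminCl t n q ≤ B) : test D a t n q B o' = false := by
  unfold test
  rw [lin_false c.val hN ha hk ho hs hsa hsd, kill_false c hal hU (Nat.dvd_gcd (c.card ▸ U.index_dvd_card)
    (hd.trans hN.d_dvd')) (Nat.gcd_dvd_left _ _), hv, Nat.mod_eq_zero_of_dvd hN.a_dvd]
  simp only [Bool.not_true, Bool.false_or, bne_self_eq_false, Bool.or_false]
  rw [← Bool.not_eq_true, Nat.blt_eq]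
  exact not_lt.2 hB

/-- **the checker** -/
theorem no_cfg (hm : main D = true) {U : Subgroup X} (hU : U ≠ ⊤) {t n p f a o d k : ℕ} (hp : p.Prime) (hf : 0 < f)
    (hv : validCl t n (p ^ f) = true)
    (hN : Nec (ordCl t n (p ^ f)) a o d (lminCl t n (p ^ f)) (lminCl t n (p ^ f)) fun _ => lminCl t n (p ^ f))
    (hd : U.index ∣ d) (hk : k ∈ D.ks) (ha : a = k * D.n) (ho : o ∣ outCl t n p f) (hpd : p ∣ ordCl t n (p ^ f) / a)
    (hdeg : degOK D.degs p n = true) : False := by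
  unfold main at hm
  simp only [Bool.and_eq_true, List.all_eq_true, beq_iff_eq, List.mem_range] at hm
  obtain ⟨⟨ml, m0⟩, hm⟩ := hm
  obtain ⟨⟨m1, m2⟩, m3⟩ := hm k hk
  rw [← ha] at m2 m3
  have hkn : k ∣ D.n := Nat.dvd_of_mod_eq_zero m1
  have hl := valid_prime c.val
  have hn : 0 < D.n := by rw [← valid_prod c.val]; exact prodl_pos hl
  have a0 : 0 < a := ha ▸ Nat.mul_pos (Nat.pos_of_dvd_of_pos hkn hn) hn
  have hnd : ∀ s, s.Prime → s ∣ ordCl t n (p ^ f) / a → ¬ s ∣ d := fun s hs h1 h2 => by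
    have h3 : 1 ≤ ordCl t n (p ^ f) / a := by have := hN.two_mul; have := hN.two_le; omega
    have h4 := Nat.dvd_sub h1 (h2.trans hN.d_dvd')
    rw [Nat.sub_sub_self h3] at h4
    exact hs.one_lt.ne' (Nat.dvd_one.1 h4)
  have hla : ∀ x ∈ D.l, x.1 ∣ a := fun x hx => ha ▸ (Nat.dvd_of_mod_eq_zero (ml x hx)).mul_left k
  have hS : ∀ j ≤ jj t n, ∀ s ∈ SS D.l j a, s.Prime ∧ s ∣ a ∧ ¬ s ∣ d := fun j hj s hs => by
    obtain ⟨h1, h2⟩ := List.mem_filter.1 hs
    obtain ⟨x, hx, rfl⟩ := List.mem_map.1 h1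
    have h3 := hl x hx
    refine ⟨h3, hla x hx, hnd _ h3 ?_⟩
    by_contra h4
    have h5 : ¬ x.1 ∣ p ^ f := fun h6 =>
      h4 (((Nat.prime_dvd_prime_iff_eq h3 hp).1 (h3.dvd_of_dvd_pow h6)) ▸ hpd)
    have h6 := ((pow_lbW_dvd h3 h5 j).trans (WW_mono _ hj)).trans (WW_dvd hv)
    rw [← Nat.mul_div_cancel' hN.a_dvd, ← mul_assoc] at h6
    exact bne_iff_ne.1 h2 (Nat.mod_eq_zero_of_dvd
      ((Nat.Coprime.pow_left _ ((Nat.Prime.coprime_iff_not_dvd h3).2 h4)).dvd_of_dvd_mul_right h6))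
  by_cases hj : D.jk ≤ jj t n
  · have h1 := kill_false c hal hU (dvd_strip (fun s hs => ⟨(hS _ hj s hs).1, fun h => (hS _ hj s hs).2.2 (h.trans hd)⟩)
      (c.card ▸ U.index_dvd_card)) (strip_dvd _ _)
    rw [m2] at h1
    exact absurd h1 (by decide)
  obtain ⟨v1, v2, v3⟩ := valid_three hv
  have h1 := m3 t v2 n (by unfold jj at hj; split_ifs at hj <;> omega)
  unfold row at h1
  rw [v3, show Nat.ble D.jk (jj t n) = false by rw [← Bool.not_eq_true, Nat.ble_eq]; exact hj] at h1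
  simp only [Bool.not_true, Bool.false_or, Bool.and_eq_true, List.all_eq_true, Bool.or_eq_true, Bool.not_eq_true'] at h1
  obtain ⟨r1, r2⟩ := h1
  by_cases hpn : p ∣ D.n
  · obtain ⟨x, hx, rfl⟩ := mem_of_dvd hl hp (by rwa [valid_prod c.val])
    have h2 := (r1 x hx).resolve_left (by rw [hdeg]; decide)
    have h3 := le_bnd hN a0 (List.cons_ne_nil x.1 (SS D.l (jj t n) a)) (fun s hs => by
      rcases List.mem_cons.1 hs with rfl | hs
      · exact ⟨hp, hla x hx, hnd _ hp hpd⟩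
      · exact hS _ le_rfl s hs)
    unfold loopP loopF at h2
    generalize bnd (x.1 :: SS D.l (jj t n) a) a = B at h2 h3
    generalize Nat.log2 B / ((n - 2) * Nat.log2 x.1) + 3 = F at h2
    simp only [Bool.and_eq_true, List.all_eq_true, Nat.ble_eq, Nat.blt_eq, List.mem_range, Bool.or_eq_true,
      beq_iff_eq] at h2
    obtain ⟨⟨f1, f2⟩, f3⟩ := h2
    by_cases hF : f < F
    · have h4 := (f3 f hF).resolve_left hf.ne'
      rw [test_false c hal hU hv hN hd ha hkn ho hp (hla x hx) (hnd _ hp hpd) h3] at h4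
      exact absurd h4 (by decide)
    · have h4 : x.1 ^ F ≤ x.1 ^ f := Nat.pow_le_pow_right hp.pos (not_lt.1 hF)
      exact absurd (((Nat.pow_le_pow_left h4 _).trans (pow_le_lmin hv (f1.trans h4))).trans h3) (not_le.2 f2)
  · have h2 : degOK D.degs 1 n = true := by
      unfold degOK at hdeg ⊢
      simp only [List.all_eq_true, Bool.or_eq_true, beq_iff_eq] at hdeg ⊢
      intro x hx
      rcases hdeg x hx with (h | h) | h
      · exact absurd (h ▸ Nat.dvd_of_mod_eq_zero (m0 x hx)) hpn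
      · exact Or.inl (Or.inr h)
      · exact Or.inr h
    obtain ⟨r3, r4⟩ := r2.resolve_left (by rw [h2]; decide)
    have h5 : SS D.l (jj t n) a ≠ [] := fun h => by rw [h] at r3; exact absurd r3 (by decide)
    have h3 := le_bnd hN a0 h5 (hS _ le_rfl)
    obtain ⟨s, hs⟩ := List.exists_mem_of_ne_nil _ h5
    obtain ⟨s1, s2, s3⟩ := hS _ le_rfl s hs
    unfold loopQ loopR at r4
    generalize bnd (SS D.l (jj t n) a) a = B at r4 h3
    generalize max 6 (rootAux B (n - 2) (Nat.log2 B / (n - 2) + 1) 0 + 1) = Q at r4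
    simp only [Bool.and_eq_true, List.all_eq_true, Nat.ble_eq, Nat.blt_eq, List.mem_range, Bool.or_eq_true,
      bne_iff_ne] at r4
    obtain ⟨⟨f1, f2⟩, f3⟩ := r4
    by_cases hF : p ^ f < Q
    · rcases f3 _ hF with (h | h) | h
      · exact absurd h (not_le.2 (Nat.one_lt_pow hf.ne' hp.one_lt))
      · exact h (Nat.Coprime.pow_left _ ((Nat.Prime.coprime_iff_not_dvd hp).2 hpn))
      · rw [test_false c hal hU hv hN hd ha hkn (dvd_zero o) s1 s2 s3 h3] at h
        exact absurd h (by decide)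
    · have h4 : Q ≤ p ^ f := not_lt.1 hF
      exact absurd (((Nat.pow_le_pow_left h4 _).trans (pow_le_lmin hv (f1.trans h4))).trans h3) (not_le.2 f2)

end

end Cfsg.Agent.TH.Sim.SpR
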