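import Cfsg.Agent.TH.Sim.SporChk
import Cfsg.Agent.H940.EngLoc
import Cfsg.Agent.H912.Bd5
import Cfsg.Agent.H921.SporOrb
import Cfsg.Agent.H203.LSDef

/-!
# S3541, box `BoxSimSpor` (helper67): from the groups to the numbers

`Deg X r m z` : a lower bound for the degrees of the projective representations; `Row X` : no example with `N ≅ X`;
`row_of` : the row from the checker.
-/

set_option autoImplicit false

namespace Cfsg.Agent.TH.Sim.SpR

open Cfsg.Agent.TH.Sv Cfsg.Agent.H940.Eng Cfsg.Agent.OrdDiv Cfsg.Agent.H912.Bd Cfsg.Agent.H921.Spor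
open scoped commutatorElement

/-- the degree is at least `m` if `p ≠ r`, unless `r` divides `z` and the order of the kernel -/
structure Deg (X : Type) [Group X] (r m z : ℕ) : Prop where
  prime : r.Prime
  bd : ∀ (F : Type) [Field F], (r : F) ≠ 0 → ∀ (n : ℕ) (L : Type) [Group L] [Finite L] (ψ : L →* X)
    (ρ : L →* GL (Fin n) F), IsStemExtension ψ → commutator L = ⊤ → Function.Injective ρ →
      m ≤ n ∨ (r ∣ Nat.card ψ.ker ∧ r ∣ z)

section deg

variable {X : Type} [Group X] {r m z : ℕ}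

theorem Deg.of_bd (hr : r.Prime) (h : ∀ (F : Type) [Field F], (r : F) ≠ 0 → Bd F r m X) : Deg X r m 0 :=
  ⟨hr, fun F _ hF n L _ _ ψ ρ h1 _ h3 => by
    by_cases hd : r ∣ Nat.card ψ.ker
    · exact Or.inr ⟨hd, dvd_zero _⟩
    · refine Or.inl (h F hF n ⟨L, inferInstance, ψ, ρ, h1.1, fun x hx y => (Subgroup.mem_center_iff.1 (h1.2.1 hx) y).symm,
        ((Nat.Prime.coprime_iff_not_dvd hr).2 hd).symm, ?_⟩)
      rw [(MonoidHom.ker_eq_bot_iff ρ).2 h3]
      exact bot_le⟩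

theorem Deg.of_orb (hr : isPrimeB r = true) (h : Orb r m X) : Deg X r m 0 :=
  Deg.of_bd (prime_of hr) fun _ _ hF => h.bd (prime_of hr) hF

theorem Deg.of_conf (hr : isPrimeB r = true) (h : Conf r m X) : Deg X r m 0 :=
  Deg.of_bd (prime_of hr) fun _ _ hF => h.bd (prime_of hr) hF

theorem Deg.of_ls (hna : ¬ ∀ a b : X, a * b = b * a) (hr : isPrimeB r = true) (h : H203.LS.LS.{0, 0, 0} r m X) :
    Deg X r m 1 :=
  ⟨prime_of hr, fun F _ hF n L _ _ ψ ρ h1 h2 h3 => Or.inl (h L ψ h1.1 h1.2.1 h2 F hF n ρ fun e => hna fun a b => by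
    obtain ⟨a, rfl⟩ := h1.1 a
    rw [h3 (show ρ a = ρ 1 by rw [e]; rfl), map_one, one_mul, mul_one])⟩

theorem Deg.schur (h : Deg X r m 0) (hz : HasCyclicSchurMultiplier X z) : Deg X r m z :=
  ⟨h.prime, fun F _ hF n L _ _ ψ ρ h1 h2 h3 => (h.bd F hF n L ψ ρ h1 h2 h3).imp_right fun h4 => ⟨h4.1, by
    obtain ⟨f, hf⟩ := hz.2 L ψ h1
    have := Subgroup.card_dvd_of_surjective f hf
    rw [Nat.card_congr Multiplicative.toAdd, Nat.card_zmod] at this
    exact h4.1.trans this⟩⟩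

theorem Deg.le (h : Deg X r m z) (hX : commutator X = ⊤) {T : Type} [Group T] {p k n : ℕ} (hp : p.Prime)
    (hT : ProjRep p k n T) (f : X →* T) (hf : Function.Injective f) : r = p ∨ m ≤ n ∨ (r ∣ n ∧ r ∣ z) := by
  obtain ⟨F, _, _, _, S, π, -, h1, h2⟩ := hT
  by_contra hc
  push Not at hc
  obtain ⟨c1, c2, c3⟩ := hc
  have hr := h.prime
  have hF : (r : F) ≠ 0 := fun e =>
    c1 ((Nat.prime_dvd_prime_iff_eq hp hr).1 ((CharP.cast_eq_zero_iff F p r).1 e)).symm
  let K : Subgroup S := f.range.comap π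
  let φ : K →* X := (MonoidHom.ofInjective hf).symm.toMonoidHom.comp ((π.comp K.subtype).codRestrict f.range fun x => x.2)
  have e1 : ∀ x : K, f (φ x) = π x := fun x => MonoidHom.apply_ofInjective_symm hf _
  have e2 : Function.Surjective φ := fun y => by
    obtain ⟨x, hx⟩ := h1 (f y)
    exact ⟨⟨x, ⟨y, hx.symm⟩⟩, hf ((e1 _).trans hx)⟩
  have e3 : ∀ x : K, φ x = 1 → ((x : S) : GL (Fin n) F) ∈ Cfsg.Geo.scalars (Fin n) F := fun x hx =>
    (h2 x).1 (by rw [← e1, hx, map_one])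
  have e4 : ∀ x : K, φ x = 1 → ∀ y : K, x * y = y * x := fun x hx y =>
    Subtype.ext (Subtype.ext (scalars_comm (e3 x hx)))
  let L : Subgroup K := commutator K
  let ψ : L →* X := φ.comp L.subtype
  have e5 : Function.Surjective ψ := fun y => by
    have h3 : L.map φ = ⊤ := by
      rw [show L = commutator K from rfl, map_commutator_eq, MonoidHom.range_eq_top.2 e2]
      exact hX
    obtain ⟨x, hx, rfl⟩ : y ∈ L.map φ := h3 ▸ Subgroup.mem_top y
    exact ⟨⟨x, hx⟩, rfl⟩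
  have e6 : ∀ x : L, ψ x = 1 → ∀ y : L, x * y = y * x := fun x hx y => Subtype.ext (e4 x hx y)
  have e7 : commutator L = ⊤ := by
    have h3 : L ≤ (commutator L).map L.subtype := by
      refine Subgroup.commutator_le.2 fun a _ b _ => ?_
      obtain ⟨a', ha⟩ := e5 (φ a)
      obtain ⟨b', hb⟩ := e5 (φ b)
      have h4 := e4 ((a' : K)⁻¹ * a) (by rw [map_mul, map_inv, ← ha]; exact inv_mul_cancel _)
      have h5 := e4 ((b' : K)⁻¹ * b) (by rw [map_mul, map_inv, ← hb]; exact inv_mul_cancel _)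
      refine ⟨⁅a', b'⁆, Subgroup.commutator_mem_commutator (Subgroup.mem_top _) (Subgroup.mem_top _), ?_⟩
      change (a' : K) * b' * (a' : K)⁻¹ * (b' : K)⁻¹ = a * b * a⁻¹ * b⁻¹
      have h6 : a = a' * ((a' : K)⁻¹ * a) := by group
      have h7 : b = b' * ((b' : K)⁻¹ * b) := by group
      generalize (a' : K)⁻¹ * a = u at h4 h6
      generalize (b' : K)⁻¹ * b = v at h5 h7
      rw [h6, h7]
      calc (a' : K) * b' * (a' : K)⁻¹ * (b' : K)⁻¹ = a' * (b' * u) * u⁻¹ * ((a' : K)⁻¹ * v) * v⁻¹ * (b' : K)⁻¹ := by group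
        _ = a' * (u * b') * u⁻¹ * (v * (a' : K)⁻¹) * v⁻¹ * (b' : K)⁻¹ := by rw [h4, h5]
        _ = a' * (u * b') * (u⁻¹ * v) * (a' : K)⁻¹ * v⁻¹ * (b' : K)⁻¹ := by group
        _ = a' * (u * b') * (v * u⁻¹) * (a' : K)⁻¹ * v⁻¹ * (b' : K)⁻¹ := by rw [h5]
        _ = _ := by group
    rw [eq_top_iff]
    intro x _
    obtain ⟨y, hy, h4⟩ := h3 x.2
    rwa [← (Subtype.ext h4 : y = x)]
  let ρ : L →* GL (Fin n) F := S.subtype.comp (K.subtype.comp L.subtype)
  have e8 : Function.Injective ρ := fun a b hab => Subtype.ext (Subtype.ext (Subtype.ext hab))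
  rcases h.bd F hF n L ψ ρ ⟨e5, fun x hx => Subgroup.mem_center_iff.2 fun y => (e6 x hx y).symm, e7 ▸ le_top⟩ e7 e8
    with h3 | ⟨hd, h3⟩
  · exact absurd h3 (not_le.2 c2)
  · refine c3 ?_ h3
    have : Fact r.Prime := ⟨hr⟩
    obtain ⟨x, hx⟩ := exists_prime_orderOf_dvd_card' r hd
    rw [← hx]
    apply orderOf_dvd_of_pow_eq_one
    obtain ⟨c, hc⟩ := (Cfsg.Geo.mem_scalars_iff _).1 (e3 (x : L) x.2)
    have h4 : Matrix.GeneralLinearGroup.det (ρ (x : L)) = 1 :=
      Abelianization.commutator_subset_ker ((Matrix.GeneralLinearGroup.det : GL (Fin n) F →* Fˣ).comp ρ)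
        (e7 ▸ Subgroup.mem_top _)
    have h5 : ((ρ (x : L) : GL (Fin n) F) : Matrix (Fin n) (Fin n) F).det = 1 := congrArg Units.val h4
    have hc' : ((ρ (x : L) : GL (Fin n) F) : Matrix (Fin n) (Fin n) F) = (c : F) • 1 := hc
    rw [hc', Matrix.det_smul, Matrix.det_one, mul_one, Fintype.card_fin] at h5
    refine Subtype.ext (e8 (Units.ext ?_))
    rw [SubgroupClass.coe_pow, map_pow, Units.val_pow_eq_pow_val, hc', smul_pow, one_pow, h5, one_smul]
    rfl

/-- the test for the Frobenius group `r : m` -/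
def frob (l : List (ℕ × ℕ)) (n : ℕ) (ld : LD) (m : ℕ) : Bool :=
  isPrimeB ld.r && n % ld.r == 0 && n % ld.r ^ 2 != 0 && (l.all fun x => isPrimeB x.1) &&
    prodl (l.map fun x => (x.1, val x.1 x.2 ld.C)) == ld.C &&
      cnP n ld.r (l.map fun x => (x.1, val x.1 x.2 ld.C)) fun c y => ld.N % y != 0 || Nat.ble (m * c) y

theorem Deg.of_loc {l : List (ℕ × ℕ)} {n : ℕ} {ords : List ℕ} {loc : List LD} (c : Ctx X l n ords loc)
    (hna : ¬ ∀ a b : X, a * b = b * a) {ld : LD} (hl : ld ∈ loc) (h : frob l n ld m = true) : Deg X ld.r m 0 := by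
  classical
  have := c.fin
  have := c.simple
  unfold frob at h
  simp only [Bool.and_eq_true, beq_iff_eq] at h
  obtain ⟨⟨⟨⟨⟨h1, h2⟩, h3⟩, h4⟩, h5⟩, h6⟩ := h
  have hr := prime_of h1
  have : Fact ld.r.Prime := ⟨hr⟩
  obtain ⟨R, hR⟩ := exists_card_eq (G := X) h1 (c.card ▸ Nat.dvd_of_mod_eq_zero h2)
  obtain ⟨l1, l2⟩ := (c.loc ld hl).2.2.2 R hR
  have h7 := cnP_sound hna c.card h1 h3 (by rw [List.all_map]; exact h4) hR (h5.symm ▸ l1) h6 hR
  rw [Nat.mod_eq_zero_of_dvd l2] at h7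
  simp only [bne_self_eq_false, Bool.false_or, Nat.ble_eq] at h7
  refine Deg.of_bd hr fun F _ hF => ?_
  set N := Subgroup.normalizer (R : Set X)
  set C := Subgroup.centralizer (R : Set X)
  have hcyc : IsCyclic R := isCyclic_of_prime_card hR
  have hinj : Function.Injective fun y : N ⧸ C.subgroupOf N => ((y.out : N) : X) := fun a b hab =>
    Quotient.out_injective (Subtype.ext hab)
  have := Fintype.ofFinite (N ⧸ C.subgroupOf N)
  refine (bd_of_free hr hF R (fun a ha b hb => ?_) (IsPGroup.of_card (n := 1) (by rw [hR, pow_one])) (fun e => ?_)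
    (Finset.univ.image fun y : N ⧸ C.subgroupOf N => ((y.out : N) : X)) ?_ ?_).mono ?_
  · exact congrArg Subtype.val (hcyc.commGroup.mul_comm (⟨a, ha⟩ : R) ⟨b, hb⟩)
  · rw [e, Subgroup.card_bot] at hR
    exact hr.one_lt.ne hR
  · intro s hs e he
    obtain ⟨y, -, rfl⟩ := Finset.mem_image.1 hs
    exact (Subgroup.mem_normalizer_iff.1 y.out.2 e).1 he
  · intro s hs t ht hst e he h8
    obtain ⟨y, -, rfl⟩ := Finset.mem_image.1 hs
    obtain ⟨y', -, rfl⟩ := Finset.mem_image.1 ht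
    by_contra h9
    refine hst (congrArg (fun w : N ⧸ C.subgroupOf N => ((w.out : N) : X)) ?_)
    rw [← Quotient.out_eq y, ← Quotient.out_eq y']
    refine QuotientGroup.eq.2 (Subgroup.mem_subgroupOf.2 fun u hu => ?_)
    have h10 : (⟨u, hu⟩ : R) ∈ Subgroup.zpowers (⟨e, he⟩ : R) :=
      mem_zpowers_of_prime_card hR fun h => h9 (congrArg Subtype.val h)
    obtain ⟨i, hi⟩ := h10
    have h11 : e ^ i = u := congrArg Subtype.val hi
    have h12 : Commute e (((y.out : N) : X)⁻¹ * (y'.out : N)) := by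
      change e * _ = _ * e
      calc e * (((y.out : N) : X)⁻¹ * (y'.out : N))
          = ((y.out : N) : X)⁻¹ * ((y.out : N) * e * ((y.out : N) : X)⁻¹) * (y'.out : N) := by group
        _ = _ := by rw [h8]; group
    rw [← h11]
    exact (h12.zpow_left i).eq
  · rw [Finset.card_image_of_injective _ hinj, Finset.card_univ, ← Nat.card_eq_fintype_card]
    have h8 := (C.subgroupOf N).card_mul_index
    rw [Nat.card_congr (Subgroup.subgroupOfEquivOfLe (Subgroup.centralizer_le_normalizer (R : Set X))).toEquiv] at h8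
    rw [← h8, mul_comm] at h7
    exact Nat.le_of_mul_le_mul_left h7 Nat.card_pos

end deg

/-- no example with `N ≅ X` -/
def Row (X : Type) [Group X] : Prop :=
  ∀ (G : Type) [Group G] [Finite G] (T H N : Subgroup G) (m p : ℕ), LieCtx T H m p → Sim T H N → IsCl p ↥T →
    (N ≃* X) → False

section

variable {G : Type} [Group G] [Finite G] {T H N : Subgroup G} {m c : ℕ}

omit [Finite G] in
theorem le_cent (hT : AS T) (hc : ∀ M : Subgroup T, M ≠ ⊤ → c ≤ M.index) {x : G} (hx : x ≠ 1) :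
    c ≤ (Subgroup.centralizer {x}).relIndex T := by
  refine hc _ fun h => hx ?_
  rw [← Subgroup.mem_bot, ← hT.cent]
  intro t ht
  have h1 : (⟨t, ht⟩ : T) ∈ (Subgroup.centralizer {x}).subgroupOf T := h ▸ Subgroup.mem_top _
  exact (h1 x rfl).symm

theorem le_norm (hT : AS T) (hc : ∀ M : Subgroup T, M ≠ ⊤ → c ≤ M.index) {s : ℕ} (hs : s.Prime) {P : Subgroup G}
    (h0 : P ≠ ⊥) (hP : IsPGroup s P) : c ≤ (Subgroup.normalizer (P : Set G)).relIndex T := by
  refine hc _ fun h => h0 ?_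
  have := hT.simple
  have := hT.normal
  have : Fact s.Prime := ⟨hs⟩
  have h1 : ∀ t ∈ T, ∀ x ∈ P, t * x * t⁻¹ ∈ P := fun t ht x hx =>
    (Subgroup.mem_normalizer_iff.1 (show (⟨t, ht⟩ : T) ∈ (Subgroup.normalizer (P : Set G)).subgroupOf T from
      h ▸ Subgroup.mem_top _) x).1 hx
  have h2 : (P.subgroupOf T).Normal := ⟨fun x hx t => h1 t t.2 x hx⟩
  rcases h2.eq_bot_or_eq_top with h3 | h3
  · rw [eq_bot_iff, ← hT.cent]
    intro x hx t ht
    have h4 : t * (x * t⁻¹ * x⁻¹) ∈ T := mul_mem ht (hT.normal.conj_mem _ (inv_mem ht) x)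
    have h5 : (⟨_, h4⟩ : T) ∈ P.subgroupOf T := by
      change t * (x * t⁻¹ * x⁻¹) ∈ P
      rw [← mul_assoc, ← mul_assoc]
      exact mul_mem (h1 t ht x hx) (inv_mem hx)
    rw [h3, Subgroup.mem_bot] at h5
    have h6 : t * (x * t⁻¹ * x⁻¹) = 1 := congrArg Subtype.val h5
    calc t * x = t * (x * t⁻¹ * x⁻¹) * (x * t) := by group
      _ = x * t := by rw [h6, one_mul]
  · have h4 : IsPGroup s T := hP.of_injective (Subgroup.inclusion (Subgroup.subgroupOf_eq_top.1 h3))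
      (Subgroup.inclusion_injective _)
    have := h4.isNilpotent
    exact absurd ⟨⟨(IsSimpleGroup.comm_iff_isSolvable (G := T)).2 inferInstance⟩⟩ hT.nonab

theorem card_inf (hS : Sim T H N) {o : ℕ} (ho : Nat.card (Out N) ∣ o) :
    ∃ k, k ∣ o ∧ Nat.card ↥(H ⊓ T) = k * Nat.card N := by
  have h1 : H ⊓ T ≤ Subgroup.normalizer (N : Set G) := le_normalizer_of_conj fun a ha => hS.nrm a ha.1
  have h2 : Function.Injective (N.normalizerMonoidHom.comp (Subgroup.inclusion h1)) := by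
    rw [injective_iff_map_eq_one]
    intro a ha
    refine Subtype.ext (hS.cent a a.2.2 fun x hx => ?_)
    have h3 := congrArg Subtype.val (MulEquiv.congr_fun ha ⟨x, hx⟩)
    exact mul_inv_eq_iff_eq_mul.1 h3
  have h3 := Subgroup.card_dvd_of_injective _ h2
  rw [Subgroup.card_eq_card_quotient_mul_card_subgroup (Inn N)] at h3
  have h4 : Nat.card (Inn N) ∣ Nat.card N := Subgroup.card_range_dvd _
  obtain ⟨k, hk⟩ := Subgroup.card_dvd_of_le hS.le
  refine ⟨k, Nat.dvd_of_mul_dvd_mul_left (Nat.card_pos (α := N)) ?_, by rw [hk, mul_comm]⟩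
  rw [← hk, mul_comm]
  exact h3.trans (mul_dvd_mul ho h4)

end

/-- **the row from the checker** -/
theorem row_of (hC : BoxClDat) (hN : BoxNec) {X : Type} [Group X] (D : Dat) (c : Ctx X D.l D.n D.ords D.loc)
    (hal : ∀ U : Subgroup X, U.index ∉ D.allow) {o : ℕ} (ho : Nat.card (Out X) ∣ o) (hk : ∀ k, k ∣ o → k ∈ D.ks)
    (hdeg : (¬ ∀ a b : X, a * b = b * a) → ∀ x ∈ D.degs, Deg X x.1 x.2.1 x.2.2) (hm : main D = true) : Row X := by
  intro G _ _ T H N m p hL hS hP e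
  obtain ⟨t, n, f, d⟩ := hC G T H m p hL hP
  have := c.simple
  have hna : ¬ ∀ a b : X, a * b = b * a := fun h => hS.nonab ⟨⟨fun a b => e.injective (by rw [map_mul, map_mul, h])⟩⟩
  have hX : commutator X = ⊤ := (inferInstance : (commutator X).Normal).eq_bot_or_eq_top.resolve_left fun h =>
    hna fun a b => commutatorElement_eq_one_iff_mul_comm.1 (Subgroup.mem_bot.1
      (h ▸ Subgroup.commutator_mem_commutator (Subgroup.mem_top a) (Subgroup.mem_top b)))
  have h1 := hN G T H m _ _ (fun _ => lminCl t n (p ^ f)) hL.as hL.half (fun x _ hx => le_cent hL.as d.lmin hx)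
    (fun x _ hx => le_cent hL.as d.lmin hx) fun s hs P _ h0 hP => le_norm hL.as d.lmin hs h0 hP
  rw [d.card] at h1
  have hNH : N ≤ H := hS.le.trans inf_le_left
  obtain ⟨g, -, hg⟩ := hL.half.exists_not_le (N := N) (fun h => by
    have := hS.simple.toNontrivial
    exact (Subgroup.nontrivial_iff_ne_bot N).1 this h) hNH
  have h2 := hL.half.relIndex_dvd_d₂ hNH hS.nrm le_rfl (fun a ha => hS.nrm a (hNH ha)) g
  obtain ⟨k, k1, k2⟩ := card_inf hS (o := o) (by
    rwa [Nat.card_congr (QuotientGroup.congr (Inn N) (Inn X) (MulAut.congr e) (by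
      ext φ
      constructor
      · rintro ⟨_, ⟨a, rfl⟩, rfl⟩
        exact ⟨e a, by ext x; simp⟩
      · rintro ⟨a, rfl⟩
        exact ⟨MulAut.conj (e.symm a), ⟨_, rfl⟩, by ext x; simp⟩)).toEquiv])
  rw [Nat.card_congr e.toEquiv, c.card] at k2
  have h3 : (((cj g H).subgroupOf N).map e.toMonoidHom).index = (cj g H).relIndex N :=
    Subgroup.index_map_of_bijective e.bijective _
  refine no_cfg c hal hm (U := ((cj g H).subgroupOf N).map e.toMonoidHom) (fun h => hg ?_) hL.prime d.pos d.valid h1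
    (h3 ▸ h2) (hk k k1) k2 d.out ?_ ?_
  · rw [← Subgroup.relIndex_eq_one, ← h3, h, Subgroup.index_top]
  · rw [← d.card, ← hL.as.card_inf_mul hL.half, Nat.mul_div_cancel_left _ Nat.card_pos]
    exact hL.dvd_index
  · unfold degOK
    simp only [List.all_eq_true, Bool.or_eq_true, beq_iff_eq, Nat.ble_eq, Bool.and_eq_true]
    intro x hx
    rcases (hdeg hna x hx).le hX hL.prime d.rep ((Subgroup.inclusion (hS.le.trans inf_le_right)).comp e.symm.toMonoidHom)
      ((Subgroup.inclusion_injective (hS.le.trans inf_le_right)).comp e.symm.injective) with h | h | h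
    · exact Or.inl (Or.inl h)
    · exact Or.inl (Or.inr h)
    · exact Or.inr ⟨Nat.mod_eq_zero_of_dvd h.1, Nat.mod_eq_zero_of_dvd h.2⟩

/-- the data from the local data `loc`, the degrees `ms` of the Frobenius groups and the other bounds `ex` -/
def mkD (l : List (ℕ × ℕ)) (n : ℕ) (ords : List ℕ) (loc : List LD) (allow : List ℕ) (o : ℕ) (ms : List ℕ)
    (ex : List (ℕ × ℕ × ℕ)) (jk : ℕ) : Dat :=
  ⟨l, n, ords, loc, allow, (List.range (o + 1)).filter fun k => o % k == 0,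
    ((loc.zip ms).map fun x => (x.1.r, x.2, 0)) ++ ex, jk⟩

def full (l : List (ℕ × ℕ)) (n : ℕ) (ords : List ℕ) (loc : List LD) (allow : List ℕ) (o : ℕ) (ms : List ℕ)
    (ex : List (ℕ × ℕ × ℕ)) (jk : ℕ) : Bool :=
  Nat.blt 0 o && ((loc.zip ms).all fun x => frob l n x.1 x.2) && main (mkD l n ords loc allow o ms ex jk)

theorem row_full (hC : BoxClDat) (hN : BoxNec) {X : Type} [Group X] {l : List (ℕ × ℕ)} {n : ℕ} {ords : List ℕ}
    {loc : List LD} (c : Ctx X l n ords loc) {allow : List ℕ} (hal : ∀ U : Subgroup X, U.index ∉ allow) {o : ℕ}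
    (ho : Nat.card (Out X) ∣ o) {ms : List ℕ} {ex : List (ℕ × ℕ × ℕ)} {jk : ℕ}
    (hex : (¬ ∀ a b : X, a * b = b * a) → ∀ x ∈ ex, Deg X x.1 x.2.1 x.2.2)
    (hm : full l n ords loc allow o ms ex jk = true) : Row X := by
  unfold full at hm
  simp only [Bool.and_eq_true, Nat.blt_eq, List.all_eq_true] at hm
  obtain ⟨⟨h0, h1⟩, h2⟩ := hm
  refine row_of hC hN (mkD l n ords loc allow o ms ex jk) c hal ho (fun k hk => ?_)
    (fun hna x hx => ?_) h2
  · exact List.mem_filter.2 ⟨List.mem_range.2 (Nat.lt_succ_of_le (Nat.le_of_dvd h0 hk)),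
      beq_iff_eq.2 (Nat.mod_eq_zero_of_dvd hk)⟩
  · rcases List.mem_append.1 hx with h | h
    · obtain ⟨y, hy, rfl⟩ := List.mem_map.1 h
      exact Deg.of_loc c hna (List.of_mem_zip hy).1 (h1 y hy)
    · exact hex hna x h

theorem Row.congr {X Y : Type} [Group X] [Group Y] (h : Row X) (e : Y ≃* X) : Row Y :=
  fun G _ _ T H N m p hL hS hP f => h G T H N m p hL hS hP (f.trans e)

theorem out_congr {X Y : Type} [Group X] [Group Y] (e : X ≃* Y) : Nat.card (Out X) = Nat.card (Out Y) :=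
  Nat.card_congr (QuotientGroup.congr (Inn X) (Inn Y) (MulAut.congr e) (by
    ext φ
    constructor
    · rintro ⟨_, ⟨a, rfl⟩, rfl⟩
      exact ⟨e a, by ext x; simp⟩
    · rintro ⟨a, rfl⟩
      exact ⟨MulAut.conj (e.symm a), ⟨_, rfl⟩, by ext x; simp⟩)).toEquiv

theorem nil_allow {X : Type} [Group X] (U : Subgroup X) : U.index ∉ ([] : List ℕ) := List.not_mem_nil

theorem nil_deg {X : Type} [Group X] (_ : ¬ ∀ a b : X, a * b = b * a) :
    ∀ x ∈ ([] : List (ℕ × ℕ × ℕ)), Deg X x.1 x.2.1 x.2.2 := fun _ h => absurd h List.not_mem_nil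

theorem one_deg {X : Type} [Group X] {r m z : ℕ} (h : (¬ ∀ a b : X, a * b = b * a) → Deg X r m z)
    (hna : ¬ ∀ a b : X, a * b = b * a) : ∀ x ∈ [(r, m, z)], Deg X x.1 x.2.1 x.2.2 := fun _ hx =>
  List.mem_singleton.1 hx ▸ h hna

end Cfsg.Agent.TH.Sim.SpR
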