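import Cfsg.Agent.TH.Sv.ClDat
import Cfsg.Agent.H940.Engine

/-!
# S3541, box `BoxSimSpor` (helper67): arithmetic of the classical orders

* `WW_dvd` : `∏_{i ≤ j} (q ^ (2 i) - 1)` divides twice the order;
* `pow_lbW_dvd` : the power of a prime `s ∤ q` which always divides this product;
* `pow_le_lmin` : `q ^ (n - 2)` is at most the least index.
-/

set_option autoImplicit false

namespace Cfsg.Agent.TH.Sim.SpR

open Cfsg.Agent.TH.Sv Cfsg.Agent.H940.Eng

/-- `∏_{i = 1}^j (q ^ (2 i) - 1)` -/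
def WW (q j : ℕ) : ℕ := prd (fun i => q ^ (2 * i) - 1) 1 j

/-- the number of factors -/
def jj (t n : ℕ) : ℕ := if t ≤ 3 then n / 2 else n / 2 - 1

theorem prd_succ (f : ℕ → ℕ) (a k : ℕ) : prd f a (k + 1) = prd f a k * f (a + k) := rfl

theorem WW_succ (q j : ℕ) : WW q (j + 1) = WW q j * (q ^ (2 * (1 + j)) - 1) := rfl

theorem WW_mono (q : ℕ) {j j' : ℕ} (h : j ≤ j') : WW q j ∣ WW q j' := by
  induction h with
  | refl => exact dvd_rfl
  | step _ ih => rw [WW_succ]; exact ih.mul_right _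

theorem WW_mul_dvd {q : ℕ} {f : ℕ → ℕ} (hf : ∀ i, f (2 * i) = q ^ (2 * i) - 1) (k : ℕ) :
    WW q ((k + 3) / 2) * f 3 ∣ prd f 2 (k + 2) := by
  induction k with
  | zero =>
    have h1 : prd f 2 (0 + 2) = 1 * f (2 * 1) * f 3 := rfl
    have h2 : WW q ((0 + 3) / 2) = 1 * (q ^ (2 * 1) - 1) := rfl
    rw [h1, h2, hf]
  | succ k ih =>
    rw [show k + 1 + 2 = (k + 2) + 1 from rfl, prd_succ]
    rcases Nat.even_or_odd' k with ⟨c, rfl | rfl⟩
    · rw [show (2 * c + 1 + 3) / 2 = (c + 1) + 1 by omega, WW_succ, show 2 + (2 * c + 2) = 2 * (1 + (c + 1)) by ring, hf,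
        mul_right_comm]
      rw [show (2 * c + 3) / 2 = c + 1 by omega] at ih
      exact Nat.mul_dvd_mul_right ih _
    · rw [show (2 * c + 1 + 1 + 3) / 2 = (2 * c + 1 + 3) / 2 by omega]
      exact ih.mul_right _

theorem dvd_div_aux {w u g x P : ℕ} (hg : 0 < g) (h1 : g ∣ u) (h2 : w * u ∣ P) : w ∣ 2 * (x * P / g) := by
  obtain ⟨a, rfl⟩ := h1
  obtain ⟨b, rfl⟩ := h2
  rw [show x * (w * (g * a) * b) = g * (w * (x * a * b)) by ring, Nat.mul_div_cancel_left _ hg]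
  exact Dvd.dvd.mul_left (Dvd.intro _ rfl) 2

theorem valid_three {t n q : ℕ} (h : validCl t n q = true) : 3 ≤ n ∧ t < 6 ∧ validCl t n 7 = true := by
  unfold validCl at h ⊢
  split_ifs at h ⊢ <;> simp only [Bool.and_eq_true, decide_eq_true_eq, Bool.not_eq_true', Bool.and_eq_false_iff,
    decide_eq_false_iff_not, and_true] at h ⊢ <;> omega

theorem WW_dvd {t n q : ℕ} (h : validCl t n q = true) : WW q (jj t n) ∣ 2 * ordCl t n q := by
  obtain ⟨h3, -, -⟩ := valid_three h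
  obtain ⟨k, rfl⟩ : ∃ k, n = k + 3 := ⟨n - 3, by omega⟩
  unfold ordCl jj
  by_cases h0 : t = 0
  · rw [if_pos h0, if_pos (by omega)]
    refine dvd_div_aux (Nat.gcd_pos_of_pos_left _ (by omega)) ((Nat.gcd_dvd_right _ _).trans ?_)
      (WW_mul_dvd (f := fun i => q ^ i - 1) (fun _ => rfl) k)
    exact Nat.sub_one_dvd_pow_sub_one q 3
  rw [if_neg h0]
  by_cases h1 : t = 1
  · rw [if_pos h1, if_pos (by omega)]
    refine dvd_div_aux (Nat.gcd_pos_of_pos_left _ (by omega)) ((Nat.gcd_dvd_right _ _).trans ?_)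
      (WW_mul_dvd (f := um q) (fun i => by unfold um; rw [if_pos (by omega)]) k)
    exact ⟨q ^ 2 - q + 1, by
      have h4 : um q 3 = q ^ 3 + 1 := rfl
      have h5 : q ≤ q ^ 2 := Nat.le_self_pow (by norm_num) q
      rw [h4]
      zify [h5]
      ring⟩
  rw [if_neg h1]
  by_cases h2 : t ≤ 3
  · rw [if_pos h2, if_pos h2]
    change WW q _ ∣ 2 * (_ * WW q _ / _)
    have h4 : Nat.gcd 2 (q - 1) ∣ WW q ((k + 3) / 2) := by
      refine ((Nat.gcd_dvd_right _ _).trans (Nat.sub_one_dvd_pow_sub_one q (2 * (1 + 0)))).trans ?_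
      exact (Dvd.intro_left _ (WW_succ q 0).symm).trans (WW_mono q (by omega))
    obtain ⟨c, hc⟩ := Nat.gcd_dvd_left 2 (q - 1)
    have h5 : 0 < Nat.gcd 2 (q - 1) := Nat.gcd_pos_of_pos_left _ (by norm_num)
    generalize Nat.gcd 2 (q - 1) = g at *
    obtain ⟨w, hw⟩ := h4
    generalize q ^ ((k + 3) / 2 * ((k + 3) / 2)) = x
    rw [hw, mul_left_comm _ g w, Nat.mul_div_cancel_left _ h5, hc]
    exact ⟨c * x, by ring⟩
  rw [if_neg h2, if_neg h2]
  split_ifs
  · rw [mul_assoc]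
    exact dvd_div_aux (Nat.gcd_pos_of_pos_left _ (by norm_num)) (Nat.gcd_dvd_right _ _) (by rw [mul_comm]; rfl)
  · rw [mul_assoc]
    exact dvd_div_aux (Nat.gcd_pos_of_pos_left _ (by norm_num)) (Nat.gcd_dvd_right _ _) (by rw [mul_comm]; rfl)

theorem val_dvd (p : ℕ) : ∀ f n : ℕ, p ^ val p f n ∣ n := by
  intro f
  induction f with
  | zero => intro n; exact one_dvd n
  | succ f ih =>
    intro n
    unfold val
    split_ifs with h
    · obtain ⟨k, rfl⟩ := Nat.dvd_of_mod_eq_zero (beq_iff_eq.1 h)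
      rcases Nat.eq_zero_or_pos p with rfl | hp
      · simp
      · rw [Nat.mul_div_cancel_left _ hp, pow_succ']
        exact Nat.mul_dvd_mul_left _ (ih k)
    · exact one_dvd n

/-- the exponent of `s` in `q ^ (2 i) - 1` -/
def ex (s i : ℕ) : ℕ := if s = 2 then 3 + val 2 i i else if 2 * i % (s - 1) = 0 then 1 + val s i i else 0

/-- the exponent of `s` in `WW q j` -/
def lbW (s : ℕ) : ℕ → ℕ
  | 0 => 0
  | j + 1 => lbW s j + ex s (1 + j)

theorem lbW_realised : True := by have := @lbW.eq_def; trivial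

theorem two_pow_dvd {x : ℤ} (h : (8 : ℤ) ∣ x - 1) (k : ℕ) : (2 : ℤ) ^ (3 + k) ∣ x ^ 2 ^ k - 1 := by
  induction k with
  | zero => simpa using h
  | succ k ih =>
    have h1 : x ^ 2 ^ (k + 1) - 1 = (x ^ 2 ^ k - 1) * (x ^ 2 ^ k - 1 + 2) := by ring
    rw [h1, ← add_assoc, pow_succ]
    refine mul_dvd_mul ih (dvd_add (dvd_trans ?_ ih) dvd_rfl)
    exact dvd_pow_self _ (by omega)

theorem pow_ex_dvd {s q : ℕ} (hs : s.Prime) (h : ¬ s ∣ q) (i : ℕ) : s ^ ex s i ∣ q ^ (2 * i) - 1 := by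
  have hq : 1 ≤ q ^ (2 * i) := Nat.one_le_pow _ _ (Nat.pos_of_ne_zero (by rintro rfl; exact h (dvd_zero _)))
  rw [← Int.natCast_dvd_natCast]
  push_cast [hq]
  unfold ex
  split_ifs with h2 h3
  · subst h2
    obtain ⟨c, hc⟩ := val_dvd 2 i i
    generalize val 2 i i = v at *
    have h4 : (8 : ℤ) ∣ (q : ℤ) ^ 2 - 1 := by
      obtain ⟨r, rfl⟩ : ∃ r, q = 2 * r + 1 := ⟨q / 2, by omega⟩
      obtain ⟨u, hu⟩ := Int.even_mul_succ_self (r : ℤ)
      exact ⟨u, by push_cast; linear_combination 4 * hu⟩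
    refine (two_pow_dvd h4 v).trans ?_
    rw [hc, pow_mul, pow_mul]
    exact sub_one_dvd_pow_sub_one _ c
  · have h4 : (s - 1) * s ^ val s i i ∣ 2 * i := by
      refine Nat.Coprime.mul_dvd_of_dvd_of_dvd (Nat.Coprime.pow_right _ ?_) (Nat.dvd_of_mod_eq_zero h3)
        ((val_dvd s i i).mul_left 2)
      exact (Nat.coprime_self_sub_left hs.one_le).2 (Nat.coprime_one_left _)
    generalize val s i i = v at *
    obtain ⟨c, hc⟩ := h4
    have h5 : (s : ℤ) ∣ (q : ℤ) ^ (s - 1) - 1 := by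
      have h6 := Nat.ModEq.pow_totient ((Nat.coprime_comm.1 ((Nat.Prime.coprime_iff_not_dvd hs).2 h)))
      rw [Nat.totient_prime hs] at h6
      have h7 := h6.symm.dvd
      push_cast at h7
      exact h7
    have h6 := dvd_sub_pow_of_dvd_sub h5 v
    rw [one_pow] at h6
    rw [add_comm]
    refine h6.trans ?_
    rw [hc, pow_mul, pow_mul]
    exact sub_one_dvd_pow_sub_one _ c
  · exact one_dvd _

theorem pow_lbW_dvd {s q : ℕ} (hs : s.Prime) (h : ¬ s ∣ q) (j : ℕ) : s ^ lbW s j ∣ WW q j := by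
  induction j with
  | zero => exact one_dvd _
  | succ j ih =>
    rw [WW_succ, show lbW s (j + 1) = lbW s j + ex s (1 + j) from rfl, pow_add]
    exact mul_dvd_mul ih (pow_ex_dvd hs h _)

theorem geo_le {q : ℕ} (hq : 1 ≤ q) (k : ℕ) : q ^ k * (q - 1) ≤ q ^ (k + 1) - 1 := by
  have h1 : 1 ≤ q ^ k := Nat.one_le_pow _ _ hq
  rw [Nat.mul_sub_one, pow_succ]
  omega

theorem um_ge (q i : ℕ) : q ^ i - 1 ≤ um q i := by
  unfold um
  split_ifs <;> omega

theorem pow_le_lmin {t n q : ℕ} (h : validCl t n q = true) (hq : 6 ≤ q) : q ^ (n - 2) ≤ lminCl t n q := by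
  have h1 : 1 ≤ q := by omega
  have h2 : 0 < q - 1 := by omega
  have hm : ∀ a b : ℕ, a ≤ b → q ^ a ≤ q ^ b := fun a b hab => Nat.pow_le_pow_right h1 hab
  have hL : ∀ k, 3 ≤ k → q ^ (k - 2) ≤ (q ^ k - 1) / (q - 1) := fun k hk => by
    rw [Nat.le_div_iff_mul_le h2]
    refine (geo_le h1 _).trans (Nat.sub_le_sub_right (hm _ _ (by omega)) 1)
  obtain ⟨h3, -, -⟩ := valid_three h
  unfold validCl at h
  unfold lminCl
  by_cases h0 : t = 0
  · rw [if_pos h0]
    exact hL n h3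
  rw [if_neg h0] at h ⊢
  by_cases t1 : t = 1
  · rw [if_pos t1]
    split_ifs with a1 a2 a3 a4
    · omega
    · exact (hm _ 3 (by omega)).trans (Nat.le_succ _)
    · exact ((hm _ 3 (by omega)).trans (Nat.le_succ _)).trans (Nat.le_mul_of_pos_left _ (by omega))
    · omega
    · have h4 : 1 < q ^ 2 := Nat.one_lt_pow (by norm_num) (by omega)
      have h5 : 1 < q ^ (n - 1) := Nat.one_lt_pow (by omega) (by omega)
      have h6 : 1 ≤ q ^ (n - 2) := Nat.one_le_pow _ _ h1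
      have h7 := um_ge q n
      have h8 := um_ge q (n - 1)
      rw [Nat.le_div_iff_mul_le (by omega)]
      refine le_trans ?_ (Nat.le_mul_of_pos_right _ (by omega))
      rw [Nat.mul_sub_one, ← pow_add, show n - 2 + 2 = n by omega]
      omega
  rw [if_neg t1] at h ⊢
  by_cases t2 : t = 2
  · rw [if_pos t2, if_neg (by omega), if_neg (by omega)]
    exact hL n h3
  rw [if_neg t2] at h ⊢
  by_cases t3 : t = 3
  · rw [if_pos t3, if_neg (by omega), Nat.le_div_iff_mul_le h2]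
    exact (geo_le h1 _).trans (Nat.sub_le_sub_right (hm _ _ (by omega)) 1)
  rw [if_neg t3] at h ⊢
  simp only [Bool.and_eq_true, decide_eq_true_eq] at h
  obtain ⟨m, rfl⟩ : ∃ m, n = 2 * (m + 2) := ⟨n / 2 - 2, by omega⟩
  rw [show 2 * (m + 2) / 2 = m + 2 by omega, show m + 2 - 1 = m + 1 by omega]
  by_cases t4 : t = 4
  · rw [if_pos t4, if_neg (by omega), if_neg (by omega), Nat.le_div_iff_mul_le h2,
      show 2 * (m + 2) - 2 = (m + 1) + (m + 1) by omega, pow_add, mul_right_comm]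
    exact Nat.mul_le_mul (geo_le h1 _) (Nat.le_succ _)
  · rw [if_neg t4, Nat.le_div_iff_mul_le h2, show 2 * (m + 2) - 2 = (m + 2) + m by omega, pow_add, mul_assoc]
    exact Nat.mul_le_mul (Nat.le_succ _) (geo_le h1 _)

end Cfsg.Agent.TH.Sim.SpR
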