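import Cfsg.Agent.TH.Sim.SporTool
import Cfsg.Agent.TH.Sim.SporDatA
import Cfsg.Agent.H715.Fpr.M11
import Cfsg.Agent.H715.Fpr.M12
import Cfsg.Agent.H715.Fpr.M22
import Cfsg.Agent.H715.Fpr.M23
import Cfsg.Agent.H715.Fpr.M24
import Cfsg.Agent.H921.SporMore
import Cfsg.Agent.H305.SepJ1
import Cfsg.Agent.H305.SepJ2
import Cfsg.Agent.H305.SepJ3
import Cfsg.Agent.H940.RowJ4
import Cfsg.Agent.S2034
import Cfsg.Agent.S2060
import Cfsg.Agent.S2061
import Cfsg.Agent.S2062
import Cfsg.Agent.S2063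
import Cfsg.Agent.S2064
import Cfsg.Agent.S2065
import Cfsg.Agent.S2066
import Cfsg.Agent.S2067
import Cfsg.Agent.S2068

/-!
# S3541, box `BoxSimSpor` (helper67): the rows of the Mathieu and Janko groups
-/

set_option autoImplicit false

namespace Cfsg.Agent.TH.Sim.SpR

open Cfsg.Agent.TH.Sv Cfsg.Agent.H940.Eng Cfsg.Agent.H921.Spor

variable (hC : BoxClDat) (hN : BoxNec) (B : Base)
include hC hN B

theorem row_m11 : Row Spor.M11 := row_full hC hN (H715.Fpr.M11.ctx B) nil_allow S2060.result.dvd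
  (one_deg fun _ => (Deg.of_conf (by decide) M24.M11_three).schur S2034.result) chk_m11

theorem row_m12 : Row Spor.M12 := row_full hC hN (H715.Fpr.M12.ctx B) nil_allow S2061.result.dvd
  (one_deg fun _ => Deg.of_conf (by decide) M24.M12_three) chk_m12

theorem row_m22 : Row Spor.M22 := row_full hC hN (H715.Fpr.M22.ctx B) nil_allow S2062.result.dvd
  (one_deg fun _ => Deg.of_orb (by decide) M24.M22_three) chk_m22

theorem row_m23 : Row Spor.M23 := row_full hC hN (H715.Fpr.M23.ctx B) nil_allow S2063.result.dvd nil_deg chk_m23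

theorem row_m24 : Row Cfsg.M24 := row_full hC hN (H715.Fpr.M24.ctx B) nil_allow S2064.result.dvd nil_deg chk_m24

theorem row_j1 : Row Spor.J1 := row_full hC hN (H305.SepJ1.ctx B) nil_allow S2065.result.dvd nil_deg chk_j1

theorem row_j2 : Row Spor.J2 := row_full hC hN (H305.SepJ2.ctx B) j2_index S2066.result.dvd nil_deg chk_j2

theorem row_j3 {F : Type} [Field F] [Fintype F] (hF : Fintype.card F = 4) {ω : F} (hω : ω ^ 2 + ω + 1 = 0) :
    Row (Spor.J3 F ω) :=
  row_full hC hN (H305.SepJ3.ctx B ⟨F, inferInstance, inferInstance, ω, hF, hω, ⟨MulEquiv.refl _⟩⟩) nil_allow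
    (S2067.result hF ω hω).dvd nil_deg chk_j3

theorem row_j4 : Row Spor.J4 := row_full hC hN (H940.RowJ4.ctx B) nil_allow S2068.result.dvd nil_deg chk_j4

end Cfsg.Agent.TH.Sim.SpR
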