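import Cfsg.Agent.TH.Sim.SporGrp
import Cfsg.Agent.TH.GenLoc
import Cfsg.Agent.H940.EngData
import Cfsg.Agent.LThreeFi23.TwoCl
import Cfsg.Agent.H921.SporJ2

/-!
# S3541, box `BoxSimSpor` (helper67): tools for the rows

`ctx_nil`, `ctx_one` : contexts; `le_index` : indices from the degrees; `j2_index` : `J₂` has no subgroup of index 35.
-/

set_option autoImplicit false
set_option maxRecDepth 100000

namespace Cfsg.Agent.TH.Sim.SpR

open Subgroup Cfsg.Agent.H940.Eng Cfsg.Agent.OrdDiv Cfsg.Agent.LThreeFi23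

section

variable {X : Type} [Group X] {l : List (ℕ × ℕ)} {n : ℕ} {ords : List ℕ}

theorem Row.of_simple (h : IsSimpleGroup X → (¬ ∀ a b : X, a * b = b * a) → Row X) : Row X :=
  fun G _ _ T H N m p hL hS hP e => h (by have := hS.simple; exact e.symm.isSimpleGroup)
    (fun h => hS.nonab ⟨⟨fun a b => e.injective (by rw [map_mul, map_mul, h])⟩⟩) G T H N m p hL hS hP e

theorem ex_of (h : ¬ ∀ a b : X, a * b = b * a) : ∃ a b : X, a * b ≠ b * a := by
  by_contra hc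
  exact h fun a b => by_contra fun h1 => hc ⟨a, b, h1⟩

theorem ctx_nil (hs : IsSimpleGroup X) (hc : Nat.card X = n) (hv : valid l n = true) (hd : (l.map fun x => x.1).Nodup)
    (ho : Ords.{0} n ords) : Ctx X l n ords [] :=
  ⟨Nat.finite_of_card_ne_zero (by rw [hc, ← valid_prod hv]; exact (prodl_pos (valid_prime hv)).ne'), hs, hc, hv, hd, ho,
    fun _ h => absurd h List.not_mem_nil⟩

theorem ctx_one (c : Ctx X l n ords []) (hna : ¬ ∀ a b : X, a * b = b * a) {r C : ℕ} (fC : List (ℕ × ℕ))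
    {fN : List (ℕ × ℕ)} (hx : ∃ x : X, orderOf x = r ∧ Nat.card (centralizer ({x} : Set X)) = C)
    (h : (isPrimeB r && n % r ^ 2 != 0 && (fC.all fun x => isPrimeB x.1) && prodl fC == C &&
      (fN.all fun x => isPrimeB x.1) && cnP n r fC fun c m => C % c == 0 && prodl fN % m == 0) = true) :
    Ctx X l n ords [⟨r, C, fN⟩] := by
  simp only [Bool.and_eq_true, beq_iff_eq] at h
  obtain ⟨⟨⟨⟨⟨h1, h2⟩, h3⟩, h4⟩, h5⟩, h6⟩ := h
  obtain ⟨x, x1, x2⟩ := hx
  have := c.fin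
  have := c.simple
  refine ⟨c.fin, c.simple, c.card, c.val, c.nodup, c.ords, fun ld hl => ?_⟩
  rw [List.mem_singleton.1 hl]
  refine loc_of_cent hna c.card h1 h2 h3 (R0 := zpowers x) (by rw [Nat.card_zpowers, x1]) ?_ h5 h6
  rw [H904.SylOne.centralizer_zpowers_eq, x2, h4]

theorem two_deg {r m z r' m' z' : ℕ} (h : (¬ ∀ a b : X, a * b = b * a) → Deg X r m z)
    (h' : (¬ ∀ a b : X, a * b = b * a) → Deg X r' m' z') (hna : ¬ ∀ a b : X, a * b = b * a) :
    ∀ x ∈ [(r, m, z), (r', m', z')], Deg X x.1 x.2.1 x.2.2 := fun _ hx => by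
  rcases List.mem_cons.1 hx with rfl | hx
  · exact h hna
  · exact List.mem_singleton.1 hx ▸ h' hna

/-- the permutation representation -/
theorem le_index [Finite X] [IsSimpleGroup X] (hna : ¬ ∀ a b : X, a * b = b * a) {r d : ℕ} (hr : r ≠ 0)
    (h : H203.LS.LS.{0, 0, 0} r d X) {U : Subgroup X} (hU : U ≠ ⊤) : d ≤ U.index := by
  classical
  have hX : commutator X = ⊤ := (inferInstance : (commutator X).Normal).eq_bot_or_eq_top.resolve_left fun h =>
    hna fun a b => commutatorElement_eq_one_iff_mul_comm.1 (Subgroup.mem_bot.1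
      (h ▸ Subgroup.commutator_mem_commutator (Subgroup.mem_top a) (Subgroup.mem_top b)))
  let e : X ⧸ U ≃ Fin U.index := Finite.equivFinOfCardEq rfl
  let σ : X →* Equiv.Perm (Fin U.index) := e.permCongrHom.toMonoidHom.comp (MulAction.toPermHom X (X ⧸ U))
  refine h X (MonoidHom.id X) Function.surjective_id (fun x hx => ?_) hX ℚ (by exact_mod_cast hr) _
    ((Matrix.permMatrixHom (R := ℚ)).comp σ).toHomUnits fun h1 => hU ?_
  · rw [show x = 1 from hx]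
    exact one_mem _
  rw [eq_top_iff]
  intro g _
  have h2 : (σ g⁻¹)⁻¹.permMatrix ℚ = 1 := congrArg Units.val (DFunLike.congr_fun h1 g⁻¹)
  have h3 := congrFun (congrFun h2 (e (1 : X))) (e (1 : X))
  rw [map_inv, inv_inv] at h3
  have h4 : σ g (e (1 : X)) = e (1 : X) := by
    by_contra h5
    simp [Equiv.Perm.permMatrix, PEquiv.toMatrix_apply, Equiv.toPEquiv_apply, h5] at h3
  have h5 : g • ((1 : X) : X ⧸ U) = (1 : X) := e.injective (by simpa [σ] using h4)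
  have h6 := QuotientGroup.eq.1 (show (((g * 1 : X)) : X ⧸ U) = (1 : X) from h5).symm
  rwa [inv_one, one_mul, mul_one] at h6

theorem mem_of_zpow {a : X} (ha : a ^ 5 = 1) {D : ℤ} (hD : ¬ (5 : ℤ) ∣ D) {S : Subgroup X} (h : a ^ D ∈ S) : a ∈ S := by
  obtain ⟨k, hk⟩ : ∃ k : ℤ, (5 : ℤ) ∣ D * k - 1 := by
    rcases (show D % 5 = 1 ∨ D % 5 = 2 ∨ D % 5 = 3 ∨ D % 5 = 4 by omega) with h1 | h1 | h1 | h1
    · exact ⟨1, by omega⟩
    · exact ⟨3, by omega⟩
    · exact ⟨2, by omega⟩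
    · exact ⟨4, by omega⟩
  have h1 := S.zpow_mem h k
  rwa [← zpow_mul, zpow_eq_of_mod ha hk, zpow_one] at h1

theorem aniso : ∀ u v : ZMod 5, 4 * u ^ 2 - 2 * v ^ 2 = 0 → u = 0 ∧ v = 0 := by decide

/-- the Frobenius group `5² : 3` -/
theorem ne_35 [Finite X] (hX : Nat.card X = 604800) {a b y : X} (hab : Commute a b) (ha : a ^ 5 = 1) (hb : b ^ 5 = 1)
    (ha1 : a ≠ 1) (hba : b ∉ zpowers a) (hy : y ^ 3 = 1) (h1 : y * a * y⁻¹ = a ^ 2 * b ^ 4)
    (h2 : y * b * y⁻¹ = a ^ 2 * b ^ 2) (U : Subgroup X) : U.index ≠ 35 := by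
  intro hU
  have : Fact (Nat.Prime 5) := ⟨by norm_num⟩
  have : Fact (Nat.Prime 3) := ⟨by norm_num⟩
  have h25 := pairSub_card hab ha hb ha1 hba
  have hp : ∀ i j k : ℤ, (a ^ i * b ^ j) ^ k = a ^ (i * k) * b ^ (j * k) := fun i j k => by
    rw [((hab.zpow_left i).zpow_right j).mul_zpow, zpow_mul, zpow_mul]
  have hm : ∀ i j i' j' : ℤ, a ^ i * b ^ j * (a ^ i' * b ^ j') = a ^ (i + i') * b ^ (j + j') := fun i j i' j' => by
    rw [zpow_add, zpow_add, mul_assoc, ← mul_assoc (b ^ j), ← ((hab.zpow_left i').zpow_right j).eq]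
    simp only [mul_assoc]
  have hc : ∀ i j : ℤ, y * (a ^ i * b ^ j) * y⁻¹ = a ^ (2 * i + 2 * j) * b ^ (4 * i + 2 * j) := fun i j => by
    rw [← hm, ← hp, ← hp]
    have h3 : y * a * y⁻¹ = a ^ (2 : ℤ) * b ^ (4 : ℤ) := by rw [h1]; norm_cast
    have h4 : y * b * y⁻¹ = a ^ (2 : ℤ) * b ^ (2 : ℤ) := by rw [h2]; norm_cast
    rw [← h3, ← h4, conj_zpow, conj_zpow]
    group
  set E := pairSub a b hab with hE
  have hS : ∀ ω : X ⧸ U, ¬ E ≤ MulAction.stabilizer X ω := fun ω h => by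
    have h3 := (MulAction.stabilizer X ω).card_mul_index
    rw [MulAction.index_stabilizer_of_transitive, hX, show Nat.card (X ⧸ U) = 35 from hU] at h3
    have h4 := h25.trans (Subgroup.card_dvd_of_le h)
    omega
  let A : Set (X ⧸ U) := {ω | ∃ e ∈ E, e ≠ 1 ∧ e • ω = ω}
  have hinv : ∀ g : X, (∀ e ∈ E, g * e * g⁻¹ ∈ E) → ∀ ω ∈ A, g • ω ∈ A := fun g hg ω ⟨e, e1, e2, e3⟩ =>
    ⟨_, hg e e1, fun h => e2 (by simpa using h), by rw [mul_smul, mul_smul, inv_smul_smul, e3]⟩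
  have hyE : ∀ e ∈ E, y * e * y⁻¹ ∈ E := by
    rintro _ ⟨i, j, rfl⟩
    exact ⟨_, _, hc i j⟩
  have hfix : ∀ ω ∈ A, y • ω ≠ ω := by
    rintro ω ⟨_, ⟨i, j, rfl⟩, e2, e3⟩ h
    have h3 : a ^ i * b ^ j ∈ MulAction.stabilizer X ω := e3
    have h4 : y ∈ MulAction.stabilizer X ω := h
    have h5 := mul_mem (mul_mem h4 h3) (inv_mem h4)
    rw [hc] at h5
    have h6 := mul_mem (zpow_mem h3 (4 * i + 2 * j)) (zpow_mem h5 (-j))
    have h7 := mul_mem (zpow_mem h3 (-(2 * i + 2 * j))) (zpow_mem h5 i)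
    rw [hp, hp, hm] at h6 h7
    rw [show j * (4 * i + 2 * j) + (4 * i + 2 * j) * -j = 0 by ring, zpow_zero, mul_one,
      show i * (4 * i + 2 * j) + (2 * i + 2 * j) * -j = 4 * i ^ 2 - 2 * j ^ 2 by ring] at h6
    rw [show i * -(2 * i + 2 * j) + (2 * i + 2 * j) * i = 0 by ring, zpow_zero, one_mul,
      show j * -(2 * i + 2 * j) + (4 * i + 2 * j) * i = 4 * i ^ 2 - 2 * j ^ 2 by ring] at h7
    have h8 : ¬ (5 : ℤ) ∣ 4 * i ^ 2 - 2 * j ^ 2 := fun h9 => by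
      have h10 := (ZMod.intCast_zmod_eq_zero_iff_dvd _ 5).2 h9
      push_cast at h10
      obtain ⟨h11, h12⟩ := aniso _ _ h10
      have h13 := (ZMod.intCast_zmod_eq_zero_iff_dvd _ 5).1 h11
      have h14 := (ZMod.intCast_zmod_eq_zero_iff_dvd _ 5).1 h12
      refine e2 ?_
      rw [zpow_eq_of_mod ha (j := 0) (by simpa using h13), zpow_eq_of_mod hb (j := 0) (by simpa using h14), zpow_zero,
        zpow_zero, mul_one]
    refine hS ω ?_
    rintro _ ⟨u, v, rfl⟩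
    exact mul_mem (zpow_mem (mem_of_zpow ha h8 h6) u) (zpow_mem (mem_of_zpow hb h8 h7) v)
  have h3 : 3 ∣ A.ncard := by
    refine Gen.dvd_ncard (L := zpowers y) A (Set.toFinite _) ?_ fun ω hω => ?_
    · rintro ⟨g, hg⟩ ω hω
      obtain ⟨k, rfl⟩ := mem_powers_iff_mem_zpowers.2 hg
      change y ^ k • ω ∈ A
      clear hg
      induction k with
      | zero => rwa [pow_zero, one_smul]
      | succ k ih =>
        rw [pow_succ', mul_smul]
        exact hinv y hyE _ ih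
    · have h4 : y ≠ 1 := fun h => hfix ω hω (by rw [h, one_smul])
      rw [Nat.card_coe_set_eq, ← MulAction.index_stabilizer]
      have h5 := (MulAction.stabilizer (zpowers y) ω).index_dvd_card
      rw [Nat.card_zpowers, orderOf_eq_prime hy h4] at h5
      refine ((Nat.dvd_prime Nat.prime_three).1 h5).resolve_left fun h6 => hfix ω hω ?_
      have h7 : (⟨y, mem_zpowers y⟩ : zpowers y) ∈ MulAction.stabilizer (zpowers y) ω :=
        index_eq_one.1 h6 ▸ mem_top _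
      exact h7
  have h4 : Nat.card E ∣ Aᶜ.ncard := by
    refine Gen.dvd_ncard (L := E) Aᶜ (Set.toFinite _) (fun g ω hω h => hω ?_) fun ω hω => ?_
    · have h5 := hinv (g : X)⁻¹ (fun e he => mul_mem (mul_mem (inv_mem g.2) he) (inv_mem (inv_mem g.2))) _ h
      rwa [show g • ω = (g : X) • ω from rfl, inv_smul_smul] at h5
    · rw [Nat.card_coe_set_eq, ← MulAction.index_stabilizer, show MulAction.stabilizer E ω = ⊥ from
        eq_bot_iff.2 fun e he => by_contra fun h => hω ⟨e, e.2, fun h5 => h (Subtype.ext h5), he⟩, index_bot]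
  have h5 := Set.ncard_add_ncard_compl A
  rw [show Nat.card (X ⧸ U) = 35 from hU] at h5
  have h6 := h25.trans h4
  omega

end

section J2

open Cfsg.Agent.H921.Spor Cfsg.Agent.H921.Spor.J2 Cfsg.Agent.H921.Spor.Wd

def wa : List ℕ := [0, 3, 4, 2, 3, 2, 1, 0, 3, 4, 3, 1, 2, 3, 2, 1, 4, 3, 1, 2, 0, 1, 3, 0, 1, 2]

def wb : List ℕ := [4, 3, 0, 1, 2, 0, 3, 2, 3, 2, 1, 0, 2, 3, 2, 4, 1, 3, 2, 1, 0, 3, 4, 1, 3, 4, 2, 3, 0, 1, 2, 0, 1, 3,
  2, 3, 2, 4, 1, 0, 3, 1, 2, 3, 4]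

def wy : List ℕ := [1, 0, 3, 4, 2, 0, 1, 0, 2, 4, 3, 2, 1, 2, 3, 4, 1, 2, 1, 3, 2, 0, 1, 0, 2]

theorem chk_w : (wd.eq (wa ++ wb) (wb ++ wa) && wd.eq (rep wa 5) [] && wd.eq (rep wb 5) [] && wd.ne wa &&
    ((List.range 5).all fun i => wd.ne (rep wa i ++ wb)) && wd.eq (rep wy 3) [] &&
    wd.eq (wy ++ wa) (rep wa 2 ++ rep wb 4 ++ wy) && wd.eq (wy ++ wb) (rep wa 2 ++ rep wb 2 ++ wy)) = true := by
  decide +kernel

/-- **`J₂` has no subgroup of index 35.** -/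
theorem j2_index (U : Subgroup Spor.J2) : U.index ∉ [35] := by
  obtain ⟨e⟩ := exists_iso
  have hc : Nat.card SporadicA.J2Hundred.G = 604800 := by
    rw [← Nat.card_congr e.toEquiv]
    exact S1619.result.2.2.2
  have : Finite SporadicA.J2Hundred.G := Nat.finite_of_card_ne_zero (by rw [hc]; norm_num)
  have h := chk_w
  simp only [Bool.and_eq_true, List.all_eq_true, List.mem_range] at h
  obtain ⟨⟨⟨⟨⟨⟨⟨c1, c2⟩, c3⟩, c4⟩, c5⟩, c6⟩, c7⟩, c8⟩ := h
  have h1 : wd.W wa ^ 5 = 1 := by rw [← W_rep, wd.eq_sound c2, wd.nil]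
  rw [List.mem_singleton, ← Subgroup.index_map_of_bijective (f := e.toMonoidHom) e.bijective]
  refine ne_35 hc (a := wd.W wa) (b := wd.W wb) (y := wd.W wy) ?_ h1 ?_ (wd.ne_sound c4) ?_ ?_ ?_ ?_ _
  · change _ * _ = _ * _
    rw [← wd.app, wd.eq_sound c1, wd.app]
  · rw [← W_rep, wd.eq_sound c3, wd.nil]
  · rintro ⟨k, hk⟩
    have h2 : (-k % 5).toNat < 5 := by omega
    refine wd.ne_sound (c5 _ h2) ?_
    rw [wd.app, W_rep, ← hk, ← zpow_natCast, ← zpow_add, zpow_eq_of_mod h1 (j := 0) (by omega), zpow_zero]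
  · rw [← W_rep, wd.eq_sound c6, wd.nil]
  · rw [mul_inv_eq_iff_eq_mul, ← wd.app, wd.eq_sound c7, wd.app, wd.app, W_rep, W_rep]
  · rw [mul_inv_eq_iff_eq_mul, ← wd.app, wd.eq_sound c8, wd.app, wd.app, W_rep, W_rep]

end J2

end Cfsg.Agent.TH.Sim.SpR
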